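import Cfsg.Agent.Mrg.Omega.NOThreeL.RTools.One
import Mathlib

section


/-!
# NO-3L, box R, tools (R2), (R3) (#15623, helper691; referee #15774, helper709)

`Z = Ω₁(Z(S))`, `C_z = C_G(z)`, `z ∈ Z#`.

* `isLong` : `C_z` is long; `isLong_cent` : `C_G(E)` is long for `1 ≠ E ≤ Z`;
* `exists_mul` : `z ∈ Z ∩ Z^g` implies `g ∈ C_z N_G(S)`;
* (R2) `le_normalizer`, `le_normalizer_iff` : `C_z ≤ N_G(Z)` iff no `P ∈ P*(S)` lies in `C_z`; `ti` : then
  `z ∈ Z^g` implies `Z^g = Z`;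
* `conj_WP_of_normalizer` : `N_G(S)` normalises `WP S`;
* (R3) `WP_comm` : not (A): `Z^x ∩ Z^y ≠ 1` implies `[W^x, W^y] = 1`;
* (R3) `exists_crit` : not (A), all `C_Z(P) ≠ 1`: there are `z, z' ∈ Z#` and `x` with `F_{z'}^x ≤ Q`,
  `F_z ≤ Q^x`, `[F_z, F_{z'}^x] ≠ 1`, where `F_z = F_{C_z}` is elementary abelian and normal in `C_z`.
-/

set_option autoImplicit false

namespace Cfsg.Agent.Omega.NOThreeL.RTools

open Subgroup Cfsg Cfsg.Agent.ZN Cfsg.Agent.Omega.MinPar Cfsg.Agent.Omega.FFThm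
open Cfsg.Agent.Omega.Frame Cfsg.Agent.Omega.FrameNOFF Cfsg.Agent.Omega.Node.NO3L
open Cfsg.Agent.Omega.NoFF.Basic (conj_conj mem_conj conj_le_iff conj_le_centralizer comm_symm comm_mono)
open Cfsg.Agent.Omega.NOThreeL.Pair (conj_eq_of_mem conj_le_normalizer)
open Cfsg.Agent.Omega.NOThreeL.Basic
open Cfsg.Agent.MinSimple.VModule (zc_le o2_isPGroup le_normalizer_o2 normalizer_le_normalizer_zc)
open Cfsg.Agent.ZN.ChoiceSit (Syl exists_syl syl_conj)
open Cfsg.Agent.ZN.ChoiceBase (isPGroup_cj cj cj_cj cj_cj_inv cj_inv_cj)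
open scoped Pointwise

universe u

variable {G : Type u} [Group G]

theorem sq_of_mem_zc {S : Subgroup G} {z : G} (hz : z ∈ zc S) : z ^ 2 = 1 :=
  (Cfsg.Agent.MinSimple.VModule.mem_zc.1 hz).2.2

theorem le_centralizer_of_mem_zc {S : Subgroup G} {z : G} (hz : z ∈ zc S) :
    S ≤ centralizer ({z} : Set G) := by
  intro s hs
  rw [mem_centralizer_iff]
  rintro _ rfl
  exact ((Cfsg.Agent.MinSimple.VModule.mem_zc.1 hz).2.1 s hs).symm

/-- A nontrivial subgroup of `Z` has a long centraliser. -/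
theorem isLong_cent (S : Sylow 2 G) {E : Subgroup G} (hE : E ≤ zc (S : Subgroup G)) (hE1 : E ≠ ⊥) :
    IsLong (S : Subgroup G) (centralizer (E : Set G)) := by
  refine ⟨isLoc_of_le_normalizer S ?_ (S.isPGroup'.to_le (hE.trans (zc_le _))) hE1
    (centralizer_le_normalizer _), centralizer_le hE⟩
  exact (le_CZ S).trans (centralizer_le hE)

/-- `C_z` is long. -/
theorem isLong (S : Sylow 2 G) {z : G} (hz : z ∈ zc (S : Subgroup G)) (hz1 : z ≠ 1) :
    IsLong (S : Subgroup G) (centralizer ({z} : Set G)) :=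
  ⟨isLoc_centralizer S (sq_of_mem_zc hz) hz1 (le_centralizer_of_mem_zc hz),
    centralizer_le (Set.singleton_subset_iff.2 hz)⟩

theorem mem_conj_zc {S : Subgroup G} {z g : G} (h : z ∈ MulAut.conj g • zc S) :
    MulAut.conj g • S ≤ centralizer ({z} : Set G) := by
  intro s hs
  rw [mem_conj] at hs h
  rw [mem_centralizer_iff]
  rintro _ rfl
  have h1 := (Cfsg.Agent.MinSimple.VModule.mem_zc.1 h).2.1 _ hs
  have h2 := congrArg (fun t => g * t * g⁻¹) h1
  simpa [mul_assoc] using h2.symm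

section fin

variable [Finite G]

/-- **Two points through `z`**: `z ∈ Z ∩ Z^g` implies `g ∈ C_z N_G(S)`. -/
theorem exists_mul (S : Sylow 2 G) {z g : G} (hz : z ∈ zc (S : Subgroup G))
    (hg : z ∈ MulAut.conj g • zc (S : Subgroup G)) :
    ∃ c ∈ centralizer ({z} : Set G), ∃ n ∈ normalizer ((S : Subgroup G) : Set G), g = c * n := by
  have h1 : Syl (S : Subgroup G) (centralizer ({z} : Set G)) := syl_of_sylow S (le_centralizer_of_mem_zc hz)
  have h2 : Syl (cj g (S : Subgroup G)) (centralizer ({z} : Set G)) := by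
    refine ⟨mem_conj_zc hg, isPGroup_cj g S.isPGroup', fun Q _ hQ hSQ => ?_⟩
    have h3 : (S : Subgroup G) ≤ cj g⁻¹ Q := by
      have h4 := conj_le_iff (g := g⁻¹).2 hSQ
      have h5 : MulAut.conj g⁻¹ • cj g (S : Subgroup G) = S := cj_inv_cj g _
      rwa [h5] at h4
    have h4 := S.is_maximal' (isPGroup_cj g⁻¹ hQ) h3
    rw [← h4]
    exact (cj_cj_inv g Q).symm
  obtain ⟨c, hc, h3⟩ := syl_conj h1 h2
  refine ⟨c, hc, c⁻¹ * g, ?_, by group⟩
  have h4 : MulAut.conj (c⁻¹ * g) • (S : Subgroup G) = S := by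
    rw [← conj_conj]
    have h5 : MulAut.conj g • (S : Subgroup G) = cj c (S : Subgroup G) := h3.symm
    rw [h5]
    exact cj_inv_cj c _
  rw [mem_normalizer_iff]
  intro y
  constructor
  · intro hy
    rw [← h4, mem_conj]
    simpa [mul_assoc] using hy
  · intro hy
    rw [← h4, mem_conj] at hy
    simpa [mul_assoc] using hy

/-! ### (R2) -/

/-- **(R2)**: `C_z ≤ N_G(Z)` if no member of `P*(S)` lies in `C_z`. -/
theorem le_normalizer (S : Sylow 2 G) {z : G} (hz : z ∈ zc (S : Subgroup G)) (hz1 : z ≠ 1)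
    (h : ∀ P : Subgroup G, IsParS (S : Subgroup G) P → ¬ P ≤ centralizer ({z} : Set G)) :
    centralizer ({z} : Set G) ≤ normalizer (zc (S : Subgroup G) : Set G) := by
  refine (isLong S hz hz1).loc.le_of_forall S ?_ fun P hP hPz => ?_
  · exact inf_le_right.trans (normalizer_le_normalizer_zc _)
  · by_contra hcon
    exact h P ⟨hP, hcon⟩ hPz

/-- **(R2)**: `C_z ≰ N_G(Z)` iff `z ∈ E_P = C_Z(P)` for some `P ∈ P*(S)`. -/
theorem le_normalizer_iff (S : Sylow 2 G) {z : G} (hz : z ∈ zc (S : Subgroup G)) (hz1 : z ≠ 1) :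
    centralizer ({z} : Set G) ≤ normalizer (zc (S : Subgroup G) : Set G) ↔
      ∀ P : Subgroup G, IsParS (S : Subgroup G) P → ¬ P ≤ centralizer ({z} : Set G) :=
  ⟨fun h _ hP hPz => hP.not_zc (hPz.trans h), le_normalizer S hz hz1⟩

/-- **(R2)**: TI. -/
theorem ti (S : Sylow 2 G) {z g : G} (hz : z ∈ zc (S : Subgroup G))
    (h : centralizer ({z} : Set G) ≤ normalizer (zc (S : Subgroup G) : Set G))
    (hg : z ∈ MulAut.conj g • zc (S : Subgroup G)) :
    MulAut.conj g • zc (S : Subgroup G) = zc (S : Subgroup G) := by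
  obtain ⟨c, hc, n, hn, rfl⟩ := exists_mul S hz hg
  rw [← conj_conj, conj_eq_of_mem (normalizer_le_normalizer_zc _ hn), conj_eq_of_mem (h hc)]

/-- **(R2)**: if `C_Z(P) = 1` for all `P ∈ P*(S)` then `Z` is TI. -/
theorem ti_of_cz (S : Sylow 2 G)
    (h : ∀ P : Subgroup G, IsParS (S : Subgroup G) P →
      zc (S : Subgroup G) ⊓ centralizer (P : Set G) = ⊥) (g : G)
    (hg : zc (S : Subgroup G) ⊓ MulAut.conj g • zc (S : Subgroup G) ≠ ⊥) :
    MulAut.conj g • zc (S : Subgroup G) = zc (S : Subgroup G) := by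
  obtain ⟨⟨z, hz⟩, hz0⟩ := Subgroup.ne_bot_iff_exists_ne_one.1 hg
  have hz1 : z ≠ 1 := fun h0 => hz0 (Subtype.ext h0)
  refine ti S hz.1 (le_normalizer S hz.1 hz1 fun P hP hPz => hz1 ?_) hz.2
  have h1 : (z : G) ∈ zc (S : Subgroup G) ⊓ centralizer (P : Set G) :=
    mem_inf.2 ⟨hz.1, mem_centralizer_iff.2 fun p hp => (mem_centralizer_iff.1 (hPz hp) z rfl).symm⟩
  rw [h P hP, mem_bot] at h1
  exact h1

/-! ### `N_G(S)` normalises `WP S` -/

omit [Finite G] in
theorem conj_WP_of_normalizer (S : Sylow 2 G) {n : G}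
    (hn : n ∈ normalizer ((S : Subgroup G) : Set G)) :
    MulAut.conj n • WP (S : Subgroup G) = WP (S : Subgroup G) := by
  have key : ∀ n ∈ normalizer ((S : Subgroup G) : Set G),
      MulAut.conj n • WP (S : Subgroup G) ≤ WP (S : Subgroup G) := by
    intro n hn
    refine NoFF.Lines.conj_W_le fun P hP c hc => ?_
    have h1 : (n * c) = (n * c * n⁻¹) * n := by group
    have hz := conj_eq_of_mem (normalizer_le_normalizer_zc _ hn)
    have hnc : n * c * n⁻¹ ∈ CZ (S : Subgroup G) := by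
      rw [mem_centralizer_iff]
      intro z hz'
      have h2 : n⁻¹ * z * n ∈ zc (S : Subgroup G) :=
        (mem_normalizer_iff''.mp (normalizer_le_normalizer_zc _ hn) z).mp hz'
      have h3 := mem_centralizer_iff.1 hc _ h2
      have e : z * (n * c * n⁻¹) = n * ((n⁻¹ * z * n) * c) * n⁻¹ := by group
      rw [e, h3]
      group
    have hP' : IsParS (S : Subgroup G) (MulAut.conj n • P) := by
      have h5 := IsParS.map (MulAut.conj n) hP
      have h6 : (S : Subgroup G).map (MulAut.conj n).toMonoidHom = S := conj_eq_of_mem hn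
      rw [h6] at h5
      exact h5
    have hV : MulAut.conj n • zl (S : Subgroup G) P = zl (S : Subgroup G) (MulAut.conj n • P) := by
      apply le_antisymm
      · rw [← conj_le_iff (g := n⁻¹), conj_conj, inv_mul_cancel, map_one, one_smul]
        refine Cfsg.Agent.MinSimple.VModule.zl_le ?_ ?_
        · have h7 := Cfsg.Agent.MinSimple.VModule.zc_le_zl (S : Subgroup G) (MulAut.conj n • P)
          have h8 := conj_le_iff (g := n⁻¹).2 h7
          rwa [conj_eq_of_mem (inv_mem (normalizer_le_normalizer_zc _ hn))] at h8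
        · have h9 := conj_le_normalizer (g := n⁻¹)
            (Cfsg.Agent.MinSimple.VModule.le_normalizer_zl (S : Subgroup G) (MulAut.conj n • P))
          rwa [conj_conj, inv_mul_cancel, map_one, one_smul] at h9
      · refine Cfsg.Agent.MinSimple.VModule.zl_le ?_ ?_
        · have h7 := conj_le_iff (g := n).2 (Cfsg.Agent.MinSimple.VModule.zc_le_zl (S : Subgroup G) P)
          rwa [hz] at h7
        · exact conj_le_normalizer (Cfsg.Agent.MinSimple.VModule.le_normalizer_zl (S : Subgroup G) P)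
    have h4 := line_le_WP hP' hnc
    change MulAut.conj (n * c) • zl (S : Subgroup G) P ≤ _
    rw [h1, ← conj_conj, hV]
    exact h4
  apply le_antisymm (key n hn)
  have h1 := conj_le_iff (g := n).2 (key n⁻¹ (inv_mem hn))
  rwa [conj_conj, mul_inv_cancel, map_one, one_smul] at h1

/-! ### (R3) -/

variable {S : Sylow 2 G}

/-- `Z ∩ Z^g ∋ z`: `WP^g = WP^c` with `c ∈ C_z`. -/
theorem conj_WP_le_FH' {z g : G} (hz : z ∈ zc (S : Subgroup G))
    (hg : z ∈ MulAut.conj g • zc (S : Subgroup G)) :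
    MulAut.conj g • WP (S : Subgroup G) ≤ FH (S : Subgroup G) (centralizer ({z} : Set G)) := by
  obtain ⟨c, hc, n, hn, rfl⟩ := exists_mul S hz hg
  rw [← conj_conj, conj_WP_of_normalizer S hn]
  exact conj_WP_le_FH _ hc

/-- **(R3)** not (A): `Z^x ∩ Z^y ≠ 1` implies `[W^x, W^y] = 1`. -/
theorem WP_comm (hc : IsCharacteristicTwoType G) (D : Data (S : Subgroup G))
    (hA : ¬ CaseA (S : Subgroup G)) {x y z : G} (hz1 : z ≠ 1)
    (hx : z ∈ MulAut.conj x • zc (S : Subgroup G)) (hy : z ∈ MulAut.conj y • zc (S : Subgroup G)) :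
    MulAut.conj x • WP (S : Subgroup G) ≤
      centralizer ((MulAut.conj y • WP (S : Subgroup G) : Subgroup G) : Set G) := by
  have hz : y⁻¹ * z * y ∈ zc (S : Subgroup G) := mem_conj.1 hy
  have hz2 : y⁻¹ * z * y ≠ 1 := fun h0 => hz1 (by
    have h1 := congrArg (fun t => y * t * y⁻¹) h0
    simpa [mul_assoc] using h1)
  have hx' : y⁻¹ * z * y ∈ MulAut.conj (y⁻¹ * x) • zc (S : Subgroup G) := by
    rw [← conj_conj, mem_conj]
    simpa [mul_assoc] using hx
  have h1 := conj_WP_le_FH' hz hx'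
  have hy' : y⁻¹ * z * y ∈ MulAut.conj (1 : G) • zc (S : Subgroup G) := by
    rw [map_one, one_smul]
    exact hz
  have h2 := conj_WP_le_FH' hz hy'
  rw [map_one, one_smul] at h2
  have h3 := comm_mono (NotA.FH_comm hc D hA (isLong S hz hz2)) h1 h2
  have h4 := conj_le_centralizer (g := y) h3
  rwa [conj_conj, mul_inv_cancel_left] at h4

/-- `⟨C_z : z ∈ Z#⟩` is nonlocal if `C_Z(P) ≠ 1` for all `P ∈ P*(S)`. -/
theorem o2_iSup_eq_bot (hG : Ctx G) (hF : Full (S : Subgroup G))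
    (hE : ∀ P : Subgroup G, IsParS (S : Subgroup G) P →
      zc (S : Subgroup G) ⊓ centralizer (P : Set G) ≠ ⊥) :
    o2 (⨆ z : {z : G // z ∈ zc (S : Subgroup G) ∧ z ≠ 1}, centralizer ({(z : G)} : Set G)) = ⊥ := by
  have hex : ∀ P : Subgroup G, IsParS (S : Subgroup G) P →
      ∃ z : {z : G // z ∈ zc (S : Subgroup G) ∧ z ≠ 1}, P ≤ centralizer ({(z : G)} : Set G) := by
    intro P hP
    obtain ⟨a, ha⟩ := Subgroup.ne_bot_iff_exists_ne_one.1 (hE P hP)
    refine ⟨⟨a, (mem_inf.1 a.2).1, fun h0 => ha (Subtype.ext h0)⟩, fun p hp => ?_⟩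
    rw [mem_centralizer_iff]
    rintro _ rfl
    exact (mem_centralizer_iff.1 (mem_inf.1 a.2).2 p hp).symm
  refine eq_bot_of_norm hG S hF (o2_isPGroup _) (fun P hP => ?_) ?_
  · obtain ⟨z, hz⟩ := hex P hP
    exact (hz.trans (le_iSup (fun z : {z : G // z ∈ zc (S : Subgroup G) ∧ z ≠ 1} =>
      centralizer ({(z : G)} : Set G)) z)).trans (le_normalizer_o2 _)
  · obtain ⟨P, hP⟩ := hG.exists_isParS hF
    obtain ⟨z, hz⟩ := hex P hP
    exact ((isLong S z.2.1 z.2.2).cz.trans (le_iSup (fun z : {z : G // z ∈ zc (S : Subgroup G) ∧ z ≠ 1} =>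
      centralizer ({(z : G)} : Set G)) z)).trans (le_normalizer_o2 _)

/-- **(R3)**: a critical pair of the groups `F_z`, `z` an involution of some `Z^x`. -/
theorem exists_crit (hG : Ctx G) (hF : Full (S : Subgroup G)) (D : Data (S : Subgroup G))
    (hA : ¬ CaseA (S : Subgroup G))
    (hE : ∀ P : Subgroup G, IsParS (S : Subgroup G) P →
      zc (S : Subgroup G) ⊓ centralizer (P : Set G) ≠ ⊥) :
    ∃ z ∈ zc (S : Subgroup G), z ≠ 1 ∧ ∃ z' ∈ zc (S : Subgroup G), z' ≠ 1 ∧ ∃ x : G,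
      MulAut.conj x • FH (S : Subgroup G) (centralizer ({z'} : Set G)) ≤ o2 (CZ (S : Subgroup G)) ∧
      FH (S : Subgroup G) (centralizer ({z} : Set G)) ≤ MulAut.conj x • o2 (CZ (S : Subgroup G)) ∧
      ¬ FH (S : Subgroup G) (centralizer ({z} : Set G)) ≤
        centralizer ((MulAut.conj x • FH (S : Subgroup G) (centralizer ({z'} : Set G)) : Subgroup G) :
          Set G) := by
  have hc := hG.char2
  have hL : ∀ z : {z : G // z ∈ zc (S : Subgroup G) ∧ z ≠ 1},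
      IsLong (S : Subgroup G) (centralizer ({(z : G)} : Set G)) := fun z => isLong S z.2.1 z.2.2
  rcases PointStab.exists_crit_or (Z := zc (S : Subgroup G))
    (H := fun z : {z : G // z ∈ zc (S : Subgroup G) ∧ z ≠ 1} => centralizer ({(z : G)} : Set G))
    (U := fun z => FH (S : Subgroup G) (centralizer ({(z : G)} : Set G)))
    (fun z => (zc_le_WP hG hF).trans (WP_le_FH _ _)) (fun z => (hL z).cz)
    (fun z => le_normalizer_FH _ _) (fun z => (hL z).o2_le S)
    (fun z => NotA.FH_le_o2 D hA (hL z)) with h | h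
  · obtain ⟨i, j, x, -, h1, h2, h3⟩ := h
    exact ⟨i, i.2.1, i.2.2, j, j.2.1, j.2.2, x, h1, h2, h3⟩
  · exfalso
    -- the normal closure of one `F_z` is an abelian 2-group
    obtain ⟨P, hP⟩ := hG.exists_isParS hF
    obtain ⟨a, ha⟩ := Subgroup.ne_bot_iff_exists_ne_one.1 (hE P hP)
    let i₀ : {z : G // z ∈ zc (S : Subgroup G) ∧ z ≠ 1} :=
      ⟨a, (mem_inf.1 a.2).1, fun h0 => ha (Subtype.ext h0)⟩
    set X : Subgroup G := ⨆ z : {z : G // z ∈ zc (S : Subgroup G) ∧ z ≠ 1},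
      centralizer ({(z : G)} : Set G) with hX
    set N : Subgroup G := ⨆ x : X, MulAut.conj (x : G) • FH (S : Subgroup G) (centralizer ({(i₀ : G)} : Set G))
      with hN
    have hN1 : FH (S : Subgroup G) (centralizer ({(i₀ : G)} : Set G)) ≤ N := by
      have h1 := le_iSup (fun x : X => MulAut.conj (x : G) •
        FH (S : Subgroup G) (centralizer ({(i₀ : G)} : Set G))) 1
      simpa using h1
    have hcomm : N ≤ centralizer (N : Set G) := by
      refine iSup_le fun x => comm_symm (iSup_le fun y => comm_symm ?_)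
      have h1 := h i₀ i₀ ((x : G)⁻¹ * y) (mul_mem (inv_mem x.2) y.2)
      have h2 := conj_le_centralizer (g := (x : G)) h1
      rwa [conj_conj, mul_inv_cancel_left] at h2
    have hnorm : X ≤ normalizer (N : Set G) := by
      have key : ∀ g ∈ X, MulAut.conj g • N ≤ N := by
        intro g hg
        rw [← conj_le_iff (g := g⁻¹), conj_conj, inv_mul_cancel, map_one, one_smul]
        refine iSup_le fun x => ?_
        rw [← conj_le_iff (g := g), conj_conj, conj_conj, mul_inv_cancel, map_one, one_smul]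
        exact le_iSup (fun x : X => MulAut.conj (x : G) •
          FH (S : Subgroup G) (centralizer ({(i₀ : G)} : Set G))) ⟨g * x, mul_mem hg x.2⟩
      intro g hg
      have h1 : MulAut.conj g • N = N := by
        apply le_antisymm (key g hg)
        have h2 := conj_le_iff (g := g).2 (key g⁻¹ (inv_mem hg))
        rwa [conj_conj, mul_inv_cancel, map_one, one_smul] at h2
      rw [mem_normalizer_iff]
      intro y
      constructor
      · intro hy
        rw [← h1, mem_conj]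
        simpa [mul_assoc] using hy
      · intro hy
        rw [← h1, mem_conj] at hy
        simpa [mul_assoc] using hy
    have hpN : IsPGroup 2 N := by
      rintro ⟨y, hy⟩
      refine ⟨1, Subtype.ext ?_⟩
      have hsq : ∀ y ∈ N, y ^ 2 = 1 := by
        intro y hy
        refine (Subgroup.iSup_induction (S := fun x : X => MulAut.conj (x : G) •
          FH (S : Subgroup G) (centralizer ({(i₀ : G)} : Set G))) (C := fun y => y ^ 2 = 1 ∧ y ∈ N) hy ?_ ?_ ?_).1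
        · intro x t ht
          refine ⟨?_, (le_iSup (fun x : X => MulAut.conj (x : G) •
            FH (S : Subgroup G) (centralizer ({(i₀ : G)} : Set G))) x) ht⟩
          rw [mem_conj] at ht
          have h1 := NotA.FH_sq hc D hA (hL i₀) _ ht
          have h2 : (x : G) * (((x : G)⁻¹ * t * x) ^ 2) * (x : G)⁻¹ = t ^ 2 := by
            rw [pow_two, pow_two]
            group
          rw [← h2, h1]
          group
        · exact ⟨one_pow 2, one_mem _⟩
        · rintro s t ⟨hs, hs'⟩ ⟨ht, ht'⟩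
          refine ⟨?_, mul_mem hs' ht'⟩
          have h1 : s * t = t * s := mem_centralizer_iff.1 (hcomm ht') s hs'
          rw [(show Commute s t from h1).mul_pow, hs, ht, one_mul]
      simpa using hsq y hy
    have h2 : N ≤ o2 X := Cfsg.Agent.MinSimple.VModule.le_o2 ?_ hpN hnorm
    · have h3 := o2_iSup_eq_bot hG hF hE
      rw [← hX] at h3
      rw [h3, le_bot_iff] at h2
      rw [h2, le_bot_iff] at hN1
      have h4 := (zc_le_WP hG hF).trans (WP_le_FH (S : Subgroup G) (centralizer ({(i₀ : G)} : Set G)))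
      rw [hN1, le_bot_iff] at h4
      exact MinSimple.Basic.zc_ne_bot S.isPGroup' (hG.sylow_ne_bot S) h4
    · have hO : ∀ z, FH (S : Subgroup G) (centralizer ({((z : {z : G // z ∈ zc (S : Subgroup G) ∧ z ≠ 1}) : G)} : Set G)) ≤ X :=
        fun z => ((NotA.FH_le_o2 D hA (hL z)).trans (Cfsg.Agent.MinSimple.VModule.o2_le _)).trans
          (le_iSup (fun z : {z : G // z ∈ zc (S : Subgroup G) ∧ z ≠ 1} => centralizer ({(z : G)} : Set G)) z)
      refine iSup_le fun x => ?_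
      have h5 := conj_le_iff (g := (x : G)).2 (hO i₀)
      rwa [conj_eq_of_mem (Subgroup.le_normalizer x.2)] at h5

end fin

end Cfsg.Agent.Omega.NOThreeL.RTools

end

section


/-!
# NO-3L, box R, case (A) (#17122, helper858), (3): the form of the symplectic case (helper401)

`U` an elementary abelian group normalised by `H`, generated by the points `e^H`; `Y` a subgroup of index 2 of `U`
containing `e`, normalised by `C_H(e)`; `a ∈ H` acts on `U` as the transvection with axis `Y` and centre `e`.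

* `Tr.sym` : `p' ∈ Y_p` iff `p ∈ Y_p'`, for two points;
* `Tr.exists_form` : there is an `H`-invariant alternating form `B : G → G → ℤˣ` on `U`, with `Y = e^⊥`;
* `Tr.conn` : the points of `U` are connected by 'not perpendicular' (if `⟨a^H⟩` is transitive).
-/

set_option autoImplicit false

namespace Cfsg.Agent.Omega.NOThreeL.RTools.SpForm

open Subgroup

universe u

variable {G : Type u} [Group G]

/-- the points -/
def Pt (e : G) (H : Subgroup G) : Set G := {x | ∃ h ∈ H, x = h * e * h⁻¹}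

/-- one transvection `a`, centre `e`, axis `Y`, on `U = ⟨e^H⟩` -/
structure Tr (e a : G) (U Y H : Subgroup G) : Prop where
  sq : ∀ x ∈ U, x * x = 1
  comm : ∀ x ∈ U, ∀ y ∈ U, x * y = y * x
  nU : ∀ h ∈ H, ∀ x ∈ U, h * x * h⁻¹ ∈ U
  YU : Y ≤ U
  eY : e ∈ Y
  nY : ∀ k ∈ H, k * e = e * k → ∀ y ∈ Y, k * y * k⁻¹ ∈ Y
  aH : a ∈ H
  a1 : ∀ y ∈ Y, a * y = y * a
  a2 : ∀ x ∈ U, x ∉ Y → a * x * a⁻¹ = x * e
  idx : ∀ x ∈ U, ∀ y ∈ U, x ∉ Y → y ∉ Y → x * y ∈ Y
  gen : U ≤ closure (Pt e H)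
  /-- `Y ≠ U` -/
  ne : ∃ x ∈ U, x ∉ Y

open Classical in
/-- the character of `Y` -/
noncomputable def chi (Y : Subgroup G) (v : G) : ℤˣ := if v ∈ Y then 1 else -1

theorem chi_of_mem {Y : Subgroup G} {v : G} (h : v ∈ Y) : chi Y v = 1 := if_pos h

theorem chi_of_not {Y : Subgroup G} {v : G} (h : v ∉ Y) : chi Y v = -1 := if_neg h

theorem neg_ne : (-1 : ℤˣ) ≠ 1 := by decide

theorem chi_eq_one {Y : Subgroup G} {v : G} : chi Y v = 1 ↔ v ∈ Y := by
  refine ⟨fun h => ?_, chi_of_mem⟩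
  by_contra h1
  rw [chi_of_not h1] at h
  exact neg_ne h

theorem unit_mul_self (x : ℤˣ) : x * x = 1 := by
  rcases Int.units_eq_one_or x with h | h <;> rw [h] <;> decide

namespace Tr

variable {e a : G} {U Y H : Subgroup G} (t : Tr e a U Y H)
include t

theorem eU : e ∈ U := t.YU t.eY

theorem invU {x : G} (hx : x ∈ U) : x⁻¹ = x := inv_eq_of_mul_eq_one_left (t.sq x hx)

theorem ptU {h : G} (hh : h ∈ H) : h * e * h⁻¹ ∈ U := t.nU h hh e t.eU

theorem nU' {h : G} (hh : h ∈ H) {x : G} (hx : x ∈ U) : h⁻¹ * x * h ∈ U := by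
  have := t.nU h⁻¹ (H.inv_mem hh) x hx
  rwa [inv_inv] at this

theorem nU_iff {h : G} (hh : h ∈ H) {x : G} : h * x * h⁻¹ ∈ U ↔ x ∈ U := by
  refine ⟨fun h1 => ?_, t.nU h hh x⟩
  have h2 := t.nU' hh h1
  have e1 : h⁻¹ * (h * x * h⁻¹) * h = x := by group
  rwa [e1] at h2

/-- index 2 -/
theorem mul_mem_iff {x y : G} (hx : x ∈ U) (hy : y ∈ U) : x * y ∈ Y ↔ (x ∈ Y ↔ y ∈ Y) := by
  constructor
  · intro h
    constructor
    · intro h1
      have := Y.mul_mem (Y.inv_mem h1) h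
      rwa [inv_mul_cancel_left] at this
    · intro h1
      have := Y.mul_mem h (Y.inv_mem h1)
      rwa [mul_inv_cancel_right] at this
  · intro h
    by_cases h1 : x ∈ Y
    · exact Y.mul_mem h1 (h.mp h1)
    · exact t.idx x hx y hy h1 fun h2 => h1 (h.mpr h2)

theorem chi_mul {x y : G} (hx : x ∈ U) (hy : y ∈ U) : chi Y (x * y) = chi Y x * chi Y y := by
  have h := t.mul_mem_iff hx hy
  by_cases h1 : x ∈ Y
  · by_cases h2 : y ∈ Y
    · rw [chi_of_mem h1, chi_of_mem h2, chi_of_mem (h.mpr (iff_of_true h1 h2)), one_mul]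
    · rw [chi_of_mem h1, chi_of_not h2, chi_of_not (fun h3 => h2 ((h.mp h3).mp h1)), one_mul]
  · by_cases h2 : y ∈ Y
    · rw [chi_of_not h1, chi_of_mem h2, chi_of_not (fun h3 => h1 ((h.mp h3).mpr h2)), mul_one]
    · rw [chi_of_not h1, chi_of_not h2, chi_of_mem (h.mpr (iff_of_false h1 h2))]
      decide

/-- `a x a⁻¹` -/
theorem a_conj {x : G} (hx : x ∈ U) : (x ∈ Y ∧ a * x * a⁻¹ = x) ∨ (x ∉ Y ∧ a * x * a⁻¹ = x * e) := by
  by_cases h : x ∈ Y
  · left; exact ⟨h, by rw [t.a1 x h, mul_inv_cancel_right]⟩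
  · right; exact ⟨h, t.a2 x hx h⟩

/-- `C_H(e)` normalises `Y` -/
theorem nY_iff {k : G} (hk : k ∈ H) (hke : k * e = e * k) {y : G} : k * y * k⁻¹ ∈ Y ↔ y ∈ Y := by
  refine ⟨fun h1 => ?_, t.nY k hk hke y⟩
  have hke' : k⁻¹ * e = e * k⁻¹ := by
    rw [inv_mul_eq_iff_eq_mul, ← mul_assoc, hke, mul_inv_cancel_right]
  have h2 := t.nY k⁻¹ (H.inv_mem hk) hke' _ h1
  have e1 : k⁻¹ * (k * y * k⁻¹) * k⁻¹⁻¹ = y := by group
  rwa [e1] at h2

/-- `Y_p` depends on the point only -/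
theorem dep {h k : G} (hh : h ∈ H) (hk : k ∈ H) (e1 : h * e * h⁻¹ = k * e * k⁻¹) {x : G} :
    h⁻¹ * x * h ∈ Y ↔ k⁻¹ * x * k ∈ Y := by
  have h2 : (k⁻¹ * h) * e = e * (k⁻¹ * h) := by
    have h3 : (k⁻¹ * h) * e * (k⁻¹ * h)⁻¹ = e := by
      calc (k⁻¹ * h) * e * (k⁻¹ * h)⁻¹ = k⁻¹ * (h * e * h⁻¹) * k := by group
        _ = e := by rw [e1]; group
    exact mul_inv_eq_iff_eq_mul.1 h3
  have h4 := t.nY_iff (H.mul_mem (H.inv_mem hk) hh) h2 (y := h⁻¹ * x * h)
  have e3 : (k⁻¹ * h) * (h⁻¹ * x * h) * (k⁻¹ * h)⁻¹ = k⁻¹ * x * k := by group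
  rw [e3] at h4
  exact h4.symm

/-- **(3)**: perpendicularity of points is symmetric (one direction): `h e h⁻¹ ∈ Y ⇒ e ∈ h Y h⁻¹` -/
theorem sym_aux {h : G} (hh : h ∈ H) (h1 : h * e * h⁻¹ ∈ Y) : h⁻¹ * e * h ∈ Y := by
  by_contra h2
  -- `a` fixes `p' = h e h⁻¹`
  have ha : (h⁻¹ * a * h) * e = e * (h⁻¹ * a * h) := by
    have h3 := t.a1 _ h1
    calc (h⁻¹ * a * h) * e = h⁻¹ * (a * (h * e * h⁻¹)) * h := by group
      _ = h⁻¹ * ((h * e * h⁻¹) * a) * h := by rw [h3]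
      _ = e * (h⁻¹ * a * h) := by group
  have haH : h⁻¹ * a * h ∈ H := H.mul_mem (H.mul_mem (H.inv_mem hh) t.aH) hh
  -- the hyperplane of `p'` is contained in `Y`
  have h4 : ∀ x ∈ U, h⁻¹ * x * h ∈ Y → x ∈ Y := by
    intro x hx h5
    by_contra h6
    have h7 := t.nY _ haH ha _ h5
    have e1 : (h⁻¹ * a * h) * (h⁻¹ * x * h) * (h⁻¹ * a * h)⁻¹ = h⁻¹ * (a * x * a⁻¹) * h := by group
    rw [e1, t.a2 x hx h6] at h7
    have e2 : h⁻¹ * (x * e) * h = (h⁻¹ * x * h) * (h⁻¹ * e * h) := by group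
    rw [e2, t.mul_mem_iff (t.nU' hh hx) (t.nU' hh t.eU)] at h7
    exact h2 (h7.mp h5)
  -- so they are equal
  obtain ⟨v, hv, hvY⟩ := t.ne
  have h5 : h⁻¹ * (e * v) * h ∈ Y := by
    have e2 : h⁻¹ * (e * v) * h = (h⁻¹ * e * h) * (h⁻¹ * v * h) := by group
    rw [e2, t.mul_mem_iff (t.nU' hh t.eU) (t.nU' hh hv)]
    exact iff_of_false h2 fun h6 => hvY (h4 v hv h6)
  have h6 := h4 _ (U.mul_mem t.eU hv) h5
  exact hvY (((t.mul_mem_iff t.eU hv).mp h6).mp t.eY)

theorem sym {h : G} (hh : h ∈ H) : h * e * h⁻¹ ∈ Y ↔ h⁻¹ * e * h ∈ Y := by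
  refine ⟨t.sym_aux hh, fun h1 => ?_⟩
  have h2 := t.sym_aux (H.inv_mem hh) (by rwa [inv_inv])
  rwa [inv_inv] at h2

/-- symmetry for two points `h e h⁻¹`, `k e k⁻¹` -/
theorem sym2 {h k : G} (hh : h ∈ H) (hk : k ∈ H) :
    chi Y (h⁻¹ * (k * e * k⁻¹) * h) = chi Y (k⁻¹ * (h * e * h⁻¹) * k) := by
  have h1 := t.sym (H.mul_mem (H.inv_mem hh) hk)
  have e1 : (h⁻¹ * k) * e * (h⁻¹ * k)⁻¹ = h⁻¹ * (k * e * k⁻¹) * h := by group
  have e2 : (h⁻¹ * k)⁻¹ * e * (h⁻¹ * k) = k⁻¹ * (h * e * h⁻¹) * k := by group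
  rw [e1, e2] at h1
  by_cases h2 : h⁻¹ * (k * e * k⁻¹) * h ∈ Y
  · rw [chi_of_mem h2, chi_of_mem (h1.mp h2)]
  · rw [chi_of_not h2, chi_of_not (fun h3 => h2 (h1.mpr h3))]

theorem ext_hom {f g : G → ℤˣ} (hf : ∀ u ∈ U, ∀ v ∈ U, f (u * v) = f u * f v)
    (hg : ∀ u ∈ U, ∀ v ∈ U, g (u * v) = g u * g v) (h : ∀ k ∈ H, f (k * e * k⁻¹) = g (k * e * k⁻¹)) :
    ∀ u ∈ U, f u = g u := by
  have h1 : ∀ u ∈ closure (Pt e H), u ∈ U ∧ f u = g u := by
    intro u hu
    refine closure_induction (p := fun u _ => u ∈ U ∧ f u = g u) ?_ ?_ ?_ ?_ hu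
    · rintro x ⟨k, hk, rfl⟩
      exact ⟨t.ptU hk, h k hk⟩
    · refine ⟨U.one_mem, ?_⟩
      have h2 := hf 1 U.one_mem 1 U.one_mem
      have h3 := hg 1 U.one_mem 1 U.one_mem
      rw [mul_one, unit_mul_self] at h2 h3
      rw [h2, h3]
    · rintro x y _ _ ⟨hx, hx'⟩ ⟨hy, hy'⟩
      exact ⟨U.mul_mem hx hy, by rw [hf x hx y hy, hg x hx y hy, hx', hy']⟩
    · rintro x _ ⟨hx, hx'⟩
      rw [t.invU hx]
      exact ⟨hx, hx'⟩
  exact fun u hu => (h1 u (t.gen hu)).2

/-- **the `H`-invariant alternating form on `U`, `Y = e^⊥`** -/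
theorem exists_form : ∃ B : G → G → ℤˣ,
    (∀ u ∈ U, ∀ v ∈ U, ∀ v' ∈ U, B u (v * v') = B u v * B u v') ∧
    (∀ u ∈ U, ∀ v ∈ U, B u v = B v u) ∧
    (∀ u ∈ U, B u u = 1) ∧
    (∀ h ∈ H, ∀ u ∈ U, ∀ v ∈ U, B (h * u * h⁻¹) (h * v * h⁻¹) = B u v) ∧
    (∀ v ∈ U, B e v = chi Y v) := by
  have hmul : ∀ l ∈ H, ∀ u ∈ U, ∀ v ∈ U, chi Y (l⁻¹ * (u * v) * l) = chi Y (l⁻¹ * u * l) * chi Y (l⁻¹ * v * l) := by
    intro l hl u hu v hv
    rw [← t.chi_mul (t.nU' hl hu) (t.nU' hl hv)]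
    congr 1
    group
  have hex : ∀ u, u ∈ U → ∃ φ : G → ℤˣ, (∀ v ∈ U, ∀ v' ∈ U, φ (v * v') = φ v * φ v') ∧
      ∀ k ∈ H, φ (k * e * k⁻¹) = chi Y (k⁻¹ * u * k) := by
    intro u hu
    have h1 : u ∈ U ∧ ∃ φ : G → ℤˣ, (∀ v ∈ U, ∀ v' ∈ U, φ (v * v') = φ v * φ v') ∧
      ∀ k ∈ H, φ (k * e * k⁻¹) = chi Y (k⁻¹ * u * k) := by
      refine closure_induction (p := fun u _ => u ∈ U ∧ ∃ φ : G → ℤˣ,
        (∀ v ∈ U, ∀ v' ∈ U, φ (v * v') = φ v * φ v') ∧
        ∀ k ∈ H, φ (k * e * k⁻¹) = chi Y (k⁻¹ * u * k)) ?_ ?_ ?_ ?_ (t.gen hu)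
      · rintro x ⟨l, hl, rfl⟩
        exact ⟨t.ptU hl, fun v => chi Y (l⁻¹ * v * l), hmul l hl, fun k hk => (t.sym2 hl hk)⟩
      · refine ⟨U.one_mem, fun _ => 1, fun _ _ _ _ => (one_mul _).symm, fun k _ => ?_⟩
        rw [mul_one, inv_mul_cancel]
        exact (chi_eq_one.2 Y.one_mem).symm
      · rintro x y _ _ ⟨hx, φ, h1, h2⟩ ⟨hy, ψ, h3, h4⟩
        refine ⟨U.mul_mem hx hy, fun v => φ v * ψ v, fun v hv v' hv' => ?_, fun k hk => ?_⟩
        · simp only [h1 v hv v' hv', h3 v hv v' hv']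
          exact mul_mul_mul_comm _ _ _ _
        · show φ (k * e * k⁻¹) * ψ (k * e * k⁻¹) = _
          rw [h2 k hk, h4 k hk, hmul k hk x hx y hy]
      · rintro x _ ⟨hx, h⟩
        rw [t.invU hx]
        exact ⟨hx, h⟩
    exact h1.2
  choose! B hB1 hB2 using hex
  have hpt : ∀ k ∈ H, ∀ v ∈ U, B (k * e * k⁻¹) v = chi Y (k⁻¹ * v * k) := by
    intro k hk
    refine t.ext_hom (hB1 _ (t.ptU hk)) (hmul k hk) fun l hl => ?_
    rw [hB2 _ (t.ptU hk) l hl]
    exact t.sym2 hl hk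
  have hadd : ∀ u ∈ U, ∀ u' ∈ U, ∀ v ∈ U, B (u * u') v = B u v * B u' v := by
    intro u hu u' hu'
    refine t.ext_hom (hB1 _ (U.mul_mem hu hu')) ?_ fun l hl => ?_
    · intro v hv v' hv'
      rw [hB1 u hu v hv v' hv', hB1 u' hu' v hv v' hv']
      exact mul_mul_mul_comm _ _ _ _
    · rw [hB2 _ (U.mul_mem hu hu') l hl, hB2 _ hu l hl, hB2 _ hu' l hl]
      exact hmul l hl u hu u' hu'
  have hsym : ∀ u ∈ U, ∀ v ∈ U, B u v = B v u := by
    intro u hu
    refine t.ext_hom (hB1 u hu) (fun v hv v' hv' => hadd v hv v' hv' u hu) fun k hk => ?_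
    rw [hB2 u hu k hk, hpt k hk u hu]
  have he : ∀ v ∈ U, B e v = chi Y v := by
    intro v hv
    have := hpt 1 H.one_mem v hv
    simpa using this
  refine ⟨B, hB1, hsym, ?_, ?_, he⟩
  · refine t.ext_hom ?_ (fun _ _ _ _ => (one_mul 1).symm) fun k hk => ?_
    · intro u hu v hv
      rw [hadd u hu v hv _ (U.mul_mem hu hv), hB1 u hu u hu v hv, hB1 v hv u hu v hv, hsym v hv u hu]
      calc B u u * B u v * (B u v * B v v) = B u u * (B u v * B u v) * B v v := by group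
        _ = B u u * B v v := by rw [unit_mul_self, mul_one]
    · rw [hpt k hk _ (t.ptU hk)]
      have e1 : k⁻¹ * (k * e * k⁻¹) * k = e := by group
      rw [e1, chi_of_mem t.eY]
  · intro h hh u hu
    refine t.ext_hom ?_ (hB1 u hu) fun k hk => ?_
    · intro v hv v' hv'
      have h1 : h * (v * v') * h⁻¹ = (h * v * h⁻¹) * (h * v' * h⁻¹) := by group
      rw [h1]
      exact hB1 _ (t.nU h hh u hu) _ (t.nU h hh v hv) _ (t.nU h hh v' hv')
    · have h1 : h * (k * e * k⁻¹) * h⁻¹ = (h * k) * e * (h * k)⁻¹ := by group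
      rw [h1, hB2 _ (t.nU h hh u hu) _ (H.mul_mem hh hk), hB2 u hu k hk]
      congr 1
      group

omit t in
theorem pt_self : e ∈ Pt e H := ⟨1, H.one_mem, by group⟩

theorem pt_le {x : G} (hx : x ∈ Pt e H) : x ∈ U := by
  obtain ⟨h, hh, rfl⟩ := hx
  exact t.ptU hh

omit t in
theorem pt_conj {x h : G} (hx : x ∈ Pt e H) (hh : h ∈ H) : h * x * h⁻¹ ∈ Pt e H := by
  obtain ⟨k, hk, rfl⟩ := hx
  exact ⟨h * k, H.mul_mem hh hk, by group⟩

section form

variable {B : G → G → ℤˣ}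

/-- the transvection at the point `h e h⁻¹` is induced by `h a h⁻¹` -/
theorem tr_act (hi : ∀ h ∈ H, ∀ u ∈ U, ∀ v ∈ U, B (h * u * h⁻¹) (h * v * h⁻¹) = B u v)
    (he : ∀ v ∈ U, B e v = chi Y v) {h : G} (hh : h ∈ H) {x : G} (hx : x ∈ U) :
    (B (h * e * h⁻¹) x = 1 ∧ (h * a * h⁻¹) * x * (h * a * h⁻¹)⁻¹ = x) ∨
    (B (h * e * h⁻¹) x = -1 ∧ (h * a * h⁻¹) * x * (h * a * h⁻¹)⁻¹ = x * (h * e * h⁻¹)) := by
  have h1 : B (h * e * h⁻¹) x = chi Y (h⁻¹ * x * h) := by
    rw [← he _ (t.nU' hh hx), ← hi h hh e t.eU _ (t.nU' hh hx)]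
    congr 1
    group
  have e1 : (h * a * h⁻¹) * x * (h * a * h⁻¹)⁻¹ = h * (a * (h⁻¹ * x * h) * a⁻¹) * h⁻¹ := by group
  rcases t.a_conj (t.nU' hh hx) with ⟨h2, h3⟩ | ⟨h2, h3⟩
  · left
    rw [h1, chi_of_mem h2, e1, h3]
    exact ⟨rfl, by group⟩
  · right
    rw [h1, chi_of_not h2, e1, h3]
    exact ⟨rfl, by group⟩

/-- `p p'` is a point if `p`, `p'` are not perpendicular -/
theorem pt_mul (hi : ∀ h ∈ H, ∀ u ∈ U, ∀ v ∈ U, B (h * u * h⁻¹) (h * v * h⁻¹) = B u v)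
    (he : ∀ v ∈ U, B e v = chi Y v) {p q : G} (hp : p ∈ Pt e H) (hq : q ∈ Pt e H) (h : B p q = -1) :
    p * q ∈ Pt e H := by
  obtain ⟨k, hk, rfl⟩ := hp
  rcases t.tr_act hi he hk (t.pt_le hq) with ⟨h1, -⟩ | ⟨-, h1⟩
  · rw [h1] at h; exact absurd h.symm neg_ne
  · rw [t.comm _ (t.ptU hk) _ (t.pt_le hq), ← h1]
    exact pt_conj hq (H.mul_mem (H.mul_mem hk t.aH) (H.inv_mem hk))

/-- **the points are connected by 'not perpendicular'** -/
theorem conn (hs : ∀ u ∈ U, ∀ v ∈ U, B u v = B v u)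
    (hm : ∀ u ∈ U, ∀ v ∈ U, ∀ v' ∈ U, B u (v * v') = B u v * B u v') (h0 : ∀ u ∈ U, B u u = 1)
    (hi : ∀ h ∈ H, ∀ u ∈ U, ∀ v ∈ U, B (h * u * h⁻¹) (h * v * h⁻¹) = B u v)
    (he : ∀ v ∈ U, B e v = chi Y v)
    (htr : ∀ p ∈ Pt e H, ∃ n ∈ closure {x | ∃ h ∈ H, x = h * a * h⁻¹}, p = n * e * n⁻¹)
    {A : Set G} (hA : A ⊆ Pt e H) (hne : A.Nonempty) (hcl : ∀ p ∈ A, ∀ q ∈ Pt e H, B p q = -1 → q ∈ A) :
    A = Pt e H := by
  -- `A` is invariant under the transvections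
  have h1 : ∀ h ∈ H, ∀ p ∈ A, (h * a * h⁻¹) * p * (h * a * h⁻¹)⁻¹ ∈ A := by
    intro h hh p hp
    have hpP := hA hp
    rcases t.tr_act hi he hh (t.pt_le hpP) with ⟨-, h2⟩ | ⟨h2, h3⟩
    · rw [h2]; exact hp
    · have h4 : h * e * h⁻¹ ∈ A := hcl p hp _ ⟨h, hh, rfl⟩ (by
        rw [hs _ (t.pt_le hpP) _ (t.ptU hh)]; exact h2)
      have h5 : p * (h * e * h⁻¹) ∈ Pt e H :=
        t.pt_mul hi he hpP ⟨h, hh, rfl⟩ (by rw [hs _ (t.pt_le hpP) _ (t.ptU hh)]; exact h2)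
      rw [h3]
      refine hcl _ h4 _ h5 ?_
      rw [hm _ (t.ptU hh) _ (t.pt_le hpP) _ (t.ptU hh), h2, h0 _ (t.ptU hh), mul_one]
  -- and by inverses
  have haH : ∀ h ∈ H, h * a * h⁻¹ ∈ H := fun h hh => H.mul_mem (H.mul_mem hh t.aH) (H.inv_mem hh)
  have h1' : ∀ h ∈ H, ∀ p ∈ A, (h * a * h⁻¹)⁻¹ * p * (h * a * h⁻¹) ∈ A := by
    intro h hh p hp
    have hpP := hA hp
    have h2 : (h * a * h⁻¹) * ((h * a * h⁻¹) * p * (h * a * h⁻¹)⁻¹) * (h * a * h⁻¹)⁻¹ = p := by
      rcases t.tr_act hi he hh (t.pt_le hpP) with ⟨-, h2⟩ | ⟨h2, h3⟩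
      · rw [h2, h2]
      · have h4 : B (h * e * h⁻¹) (p * (h * e * h⁻¹)) = -1 := by
          rw [hm _ (t.ptU hh) _ (t.pt_le hpP) _ (t.ptU hh), h2, h0 _ (t.ptU hh), mul_one]
        rw [h3]
        rcases t.tr_act hi he hh (U.mul_mem (t.pt_le hpP) (t.ptU hh)) with ⟨h5, -⟩ | ⟨-, h5⟩
        · rw [h5] at h4; exact absurd h4.symm neg_ne
        · rw [h5, mul_assoc, t.sq _ (t.ptU hh), mul_one]
    have h3 : (h * a * h⁻¹)⁻¹ * p * (h * a * h⁻¹) = (h * a * h⁻¹) * p * (h * a * h⁻¹)⁻¹ := by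
      conv_lhs => rw [← h2]
      group
    rw [h3]
    exact h1 h hh p hp
  have h2 : ∀ n ∈ closure {x | ∃ h ∈ H, x = h * a * h⁻¹}, ∀ p ∈ A, n * p * n⁻¹ ∈ A ∧ n⁻¹ * p * n ∈ A := by
    intro n hn
    refine closure_induction (p := fun n _ => ∀ p ∈ A, n * p * n⁻¹ ∈ A ∧ n⁻¹ * p * n ∈ A) ?_ ?_ ?_ ?_ hn
    · rintro x ⟨h, hh, rfl⟩ p hp
      exact ⟨h1 h hh p hp, h1' h hh p hp⟩
    · intro p hp
      simpa using hp
    · intro x y _ _ hx hy p hp
      constructor
      · have e1 : x * y * p * (x * y)⁻¹ = x * (y * p * y⁻¹) * x⁻¹ := by group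
        rw [e1]; exact (hx _ (hy p hp).1).1
      · have e1 : (x * y)⁻¹ * p * (x * y) = y⁻¹ * (x⁻¹ * p * x) * y := by group
        rw [e1]; exact (hy _ (hx p hp).2).2
    · intro x _ hx p hp
      rw [inv_inv]
      exact ⟨(hx p hp).2, (hx p hp).1⟩
  apply Set.Subset.antisymm hA
  intro q hq
  obtain ⟨p, hp⟩ := hne
  obtain ⟨n, hn, rfl⟩ := htr p (hA hp)
  obtain ⟨m, hm', rfl⟩ := htr q hq
  have h3 := (h2 n hn _ hp).2
  have e1 : n⁻¹ * (n * e * n⁻¹) * n = e := by group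
  rw [e1] at h3
  exact (h2 m hm' _ h3).1

end form

end Tr

end Cfsg.Agent.Omega.NOThreeL.RTools.SpForm

end

section


/-!
# NO-3L, R ∩ (A), `q = 2`, `k = 1`: dead unless `T^t ≰ I` (#16559 (0)-(3), helper797; referee #16786)

`P ∈ P*(S)`, `H` long, `V = V_P`, `U = U_H`, `[V, U] ≠ 1`.

* `act U J` : the elements of `N_G(U)` acting trivially on `U / J`;
* `exists_cent_conj` : a 2-subgroup `Q` of `act U J ∩ C(J)`, `J ≤ U`, is conjugate under `C_G(U)` into `S`;
* `ut t H = ⟨t^H⟩` (`U^t`), `Two S P H t p` : `[V, U] ≤ ⟨t⟩`, `t ∈ Z`, `p ∈ P` moves the point `Z` and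
  `p u⁻¹ p⁻¹ u p ∈ C` for `u ∈ U - C(V)` (the three points of `V`), `H` is generated by `C` and the
  `P' ∈ P*(S)`, `P' ≤ H`;
* `Two.not_le` : `[U^t, V] ≠ 1`;
* `Two.lemmaW` : (1), LEMMA W;
* `Two.iso` : (2);
* `Two.false_of` : (3), `T^t = U^t ∩ (U^t)^p` is not contained in an `H`-invariant subgroup `I ≤ U^t ∩ C(V)`.
-/

set_option autoImplicit false

namespace Cfsg.Agent.Omega.NOThreeL.RTransv

open Subgroup Cfsg Cfsg.Agent.ZN Cfsg.Agent.Omega.MinPar Cfsg.Agent.Omega.Frame Cfsg.Agent.Omega.FrameNOFF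
open Cfsg.Agent.Omega.Node.NO3L Cfsg.Agent.Omega.NOThreeL.Basic
open Cfsg.Agent.Omega.NoFF.Basic (V conj_conj mem_conj conj_le_iff conj_le_centralizer comm_symm comm_mono
  Z_le_V V_le conj_V_mul)
open Cfsg.Agent.Omega.NOThreeL.Pair (conj_eq_of_mem conj_le_normalizer zl_abel)
open Cfsg.Agent.MinSimple.VModule (zl_le le_normalizer_zl zc_le_zl zc_le mem_zc oddGen oddGen_def
  oddGen_le_of_sup oddGen_le le_normalizer_oddGen mem_oddGen)
open scoped Pointwise

universe u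

variable {G : Type u} [Group G]

/-! ### Elements acting trivially on `U / J` -/

/-- The elements of `N_G(U)` acting trivially on `U / J`. -/
def act (U J : Subgroup G) : Subgroup G where
  carrier := {g | g ∈ normalizer (U : Set G) ∧ ∀ u ∈ U, g * u * g⁻¹ * u⁻¹ ∈ J}
  mul_mem' := by
    rintro g h ⟨hg, hg'⟩ ⟨hh, hh'⟩
    refine ⟨mul_mem hg hh, fun u hu => ?_⟩
    have h1 : h * u * h⁻¹ ∈ U := (mem_normalizer_iff.1 hh u).1 hu
    have h2 := J.mul_mem (hg' _ h1) (hh' u hu)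
    have e : g * (h * u * h⁻¹) * g⁻¹ * (h * u * h⁻¹)⁻¹ * (h * u * h⁻¹ * u⁻¹) =
        g * h * u * (g * h)⁻¹ * u⁻¹ := by group
    rwa [e] at h2
  one_mem' := ⟨one_mem _, fun u _ => by simp⟩
  inv_mem' := by
    rintro g ⟨hg, hg'⟩
    refine ⟨inv_mem hg, fun u hu => ?_⟩
    have h1 : g⁻¹ * u * g ∈ U := by
      have := (mem_normalizer_iff.1 (inv_mem hg) u).1 hu
      rwa [inv_inv] at this
    have h2 := J.inv_mem (hg' _ h1)
    have e : (g * (g⁻¹ * u * g) * g⁻¹ * (g⁻¹ * u * g)⁻¹)⁻¹ = g⁻¹ * u * g⁻¹⁻¹ * u⁻¹ := by group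
    rwa [e] at h2

theorem mem_act {U J : Subgroup G} {g : G} :
    g ∈ act U J ↔ g ∈ normalizer (U : Set G) ∧ ∀ u ∈ U, g * u * g⁻¹ * u⁻¹ ∈ J := Iff.rfl

theorem conj_act {U J : Subgroup G} {g : G} (hU : g ∈ normalizer (U : Set G))
    (hJ : g ∈ normalizer (J : Set G)) : g ∈ normalizer (act U J : Set G) := by
  have key : ∀ g : G, g ∈ normalizer (U : Set G) → g ∈ normalizer (J : Set G) →
      ∀ x ∈ act U J, g * x * g⁻¹ ∈ act U J := by
    rintro g hU hJ x ⟨hx, hx'⟩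
    refine ⟨mul_mem (mul_mem hU hx) (inv_mem hU), fun u hu => ?_⟩
    have h1 : g⁻¹ * u * g ∈ U := by
      have := (mem_normalizer_iff.1 (inv_mem hU) u).1 hu
      rwa [inv_inv] at this
    have h2 := (mem_normalizer_iff.1 hJ _).1 (hx' _ h1)
    have e : g * (x * (g⁻¹ * u * g) * x⁻¹ * (g⁻¹ * u * g)⁻¹) * g⁻¹ =
        g * x * g⁻¹ * u * (g * x * g⁻¹)⁻¹ * u⁻¹ := by group
    rwa [e] at h2
  rw [mem_normalizer_iff]
  intro x
  refine ⟨key g hU hJ x, fun hx => ?_⟩
  have := key g⁻¹ (inv_mem hU) (inv_mem hJ) _ hx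
  have e : g⁻¹ * (g * x * g⁻¹) * g⁻¹⁻¹ = x := by group
  rwa [e] at this

theorem conj_cent {J : Subgroup G} {g : G} (hJ : g ∈ normalizer (J : Set G)) :
    g ∈ normalizer (centralizer (J : Set G) : Set G) := by
  have key : ∀ g : G, g ∈ normalizer (J : Set G) → ∀ x ∈ centralizer (J : Set G),
      g * x * g⁻¹ ∈ centralizer (J : Set G) := by
    intro g hg x hx
    rw [mem_centralizer_iff]
    intro j hj
    have h1 : g⁻¹ * j * g ∈ J := by
      have := (mem_normalizer_iff.1 (inv_mem hg) j).1 hj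
      rwa [inv_inv] at this
    have h2 := mem_centralizer_iff.1 hx _ h1
    have h3 := congrArg (fun t => g * t * g⁻¹) h2
    simpa [mul_assoc] using h3
  rw [mem_normalizer_iff]
  intro x
  refine ⟨key g hJ x, fun hx => ?_⟩
  have := key g⁻¹ (inv_mem hJ) _ hx
  have e : g⁻¹ * (g * x * g⁻¹) * g⁻¹⁻¹ = x := by group
  rwa [e] at this

theorem mem_normalizer_inf {A B : Subgroup G} {g : G} (hA : g ∈ normalizer (A : Set G))
    (hB : g ∈ normalizer (B : Set G)) : g ∈ normalizer ((A ⊓ B : Subgroup G) : Set G) := by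
  rw [mem_normalizer_iff] at hA hB ⊢
  intro x
  rw [mem_inf, mem_inf, hA x, hB x]

theorem mem_normalizer_of_conj {A : Subgroup G} {g : G} (h : MulAut.conj g • A = A) :
    g ∈ normalizer (A : Set G) := by
  rw [mem_normalizer_iff]
  intro x
  constructor
  · intro hx
    rw [← h, mem_conj]
    simpa [mul_assoc] using hx
  · intro hx
    rw [← h, mem_conj] at hx
    simpa [mul_assoc] using hx

/-- An element acting trivially on `U / J` and on `J` acts on `U` as an involution. -/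
theorem sq_mem {U J : Subgroup G} (hJU : J ≤ U) (hsq : ∀ u ∈ U, u * u = 1) {x : G} (hx : x ∈ act U J)
    (hJ : x ∈ centralizer (J : Set G)) : x * x ∈ centralizer (U : Set G) := by
  rw [mem_centralizer_iff]
  intro u hu
  have h1 := hx.2 u hu
  set w := x * u * x⁻¹ * u⁻¹ with hw
  have h2 : x * w * x⁻¹ = w := by
    have := mem_centralizer_iff.1 hJ w h1
    rw [← this]
    group
  have h3 : x * u * x⁻¹ = w * u := by rw [hw]; group
  have h4 : x * x * u * (x * x)⁻¹ = u := by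
    have e : x * x * u * (x * x)⁻¹ = x * (x * u * x⁻¹) * x⁻¹ := by group
    rw [e, h3]
    have e2 : x * (w * u) * x⁻¹ = (x * w * x⁻¹) * (x * u * x⁻¹) := by group
    rw [e2, h2, h3, ← mul_assoc, hsq w (hJU h1), one_mul]
  calc u * (x * x) = (x * x * u * (x * x)⁻¹) * (x * x) := by rw [h4]
    _ = x * x * u := by group

theorem mem_of_odd {H : Subgroup G} {x : G} (ho : Odd (orderOf x)) (h : x * x ∈ H) : x ∈ H := by
  obtain ⟨k, hk⟩ := ho
  have h1 : x = (x * x) ^ (k + 1) := by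
    have h2 : x ^ (2 * k + 1) = 1 := by rw [← hk, pow_orderOf_eq_one]
    calc x = x ^ (2 * k + 1) * x := by rw [h2, one_mul]
      _ = x ^ (2 * (k + 1)) := by rw [← pow_succ]; congr 1
      _ = (x * x) ^ (k + 1) := by rw [pow_mul, pow_two]
  rw [h1]
  exact pow_mem h _

section fin

variable [Finite G]

/-- **Decomposition**: `X S = S C_X(U)` for `X = act U J ∩ C(J)`. -/
theorem exists_mul (S : Sylow 2 G) {U J : Subgroup G} (hJU : J ≤ U) (hsq : ∀ u ∈ U, u * u = 1)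
    (hSU : (S : Subgroup G) ≤ normalizer (U : Set G)) (hSJ : (S : Subgroup G) ≤ normalizer (J : Set G))
    {g : G} (hg : g ∈ (act U J ⊓ centralizer (J : Set G)) ⊔ (S : Subgroup G)) :
    ∃ s ∈ (S : Subgroup G), ∃ d ∈ centralizer (U : Set G), g = s * d := by
  set X := act U J ⊓ centralizer (J : Set G) with hX
  have hSX : (S : Subgroup G) ≤ normalizer (X : Set G) := fun s hs =>
    mem_normalizer_inf (conj_act (hSU hs) (hSJ hs)) (conj_cent (hSJ hs))
  have hn : X ⊔ (S : Subgroup G) ≤ normalizer (X : Set G) := sup_le le_normalizer hSX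
  have h1 : oddGen (X ⊔ (S : Subgroup G)) ≤ X :=
    oddGen_le_of_sup hn le_rfl le_sup_right le_sup_left S.isPGroup'
  have h2 : oddGen (X ⊔ (S : Subgroup G)) ≤ centralizer (U : Set G) := by
    rw [oddGen_def, closure_le]
    rintro x ⟨hx, ho⟩
    have h3 := h1 (mem_oddGen hx ho)
    exact mem_of_odd ho (sq_mem hJU hsq h3.1 h3.2)
  have h3 := NoFF.LinesPlug.oddGen_sup (P := X ⊔ (S : Subgroup G)) le_sup_right
    (MinSimple.Basic.not_dvd_relIndex S le_sup_right)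
  have h4 : g ∈ ((S : Subgroup G) ⊔ oddGen (X ⊔ (S : Subgroup G)) : Subgroup G) := by
    rw [sup_comm, h3]; exact hg
  have h5 : (S : Subgroup G) ≤ normalizer (oddGen (X ⊔ (S : Subgroup G)) : Set G) :=
    le_sup_right.trans (le_normalizer_oddGen _)
  have h6 : (g : G) ∈ (((S : Subgroup G) : Set G) * (oddGen (X ⊔ (S : Subgroup G)) : Set G)) := by
    rw [← coe_mul_of_left_le_normalizer_right _ _ h5]
    exact h4
  obtain ⟨s, hs, d, hd, rfl⟩ := Set.mem_mul.1 h6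
  exact ⟨s, hs, d, h2 hd, rfl⟩

/-- **A 2-group acting trivially on `U / J` and `J` is conjugate under `C_G(U)` into `S`.** -/
theorem exists_cent_conj (S : Sylow 2 G) {U J Q : Subgroup G} (hJU : J ≤ U) (hsq : ∀ u ∈ U, u * u = 1)
    (hSU : (S : Subgroup G) ≤ normalizer (U : Set G)) (hSJ : (S : Subgroup G) ≤ normalizer (J : Set G))
    (hQ : IsPGroup 2 Q) (hQ1 : Q ≤ act U J) (hQ2 : Q ≤ centralizer (J : Set G)) :
    ∃ d ∈ centralizer (U : Set G), MulAut.conj d • Q ≤ (S : Subgroup G) := by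
  obtain ⟨g, hg, hgS⟩ := FFThm.exists_conj_le S
    (N := (act U J ⊓ centralizer (J : Set G)) ⊔ (S : Subgroup G)) le_sup_right hQ
    ((le_inf hQ1 hQ2).trans le_sup_left)
  obtain ⟨s, hs, d, hd, rfl⟩ := exists_mul S hJU hsq hSU hSJ hg
  refine ⟨d, hd, ?_⟩
  have h7 : MulAut.conj s⁻¹ • (MulAut.conj (s * d) • Q) ≤ MulAut.conj s⁻¹ • (S : Subgroup G) :=
    conj_le_iff.2 hgS
  rwa [conj_conj, inv_mul_cancel_left, conj_eq_of_mem (le_normalizer (inv_mem hs))] at h7

/-- **An element of `L` acting trivially on `U / J` and `J` centralises `U = ⟨Z^L⟩`**, `J ≤ U` normal in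
`L`. -/
theorem le_centralizer (S : Sylow 2 G) {L J : Subgroup G} (hSL : (S : Subgroup G) ≤ L)
    (hJU : J ≤ zl (S : Subgroup G) L) (hLJ : L ≤ normalizer (J : Set G))
    (hsq : ∀ u ∈ zl (S : Subgroup G) L, u * u = 1) {x : G}
    (hx : x ∈ act (zl (S : Subgroup G) L) J) (hxJ : x ∈ centralizer (J : Set G)) :
    x ∈ centralizer (zl (S : Subgroup G) L : Set G) := by
  have key : ∀ h ∈ L, h * x * h⁻¹ ∈ centralizer (zc (S : Subgroup G) : Set G) := by
    intro h hh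
    have n1 : h ∈ normalizer (zl (S : Subgroup G) L : Set G) := le_normalizer_zl _ _ hh
    obtain ⟨s, hs, d, hd, e⟩ := exists_mul S (g := h * x * h⁻¹) hJU hsq
      (hSL.trans (le_normalizer_zl _ _)) (hSL.trans hLJ) ((le_sup_left : act _ J ⊓ _ ≤ _)
        ⟨(mem_normalizer_iff.1 (conj_act n1 (hLJ hh)) x).1 hx,
          (mem_normalizer_iff.1 (conj_cent (hLJ hh)) x).1 hxJ⟩)
    rw [e]
    exact mul_mem (Cfsg.Agent.MinSimple.VModule.le_centralizer_zc _ hs) (centralizer_le (zc_le_zl _ _) hd)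
  have h1 : zl (S : Subgroup G) L ≤ centralizer ({x} : Set G) := by
    change V (zc (S : Subgroup G)) L ≤ _
    refine V_le fun h hh z hz => ?_
    rw [mem_conj] at hz
    rw [mem_centralizer_singleton_iff]
    have h2 := mem_centralizer_iff.1 (key h⁻¹ (inv_mem hh)) _ hz
    have h3 := congrArg (fun y => h * y * h⁻¹) h2
    simpa [mul_assoc] using h3
  rw [mem_centralizer_iff]
  intro u hu
  exact mem_centralizer_singleton_iff.1 (h1 hu)

end fin

/-! ### Counting -/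

/-- A map `f : A → B` with `f(a)⁻¹ f(a') ∈ T → a⁻¹ a' ∈ T`. -/
theorem card_le_of_map [Finite G] {A B T : Subgroup G} (hA : T ≤ A) (hB : T ≤ B) (f : G → G)
    (hf : ∀ a ∈ A, f a ∈ B) (hi : ∀ a ∈ A, ∀ a' ∈ A, (f a)⁻¹ * f a' ∈ T → a⁻¹ * a' ∈ T) :
    Nat.card A ≤ Nat.card B := by
  classical
  have h1 : Nat.card (A ⧸ T.subgroupOf A) ≤ Nat.card (B ⧸ T.subgroupOf B) := by
    refine Nat.card_le_card_of_injective
      (fun q : A ⧸ T.subgroupOf A => (QuotientGroup.mk (⟨f (q.out : A), hf _ q.out.2⟩ : B) :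
        B ⧸ T.subgroupOf B)) ?_
    intro q q' h
    have h2 := (QuotientGroup.eq.1 h)
    rw [mem_subgroupOf] at h2
    have h3 := hi _ q.out.2 _ q'.out.2 h2
    have h4 : (QuotientGroup.mk q.out : A ⧸ T.subgroupOf A) = QuotientGroup.mk q'.out :=
      QuotientGroup.eq.2 (by rw [mem_subgroupOf]; exact h3)
    rwa [QuotientGroup.out_eq', QuotientGroup.out_eq'] at h4
  have h2 := card_eq_card_quotient_mul_card_subgroup (T.subgroupOf A)
  have h3 := card_eq_card_quotient_mul_card_subgroup (T.subgroupOf B)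
  have h4 : Nat.card (T.subgroupOf A) = Nat.card T := Nat.card_congr (subgroupOfEquivOfLe hA).toEquiv
  have h5 : Nat.card (T.subgroupOf B) = Nat.card T := Nat.card_congr (subgroupOfEquivOfLe hB).toEquiv
  rw [h2, h3, h4, h5]
  exact Nat.mul_le_mul_right _ h1

/-! ### The situation -/

/-- `U^t = ⟨t^H⟩` -/
def ut (t : G) (H : Subgroup G) : Subgroup G := closure {x | ∃ h ∈ H, x = h * t * h⁻¹}

theorem conj_mem_ut {t h : G} {H : Subgroup G} (hh : h ∈ H) : h * t * h⁻¹ ∈ ut t H :=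
  subset_closure ⟨h, hh, rfl⟩

theorem mem_ut (t : G) (H : Subgroup G) : t ∈ ut t H := by
  have := conj_mem_ut (t := t) H.one_mem
  simpa using this

theorem ut_le {t : G} {H A : Subgroup G} (h : ∀ x ∈ H, x * t * x⁻¹ ∈ A) : ut t H ≤ A := by
  refine (closure_le _).2 ?_
  rintro _ ⟨x, hx, rfl⟩
  exact h x hx

theorem le_normalizer_closure {H : Subgroup G} {s : Set G} (h : ∀ g ∈ H, ∀ x ∈ s, g * x * g⁻¹ ∈ s) :
    H ≤ normalizer (closure s : Set G) := by
  have key : ∀ g ∈ H, ∀ x ∈ closure s, g * x * g⁻¹ ∈ closure s := by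
    intro g hg x hx
    have h1 : closure s ≤ (closure s).comap (MulAut.conj g).toMonoidHom := by
      refine (closure_le _).2 fun y hy => ?_
      change g * y * g⁻¹ ∈ closure s
      exact subset_closure (h g hg y hy)
    exact h1 hx
  intro g hg
  rw [mem_normalizer_iff]
  intro x
  refine ⟨key g hg x, fun hx => ?_⟩
  have := key g⁻¹ (inv_mem hg) _ hx
  have e : g⁻¹ * (g * x * g⁻¹) * g⁻¹⁻¹ = x := by group
  rwa [e] at this

theorem le_normalizer_ut (t : G) (H : Subgroup G) : H ≤ normalizer (ut t H : Set G) := by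
  refine le_normalizer_closure ?_
  rintro g hg _ ⟨h, hh, rfl⟩
  exact ⟨g * h, mul_mem hg hh, by group⟩

/-- **The situation**: `[V_P, U_H] = ⟨t⟩`, `p ∈ P` permutes the three points of `V_P`, and `H` is generated by
`C` and the `P' ∈ P*(S)` in `H`. -/
structure Two (S P H : Subgroup G) (t p : G) : Prop where
  par : IsParS S P
  long : IsLong S H
  mem : t ∈ zc S
  comm : ∀ v ∈ zl S P, ∀ u ∈ zl S H, u * v * u⁻¹ * v⁻¹ = 1 ∨ u * v * u⁻¹ * v⁻¹ = t
  ne : ¬ zl S H ≤ centralizer (zl S P : Set G)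
  pmem : p ∈ P
  pt : ∀ u ∈ zl S H, u ∉ centralizer (zl S P : Set G) → p * u⁻¹ * p⁻¹ * u * p ∈ H
  gen : ∀ X : Subgroup G, CZ S ≤ X → (∀ P', IsParS S P' → P' ≤ H → P' ≤ X) → H ≤ X

namespace Two

variable [Finite G] {S : Sylow 2 G} {P H : Subgroup G} {t p : G}

section facts

variable (T : Two (S : Subgroup G) P H t p)
include T

omit [Finite G] in
theorem cent_le : centralizer (zl (S : Subgroup G) P : Set G) ≤ H :=
  (centralizer_le (zc_le_zl _ _)).trans T.long.cz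

omit [Finite G] in
theorem t_mem : t ∈ zl (S : Subgroup G) H := zc_le_zl _ _ T.mem

omit [Finite G] in
theorem SH : (S : Subgroup G) ≤ H := T.long.loc.le

omit [Finite G] in
theorem ut_le_U : ut t H ≤ zl (S : Subgroup G) H :=
  ut_le fun _ hx => (mem_normalizer_iff.1 (le_normalizer_zl _ _ hx) t).1 T.t_mem

omit [Finite G] in
/-- `V` acts trivially on `U / J`, `t ∈ J` -/
theorem le_act {J : Subgroup G} (hSP : zl (S : Subgroup G) P ≤ (S : Subgroup G)) (hJ : t ∈ J) :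
    zl (S : Subgroup G) P ≤ act (zl (S : Subgroup G) H) J := by
  intro v hv
  refine ⟨le_normalizer_zl _ _ (T.SH (hSP hv)), fun u hu => ?_⟩
  have e : v * u * v⁻¹ * u⁻¹ = (u * v * u⁻¹ * v⁻¹)⁻¹ := by group
  rw [e]
  refine J.inv_mem ?_
  rcases T.comm v hv u hu with h | h <;> rw [h]
  · exact one_mem _
  · exact hJ

end facts

section main

variable (hc : IsCharacteristicTwoType G) (T : Two (S : Subgroup G) P H t p)
include hc T

theorem VS : zl (S : Subgroup G) P ≤ (S : Subgroup G) := IsParS.zl_le_S hc T.par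

theorem US : zl (S : Subgroup G) H ≤ (S : Subgroup G) := IsLong.zl_le_S hc T.long

theorem sq : ∀ u ∈ zl (S : Subgroup G) H, u * u = 1 := fun u hu => by
  rw [← pow_two]; exact (FFThm.elem_zl hc S T.long.loc).2 u hu

theorem ab : zl (S : Subgroup G) H ≤ centralizer (zl (S : Subgroup G) H : Set G) := by
  intro u hu
  rw [mem_centralizer_iff]
  intro v hv
  have h1 := (FFThm.elem_zl hc S T.long.loc).1.1.1 ⟨u, hu⟩ ⟨v, hv⟩
  exact (congrArg Subtype.val h1).symm

omit [Finite G] hc in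
theorem pV : p ∈ normalizer (zl (S : Subgroup G) P : Set G) := le_normalizer_zl _ _ T.pmem

theorem uV {u : G} (hu : u ∈ zl (S : Subgroup G) H) : u ∈ normalizer (zl (S : Subgroup G) P : Set G) :=
  le_normalizer_zl _ _ (T.par.le (T.US hc hu))

/-- `V` centralises `t`. -/
theorem Vt {J : Subgroup G} (hJ : J ≤ centralizer (zl (S : Subgroup G) P : Set G)) :
    zl (S : Subgroup G) P ≤ centralizer ((zpowers t ⊔ J : Subgroup G) : Set G) := by
  refine comm_symm (sup_le ?_ hJ)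
  rw [zpowers_le, mem_centralizer_iff]
  intro v hv
  exact (mem_zc.1 T.mem).2.1 v (T.VS hc hv)

/-- **(0)**: `[U^t, V] ≠ 1`. -/
theorem not_le : ¬ ut t H ≤ centralizer (zl (S : Subgroup G) P : Set G) := by
  intro hle
  refine T.ne (comm_symm fun v hv => ?_)
  exact le_centralizer S T.SH T.ut_le_U (le_normalizer_ut t H) (T.sq hc)
    (T.le_act (T.VS hc) (mem_ut t H) hv) (comm_symm hle hv)

variable (D : Data (S : Subgroup G))
include D

/-- **(1), LEMMA W**: `V_{P'}^c`, `P' ≤ H`, `c ∈ N_H(⟨t⟩I)`, centralises `V`. -/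
theorem lemmaW {I : Subgroup G} (hIU : I ≤ ut t H) (hIH : H ≤ normalizer (I : Set G))
    (hIV : I ≤ centralizer (zl (S : Subgroup G) P : Set G)) {P' : Subgroup G}
    (hP' : IsParS (S : Subgroup G) P') (hPH : P' ≤ H) {c : G} (hcH : c ∈ H)
    (hcJ : c ∈ normalizer ((zpowers t ⊔ I : Subgroup G) : Set G)) :
    MulAut.conj c • zl (S : Subgroup G) P' ≤ centralizer (zl (S : Subgroup G) P : Set G) := by
  set J : Subgroup G := zpowers t ⊔ I with hJ
  have htJ : t ∈ J := (le_sup_left : zpowers t ≤ J) (mem_zpowers t)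
  have hJU : J ≤ zl (S : Subgroup G) H :=
    sup_le ((zpowers_le).2 T.t_mem) (hIU.trans T.ut_le_U)
  have n1 : c⁻¹ ∈ normalizer (zl (S : Subgroup G) H : Set G) := inv_mem (le_normalizer_zl _ _ hcH)
  have n2 : c⁻¹ ∈ normalizer (J : Set G) := inv_mem hcJ
  have hSJ : (S : Subgroup G) ≤ normalizer (J : Set G) := by
    refine RTools.le_normalizer_sup ?_ (T.SH.trans hIH)
    refine RTools.le_normalizer_of_comm (comm_symm ((zpowers_le).2 ?_))
    rw [mem_centralizer_iff]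
    intro s hs
    exact (mem_zc.1 T.mem).2.1 s hs
  have q1 : MulAut.conj c⁻¹ • zl (S : Subgroup G) P ≤ act (zl (S : Subgroup G) H) J := by
    rw [← conj_eq_of_mem (conj_act n1 n2)]
    exact conj_le_iff.2 (T.le_act (T.VS hc) htJ)
  have q2 : MulAut.conj c⁻¹ • zl (S : Subgroup G) P ≤ centralizer (J : Set G) := by
    rw [← conj_eq_of_mem (conj_cent n2)]
    exact conj_le_iff.2 (T.Vt hc hIV)
  obtain ⟨d, hd, hdS⟩ := exists_cent_conj S hJU (T.sq hc) (T.SH.trans (le_normalizer_zl _ _)) hSJ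
    (Cfsg.Agent.ZN.ChoiceBase.isPGroup_cj c⁻¹ (S.isPGroup'.to_le (T.VS hc))) q1 q2
  have hPU : zl (S : Subgroup G) P' ≤ zl (S : Subgroup G) H :=
    zl_le (zc_le_zl _ _) (hPH.trans (le_normalizer_zl _ _))
  -- `V^{c⁻¹}` normalises `V_{P'}`
  have h1 : MulAut.conj c⁻¹ • zl (S : Subgroup G) P ≤ normalizer (zl (S : Subgroup G) P' : Set G) := by
    have h2 := conj_le_normalizer (g := d⁻¹)
      (hdS.trans (hP'.le.trans (le_normalizer_zl (S : Subgroup G) P')))
    have h3 : d⁻¹ ∈ normalizer (zl (S : Subgroup G) P' : Set G) :=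
      inv_mem (centralizer_le_normalizer _ (centralizer_le hPU hd))
    rwa [conj_conj, inv_mul_cancel, map_one, one_smul, conj_eq_of_mem h3] at h2
  have h2 : zl (S : Subgroup G) P ≤ normalizer ((MulAut.conj c • zl (S : Subgroup G) P' : Subgroup G) : Set G) := by
    have h3 := conj_le_normalizer (g := c) h1
    rwa [conj_conj, mul_inv_cancel, map_one, one_smul] at h3
  have h3 : MulAut.conj c • zl (S : Subgroup G) P' ≤ normalizer (zl (S : Subgroup G) P : Set G) := by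
    have h4 := conj_le_iff (g := c).2 hPU
    rw [conj_eq_of_mem (le_normalizer_zl _ _ hcH)] at h4
    exact fun x hx => T.uV hc (h4 hx)
  have h4 := commute_of_not_FF D.noff T.par hP' c h2 h3
  rw [commutator_eq_bot_iff_le_centralizer] at h4
  exact comm_symm h4

end main

/-! ### (2) -/

section iso

/-- `T^t = U^t ∩ (U^t)^p` -/
def _root_.Cfsg.Agent.Omega.NOThreeL.RTransv.Tt (t p : G) (H : Subgroup G) : Subgroup G :=
  ut t H ⊓ MulAut.conj p • ut t H

variable (hc : IsCharacteristicTwoType G) (T : Two (S : Subgroup G) P H t p)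
include hc T

theorem comm_of_conj {g x y : G} (hx : x ∈ MulAut.conj g • zl (S : Subgroup G) H)
    (hy : y ∈ MulAut.conj g • zl (S : Subgroup G) H) : x * y = y * x := by
  rw [mem_conj] at hx hy
  have h1 := mem_centralizer_iff.1 (T.ab hc hx) _ hy
  have h2 := congrArg (fun z => g * z * g⁻¹) h1
  have e1 : g * (g⁻¹ * x * g * (g⁻¹ * y * g)) * g⁻¹ = x * y := by group
  have e2 : g * (g⁻¹ * y * g * (g⁻¹ * x * g)) * g⁻¹ = y * x := by group
  rw [e1, e2] at h2
  exact h2.symm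

omit [Finite G] hc in
theorem conj_ut_le : MulAut.conj p • ut t H ≤ MulAut.conj p • zl (S : Subgroup G) H :=
  conj_le_iff.2 T.ut_le_U

/-- `U^t(c') ∩ U^t(c'') ≤ T^t` -/
theorem inf_le {u : G} (hu : u ∈ zl (S : Subgroup G) H)
    (huV : u ∉ centralizer (zl (S : Subgroup G) P : Set G)) :
    MulAut.conj p • ut t H ⊓ MulAut.conj (u * p) • ut t H ≤ Tt t p H := by
  intro x hx
  obtain ⟨hx1, hx2⟩ := mem_inf.1 hx
  have hg := T.pt u hu huV
  have huH : u ∈ H := T.SH (T.US hc hu)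
  have hx1' := mem_conj.1 hx1
  rw [mem_conj] at hx2
  set w := p * u * p⁻¹ with hw
  have y1 : w⁻¹ * x * w ∈ ut t H := by
    have h1 := (mem_normalizer_iff.1 (le_normalizer_ut t H hg) _).1 hx2
    have e : p * u⁻¹ * p⁻¹ * u * p * ((u * p)⁻¹ * x * (u * p)) * (p * u⁻¹ * p⁻¹ * u * p)⁻¹ =
        w⁻¹ * x * w := by rw [hw]; group
    rwa [e] at h1
  have y2 : w⁻¹ * x * w ∈ MulAut.conj p • ut t H := by
    rw [mem_conj]
    have h1 := (mem_normalizer_iff.1 (le_normalizer_ut t H (inv_mem huH)) _).1 hx1'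
    have e : u⁻¹ * (p⁻¹ * x * p) * u⁻¹⁻¹ = p⁻¹ * (w⁻¹ * x * w) * p := by rw [hw]; group
    rwa [e] at h1
  have hwU : w ∈ MulAut.conj p • zl (S : Subgroup G) H := by
    rw [mem_conj]
    have e : p⁻¹ * w * p = u := by rw [hw]; group
    rwa [e]
  have h1 := T.comm_of_conj hc hwU (T.conj_ut_le y2)
  have h2 : x = w⁻¹ * x * w := by
    calc x = w * (w⁻¹ * x * w) * w⁻¹ := by group
      _ = w⁻¹ * x * w * w * w⁻¹ := by rw [h1]
      _ = w⁻¹ * x * w := by group
  rw [h2]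
  exact ⟨y1, y2⟩

/-- The kernel. -/
theorem ker {u b : G} (hu : u ∈ zl (S : Subgroup G) H)
    (huV : u ∉ centralizer (zl (S : Subgroup G) P : Set G)) (hb : b ∈ MulAut.conj p • ut t H)
    (h : u * b * u⁻¹ * b⁻¹ ∈ Tt t p H) : b ∈ Tt t p H := by
  have h1 : u * b * u⁻¹ ∈ MulAut.conj p • ut t H := by
    have h2 := mul_mem h.2 hb
    have e : u * b * u⁻¹ * b⁻¹ * b = u * b * u⁻¹ := by group
    rwa [e] at h2
  have h2 : u * b * u⁻¹ ∈ MulAut.conj (u * p) • ut t H := by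
    rw [mem_conj] at hb ⊢
    have e : (u * p)⁻¹ * (u * b * u⁻¹) * (u * p) = p⁻¹ * b * p := by group
    rwa [e]
  have h3 := T.inf_le hc hu huV ⟨h1, h2⟩
  have h4 := mem_centralizer_iff.1 (T.ab hc hu) _ (T.ut_le_U h3.1)
  have h5 : u * b * u⁻¹ = b := by
    have h6 : u * b = u * (u * b * u⁻¹) := by rw [← h4]; group
    exact (mul_left_cancel h6).symm
  rwa [h5] at h3

omit [Finite G] hc in
theorem conj_mem_cent {a : G} (ha : a ∈ MulAut.conj p • (ut t H ⊓ centralizer (zl (S : Subgroup G) P : Set G))) :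
    a ∈ centralizer (zl (S : Subgroup G) P : Set G) := by
  have h1 : a ∈ MulAut.conj p • centralizer (zl (S : Subgroup G) P : Set G) :=
    conj_le_iff.2 inf_le_right ha
  rwa [conj_eq_of_mem (conj_cent T.pV)] at h1

omit [Finite G] hc in
/-- **(2)**, commutators: `[Y_t^p, Y_t] ≤ T^t`. -/
theorem comm_mem {a y : G} (ha : a ∈ MulAut.conj p • (ut t H ⊓ centralizer (zl (S : Subgroup G) P : Set G)))
    (hy : y ∈ ut t H ⊓ centralizer (zl (S : Subgroup G) P : Set G)) : a * y * a⁻¹ * y⁻¹ ∈ Tt t p H := by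
  have haV := T.conj_mem_cent ha
  have h1 := (mem_normalizer_iff.1 (le_normalizer_ut t H (T.cent_le haV)) y).1 hy.1
  refine mem_inf.2 ⟨mul_mem h1 (inv_mem hy.1), ?_⟩
  rw [mem_conj]
  have h2 : p⁻¹ * a⁻¹ * p ∈ ut t H := by
    have h3 := inv_mem (mem_inf.1 (mem_conj.1 ha)).1
    have e : (p⁻¹ * a * p)⁻¹ = p⁻¹ * a⁻¹ * p := by group
    rwa [e] at h3
  have h3 : p⁻¹ * y * p ∈ H := by
    have h4 := (mem_normalizer_iff.1 (conj_cent (inv_mem T.pV)) y).1 hy.2
    rw [inv_inv] at h4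
    exact T.cent_le h4
  have h4 := (mem_normalizer_iff.1 (le_normalizer_ut t H h3) _).1 h2
  have h5 := mul_mem (inv_mem h2) h4
  have e : (p⁻¹ * a⁻¹ * p)⁻¹ * (p⁻¹ * y * p * (p⁻¹ * a⁻¹ * p) * (p⁻¹ * y * p)⁻¹) =
      p⁻¹ * (a * y * a⁻¹ * y⁻¹) * p := by group
  rwa [e] at h5

/-- **(2)** -/
theorem iso {W : Subgroup G} (hW : W ≤ ut t H) (hTW : Tt t p H ≤ W)
    (hTV : Tt t p H ≤ centralizer (zl (S : Subgroup G) P : Set G))
    (hA : MulAut.conj p • (ut t H ⊓ centralizer (zl (S : Subgroup G) P : Set G)) ≤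
      normalizer (W : Set G)) {u : G} (hu : u ∈ W)
    (huV : u ∉ centralizer (zl (S : Subgroup G) P : Set G)) :
    ut t H ⊓ centralizer (zl (S : Subgroup G) P : Set G) ≤ W := by
  set Y := ut t H ⊓ centralizer (zl (S : Subgroup G) P : Set G) with hY
  have huU := T.ut_le_U (hW hu)
  have hTA : Tt t p H ≤ MulAut.conj p • Y := by
    intro x hx
    rw [mem_conj]
    refine ⟨mem_conj.1 hx.2, ?_⟩
    have h4 := (mem_normalizer_iff.1 (conj_cent (inv_mem T.pV)) x).1 (hTV hx)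
    rwa [inv_inv] at h4
  have hTB : Tt t p H ≤ W ⊓ Y := fun x hx => ⟨hTW hx, hx.1, hTV hx⟩
  have hcard : Nat.card ↥(MulAut.conj p • Y) ≤ Nat.card ↥(W ⊓ Y) := by
    refine card_le_of_map hTA hTB (fun a => u * a * u⁻¹ * a⁻¹) (fun a ha => ?_) fun a ha a' ha' h => ?_
    · have haV := T.conj_mem_cent ha
      have h1 := (mem_normalizer_iff.1 (hA ha) _).1 (inv_mem hu)
      have h2 := mul_mem hu h1
      have e : u * (a * u⁻¹ * a⁻¹) = u * a * u⁻¹ * a⁻¹ := by group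
      rw [e] at h2
      exact mem_inf.2 ⟨h2, mem_inf.2 ⟨hW h2,
        mul_mem ((mem_normalizer_iff.1 (conj_cent (T.uV hc huU)) a).1 haV) (inv_mem haV)⟩⟩
    · have hb := mul_mem (inv_mem ha) ha'
      have e : (u * a * u⁻¹ * a⁻¹)⁻¹ * (u * a' * u⁻¹ * a'⁻¹) =
          a * (u * (a⁻¹ * a') * u⁻¹ * (a⁻¹ * a')⁻¹) * a⁻¹ := by group
      rw [e] at h
      set τ := a * (u * (a⁻¹ * a') * u⁻¹ * (a⁻¹ * a')⁻¹) * a⁻¹ with hτ
      have hAU : ∀ x ∈ MulAut.conj p • Y, x ∈ MulAut.conj p • zl (S : Subgroup G) H := fun x hx =>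
        T.conj_ut_le (conj_le_iff.2 inf_le_left hx)
      have h1 := T.comm_of_conj hc (hAU a ha) (T.conj_ut_le h.2)
      have h2 : u * (a⁻¹ * a') * u⁻¹ * (a⁻¹ * a')⁻¹ = τ := by
        calc u * (a⁻¹ * a') * u⁻¹ * (a⁻¹ * a')⁻¹ = a⁻¹ * (τ * a) := by rw [hτ]; group
          _ = τ := by rw [← h1]; group
      refine T.ker hc huU huV ((conj_le_iff.2 inf_le_left) hb) ?_
      rw [h2]
      exact h
  have h1 : Nat.card ↥(MulAut.conj p • Y) = Nat.card Y :=
    Nat.card_congr (Subgroup.equivSMul (MulAut.conj p) Y).symm.toEquiv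
  rw [h1] at hcard
  have h2 := Subgroup.eq_of_le_of_card_ge (inf_le_right : W ⊓ Y ≤ Y) hcard
  rw [← h2]
  exact inf_le_left

end iso

/-! ### (3) -/

section three

variable (hc : IsCharacteristicTwoType G) (D : Data (S : Subgroup G)) (T : Two (S : Subgroup G) P H t p)
include hc D T

/-- **(3)**: `T^t` is not contained in an `H`-invariant subgroup of `U^t` centralised by `V`. -/
theorem false_of {I : Subgroup G} (hIU : I ≤ ut t H) (hIH : H ≤ normalizer (I : Set G))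
    (hIV : I ≤ centralizer (zl (S : Subgroup G) P : Set G)) (hT : Tt t p H ≤ I) : False := by
  set CV := centralizer (zl (S : Subgroup G) P : Set G) with hCV
  set J : Subgroup G := zpowers t ⊔ I with hJ
  have htJ : t ∈ J := (le_sup_left : zpowers t ≤ J) (mem_zpowers t)
  set s : Set G := {x | ∃ c ∈ H, c ∈ normalizer (J : Set G) ∧ ∃ P', IsParS (S : Subgroup G) P' ∧ P' ≤ H ∧
    ∃ y ∈ zl (S : Subgroup G) P', y ∈ ut t H ∧ x = c * y * c⁻¹} with hs
  set W := I ⊔ closure s with hW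
  have hIW : I ≤ W := le_sup_left
  have hWut : W ≤ ut t H := by
    refine sup_le hIU ((closure_le _).2 ?_)
    rintro _ ⟨c, hc', -, P', -, -, y, -, hy, rfl⟩
    exact (mem_normalizer_iff.1 (le_normalizer_ut t H hc') y).1 hy
  have hWV : W ≤ CV := by
    refine sup_le hIV ((closure_le _).2 ?_)
    rintro _ ⟨c, hc', hcJ, P', hP', hP'H, y, hy, -, rfl⟩
    refine T.lemmaW hc D hIU hIH hIV hP' hP'H hc' hcJ ?_
    rw [mem_conj]
    have e : c⁻¹ * (c * y * c⁻¹) * c = y := by group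
    rwa [e]
  have hWN : H ⊓ normalizer (J : Set G) ≤ normalizer (W : Set G) := by
    refine RTools.le_normalizer_sup (inf_le_left.trans hIH) (le_normalizer_closure ?_)
    rintro g ⟨hg, hgJ⟩ _ ⟨c, hc', hcJ, P', hP', hP'H, y, hy, hyt, rfl⟩
    exact ⟨g * c, mul_mem hg hc', mul_mem hgJ hcJ, P', hP', hP'H, y, hy, hyt, by group⟩
  -- the main step
  have key : ∀ h ∈ H, h * t * h⁻¹ ∈ CV → MulAut.conj h • W ≤ CV := by
    intro h hh ht
    by_contra hcon
    obtain ⟨u, huW, huV⟩ := SetLike.not_le_iff_exists.1 hcon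
    have hyt : h * t * h⁻¹ ∈ ut t H ⊓ CV := ⟨conj_mem_ut hh, ht⟩
    -- `A^{h⁻¹}` normalises `W`
    have hA1 : MulAut.conj h⁻¹ • (MulAut.conj p • (ut t H ⊓ CV)) ≤ H ⊓ normalizer (J : Set G) := by
      have a1 : MulAut.conj h⁻¹ • (MulAut.conj p • (ut t H ⊓ CV)) ≤ H := by
        have h1 := conj_le_iff (g := h⁻¹).2 (fun a ha => T.cent_le (T.conj_mem_cent ha) :
          MulAut.conj p • (ut t H ⊓ CV) ≤ H)
        rwa [conj_eq_of_mem (le_normalizer (inv_mem hh))] at h1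
      refine le_inf a1 ?_
      have a2 : ∀ g ∈ MulAut.conj h⁻¹ • (MulAut.conj p • (ut t H ⊓ CV)), MulAut.conj g • J ≤ J := by
        intro g hg
        have hgH := a1 hg
        rw [hJ, smul_sup, conj_eq_of_mem (hIH hgH)]
        refine sup_le ?_ le_sup_right
        rw [mem_conj, inv_inv] at hg
        have h1 := T.comm_mem hg hyt
        have h2 := hT h1
        have h3 := (mem_normalizer_iff.1 (hIH (inv_mem hh)) _).1 h2
        have e : h⁻¹ * (h * g * h⁻¹ * (h * t * h⁻¹) * (h * g * h⁻¹)⁻¹ * (h * t * h⁻¹)⁻¹) * h⁻¹⁻¹ =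
            g * t * g⁻¹ * t⁻¹ := by group
        rw [e] at h3
        have h4 : g * t * g⁻¹ ∈ J := by
          have h5 := mul_mem ((le_sup_right : I ≤ J) h3) htJ
          have e2 : g * t * g⁻¹ * t⁻¹ * t = g * t * g⁻¹ := by group
          rwa [e2] at h5
        have h5 : zpowers t ≤ MulAut.conj g⁻¹ • J := by
          rw [zpowers_le, mem_conj, inv_inv]
          exact h4
        have h6 := conj_le_iff (g := g).2 h5
        rwa [conj_conj, mul_inv_cancel, map_one, one_smul] at h6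
      intro g hg
      have h1 : MulAut.conj g • J = J := by
        apply le_antisymm (a2 g hg)
        have h2 := conj_le_iff (g := g).2 (a2 g⁻¹ (inv_mem hg))
        rwa [conj_conj, mul_inv_cancel, map_one, one_smul] at h2
      exact mem_normalizer_of_conj h1
    have hA : MulAut.conj p • (ut t H ⊓ CV) ≤ normalizer ((MulAut.conj h • W : Subgroup G) : Set G) := by
      have h1 := conj_le_normalizer (g := h) (hA1.trans hWN)
      rwa [conj_conj, mul_inv_cancel, map_one, one_smul] at h1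
    have hWh : MulAut.conj h • W ≤ ut t H := by
      have h1 := conj_le_iff (g := h).2 hWut
      rwa [conj_eq_of_mem (le_normalizer_ut t H hh)] at h1
    have hTW : Tt t p H ≤ MulAut.conj h • W := by
      have h1 := conj_le_iff (g := h).2 hIW
      rw [conj_eq_of_mem (hIH hh)] at h1
      exact hT.trans h1
    have h1 := T.iso hc hWh hTW (hT.trans hIV) hA huW huV
    have h2 : Nat.card ↥(MulAut.conj h • W) ≤ Nat.card ↥(ut t H ⊓ CV) := by
      rw [Nat.card_congr (Subgroup.equivSMul (MulAut.conj h) W).symm.toEquiv]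
      exact Subgroup.card_le_of_le (le_inf hWut hWV)
    have h3 := Subgroup.eq_of_le_of_card_ge h1 h2
    rw [← h3] at huW
    exact huV huW.2
  -- generation
  have ht : t ∈ CV := by
    rw [hCV, mem_centralizer_iff]
    intro v hv
    exact (mem_zc.1 T.mem).2.1 v (T.VS hc hv)
  let K₀ : Subgroup G :=
    { carrier := {g | g ∈ H ∧ ∀ h ∈ H, (h * t * h⁻¹ ∈ CV ↔ h * g * t * (h * g)⁻¹ ∈ CV)}
      mul_mem' := by
        rintro g g' ⟨hg, h1⟩ ⟨hg', h2⟩
        refine ⟨mul_mem hg hg', fun h hh => ?_⟩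
        rw [h1 h hh, h2 (h * g) (mul_mem hh hg), mul_assoc h g g']
      one_mem' := ⟨one_mem _, fun h _ => by rw [mul_one]⟩
      inv_mem' := by
        rintro g ⟨hg, h1⟩
        refine ⟨inv_mem hg, fun h hh => ?_⟩
        have h2 := h1 (h * g⁻¹) (mul_mem hh (inv_mem hg))
        rw [inv_mul_cancel_right] at h2
        exact h2.symm }
  have hK : H ≤ K₀ := by
    refine T.gen K₀ (fun g hg => ⟨T.long.cz hg, fun h _ => ?_⟩) fun P' hP' hP'H g hg => ?_
    · have h1 : t * g = g * t := mem_centralizer_iff.1 hg t T.mem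
      have e : h * g * t * (h * g)⁻¹ = h * t * h⁻¹ := by
        rw [mul_assoc h g t, ← h1]
        group
      rw [e]
    · have step : ∀ g ∈ P', ∀ h ∈ H, h * t * h⁻¹ ∈ CV → h * g * t * (h * g)⁻¹ ∈ CV := by
        intro g hg h hh h1
        refine key h hh h1 ?_
        rw [mem_conj]
        have e : h⁻¹ * (h * g * t * (h * g)⁻¹) * h = g * t * g⁻¹ := by group
        rw [e]
        refine (le_sup_right : closure s ≤ W) (subset_closure ⟨1, one_mem _, one_mem _, P', hP', hP'H,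
          g * t * g⁻¹, ?_, conj_mem_ut (hP'H hg), by group⟩)
        exact (mem_normalizer_iff.1 (le_normalizer_zl _ _ hg) t).1 (zc_le_zl _ _ T.mem)
      refine ⟨hP'H hg, fun h hh => ⟨step g hg h hh, fun h1 => ?_⟩⟩
      have h2 := step g⁻¹ (inv_mem hg) (h * g) (mul_mem hh (hP'H hg)) h1
      rwa [mul_inv_cancel_right] at h2
  refine T.not_le hc (ut_le fun x hx => ?_)
  have h1 := ((hK hx).2 1 (one_mem _)).1 (by simpa using ht)
  simpa using h1

/-- **(3)**, `I = U^t ∩ C(K^)`, `K^ = ⟨V^H⟩`: `T^t` is moved by `K^`. -/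
theorem not_le_K : ¬ Tt t p H ≤ centralizer (V (zl (S : Subgroup G) P) H : Set G) := by
  intro hT
  have hVK : zl (S : Subgroup G) P ≤ V (zl (S : Subgroup G) P) H := by
    have h1 := Z_le_V (Z := zl (S : Subgroup G) P) H.one_mem
    rwa [map_one, one_smul] at h1
  refine T.false_of hc D (I := ut t H ⊓ centralizer (V (zl (S : Subgroup G) P) H : Set G)) inf_le_left ?_
    (inf_le_right.trans (centralizer_le hVK)) (le_inf inf_le_left hT)
  intro g hg
  refine mem_normalizer_inf (le_normalizer_ut t H hg) (conj_cent (mem_normalizer_of_conj ?_))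
  have h1 := conj_V_mul (Z := zl (S : Subgroup G) P) (g := 1) hg
  rwa [one_mul, map_one, one_smul] at h1

end three

end Two

end Cfsg.Agent.Omega.NOThreeL.RTransv

end
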