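import Cfsg.Agent.Mrg.Omega.NOThreeL.Basic


/-!
# NO-3L, box R, tool (R1): NOFF goes down (#15623, helper691; referee #15774, helper709)

`X_i ≤ V_i = V_{P_i}(S_i)` normalised by `S_i` with `V_i = X_i E_i`, `E_i ≤ Z(S_i)` (for instance
`E_i = C_{Z_i}(P_i)`).  If there is no mutual pair and `X_1`, `X_2` normalise each other then `[X_1, X_2] = 1`.

* `noff_down` : the general form, `S_1 = S`, `S_2 = S^x`;
* `noff_down'` : `S_1 = S^g`, `S_2 = S^h`;
* `noff_down_cz` : `E_i = C_Z(P_i)`.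
-/

set_option autoImplicit false

namespace Cfsg.Agent.Omega.NOThreeL.RTools

open Subgroup Cfsg Cfsg.Agent.ZN Cfsg.Agent.Omega.MinPar Cfsg.Agent.Omega.FFThm
open Cfsg.Agent.Omega.NoFF.Basic (conj_conj mem_conj conj_le_iff conj_le_centralizer comm_symm comm_mono)
open Cfsg.Agent.Omega.NOThreeL.Pair (conj_eq_of_mem conj_le_normalizer)
open Cfsg.Agent.MinSimple.VModule (zc_le)
open Cfsg.Agent.ZN.ChoiceSit (Syl exists_syl)
open Cfsg.Agent.ZN.ChoiceBase (isPGroup_cj cj cj_cj cj_cj_inv cj_inv_cj)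
open scoped Pointwise

universe u

variable {G : Type u} [Group G]

theorem le_normalizer_of_comm {A B : Subgroup G} (h : A ≤ centralizer (B : Set G)) :
    A ≤ normalizer (B : Set G) := h.trans (centralizer_le_normalizer _)

theorem le_normalizer_sup {A B C : Subgroup G} (hB : A ≤ normalizer (B : Set G))
    (hC : A ≤ normalizer (C : Set G)) : A ≤ normalizer ((B ⊔ C : Subgroup G) : Set G) := by
  have key : ∀ a ∈ A, MulAut.conj a • (B ⊔ C) = B ⊔ C := fun a ha => by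
    rw [Subgroup.smul_sup, conj_eq_of_mem (hB ha), conj_eq_of_mem (hC ha)]
  intro a ha
  rw [mem_normalizer_iff]
  intro y
  constructor
  · intro hy
    rw [← key a ha, mem_conj]
    simpa [mul_assoc] using hy
  · intro hy
    rw [← key a ha, mem_conj] at hy
    simpa [mul_assoc] using hy

theorem zc_le_centralizer (S : Subgroup G) : zc S ≤ centralizer (S : Set G) := by
  intro z hz
  rw [mem_centralizer_iff]
  intro s hs
  exact (Cfsg.Agent.MinSimple.VModule.mem_zc.1 hz).2.1 s hs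

theorem le_normalizer_sup_left {A B C : Subgroup G} (hB : A ≤ normalizer (C : Set G))
    (hC : B ≤ normalizer (C : Set G)) : A ⊔ B ≤ normalizer (C : Set G) := sup_le hB hC

variable [Finite G]

/-- **(R1)** -/
theorem noff_down {S : Sylow 2 G} (hn : ¬ FF (S : Subgroup G)) {P₁ P₂ X₁ X₂ E₁ E₂ : Subgroup G}
    (h₁ : IsParS (S : Subgroup G) P₁) (h₂ : IsParS (S : Subgroup G) P₂)
    (n₁ : (S : Subgroup G) ≤ normalizer (X₁ : Set G)) (n₂ : (S : Subgroup G) ≤ normalizer (X₂ : Set G))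
    (x₁ : X₁ ≤ (S : Subgroup G)) (x₂ : X₂ ≤ (S : Subgroup G))
    (e₁ : E₁ ≤ zc (S : Subgroup G)) (e₂ : E₂ ≤ zc (S : Subgroup G))
    (v₁ : zl (S : Subgroup G) P₁ = X₁ ⊔ E₁) (v₂ : zl (S : Subgroup G) P₂ = X₂ ⊔ E₂) (x : G)
    (m₁ : X₁ ≤ normalizer ((MulAut.conj x • X₂ : Subgroup G) : Set G))
    (m₂ : MulAut.conj x • X₂ ≤ normalizer (X₁ : Set G)) :
    X₁ ≤ centralizer ((MulAut.conj x • X₂ : Subgroup G) : Set G) := by
  classical
  have pX₁ : IsPGroup 2 X₁ := S.isPGroup'.to_le x₁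
  have pX₂ : IsPGroup 2 (MulAut.conj x • X₂ : Subgroup G) := isPGroup_cj x (S.isPGroup'.to_le x₂)
  -- the Sylow subgroup `R`
  have pM : IsPGroup 2 (X₁ ⊔ MulAut.conj x • X₂ : Subgroup G) :=
    IsPGroup.to_sup_of_normal_right' pX₁ pX₂ m₁
  have hM : X₁ ⊔ MulAut.conj x • X₂ ≤
      normalizer (X₁ : Set G) ⊓ normalizer ((MulAut.conj x • X₂ : Subgroup G) : Set G) :=
    sup_le (le_inf le_normalizer m₁) (le_inf m₂ le_normalizer)
  obtain ⟨R, hR, hMR⟩ := exists_syl pM hM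
  have hR1 : X₁ ≤ R := le_sup_left.trans hMR
  have hR2 : MulAut.conj x • X₂ ≤ R := le_sup_right.trans hMR
  -- `R ≤ S^{g₁⁻¹}`, `g₁ ∈ N(X₁)`
  obtain ⟨g, hg, hgR⟩ := exists_conj_le S n₁ hR.2.1 (hR.1.trans inf_le_left)
  have hR' : cj x⁻¹ R ≤ normalizer (X₂ : Set G) := by
    have h1 := conj_le_normalizer (g := x⁻¹) (hR.1.trans inf_le_right)
    rw [conj_conj, inv_mul_cancel, map_one, one_smul] at h1
    exact h1
  obtain ⟨k, hk, hkR⟩ := exists_conj_le S n₂ (isPGroup_cj x⁻¹ hR.2.1) hR'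
  rw [cj_cj] at hkR
  -- `E₁' ≤ R`
  have key : ∀ {E : Subgroup G} {a : G}, E ≤ zc (S : Subgroup G) → cj a R ≤ (S : Subgroup G) →
      cj a⁻¹ E ≤ R ∧ cj a⁻¹ E ≤ centralizer (R : Set G) := by
    intro E a hE ha
    have hc : cj a⁻¹ E ≤ centralizer (R : Set G) := by
      have h1 : E ≤ centralizer ((cj a R : Subgroup G) : Set G) :=
        (hE.trans (zc_le_centralizer _)).trans (centralizer_le ha)
      have h2 := conj_le_centralizer (g := a⁻¹) h1
      have h3 : MulAut.conj a⁻¹ • cj a R = R := cj_inv_cj a R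
      rw [h3] at h2
      exact h2
    refine ⟨?_, hc⟩
    have pE : IsPGroup 2 (cj a⁻¹ E : Subgroup G) :=
      isPGroup_cj a⁻¹ (S.isPGroup'.to_le (hE.trans (zc_le _)))
    have h1 : IsPGroup 2 (R ⊔ cj a⁻¹ E : Subgroup G) :=
      IsPGroup.to_sup_of_normal_left' hR.2.1 pE (le_normalizer_of_comm hc)
    have h2 : cj a⁻¹ E ≤ normalizer (X₁ : Set G) ⊓ normalizer ((MulAut.conj x • X₂ : Subgroup G) : Set G) :=
      le_inf (le_normalizer_of_comm (hc.trans (centralizer_le hR1)))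
        (le_normalizer_of_comm (hc.trans (centralizer_le hR2)))
    have h3 := hR.2.2 _ (sup_le hR.1 h2) h1 le_sup_left
    exact h3 ▸ le_sup_right
  obtain ⟨f1, f1c⟩ := key e₁ hgR
  obtain ⟨f2, f2c⟩ := key e₂ hkR
  -- the conjugates of `V_1`, `V_2`
  have hX1 : MulAut.conj g⁻¹ • X₁ = X₁ := conj_eq_of_mem (inv_mem hg)
  have hX2 : MulAut.conj (k * x⁻¹)⁻¹ • X₂ = MulAut.conj x • X₂ := by
    rw [mul_inv_rev, inv_inv, ← conj_conj, conj_eq_of_mem (inv_mem hk)]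
  have w1 : MulAut.conj g⁻¹ • zl (S : Subgroup G) P₁ = X₁ ⊔ cj g⁻¹ E₁ := by
    rw [v₁, Subgroup.smul_sup, hX1]
    rfl
  have w2 : MulAut.conj (k * x⁻¹)⁻¹ • zl (S : Subgroup G) P₂ =
      MulAut.conj x • X₂ ⊔ cj (k * x⁻¹)⁻¹ E₂ := by
    rw [v₂, Subgroup.smul_sup, hX2]
    rfl
  set F₁ : Subgroup G := cj g⁻¹ E₁ with hF₁
  set F₂ : Subgroup G := cj (k * x⁻¹)⁻¹ E₂ with hF₂
  set X : Subgroup G := MulAut.conj x • X₂ with hX
  have hl1 : X₁ ⊔ F₁ ≤ R := sup_le hR1 f1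
  have hl2 : X ⊔ F₂ ≤ R := sup_le hR2 f2
  have n1 : X₁ ⊔ F₁ ≤ normalizer ((X ⊔ F₂ : Subgroup G) : Set G) := by
    refine le_normalizer_sup ?_ ?_
    · exact hl1.trans (hR.1.trans inf_le_right)
    · exact le_normalizer_of_comm (hl1.trans (comm_symm f2c))
  have n2 : X ⊔ F₂ ≤ normalizer ((X₁ ⊔ F₁ : Subgroup G) : Set G) := by
    refine le_normalizer_sup ?_ ?_
    · exact hl2.trans (hR.1.trans inf_le_left)
    · exact le_normalizer_of_comm (hl2.trans (comm_symm f1c))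
  -- no mutual pair
  by_contra hcon
  refine hn ⟨P₁, P₂, g * (k * x⁻¹)⁻¹, h₁, h₂, ?_, ?_, ?_⟩
  · rw [← w1, ← w2] at n1
    have h1 := conj_le_normalizer (g := g) n1
    rwa [conj_conj, conj_conj, mul_inv_cancel, map_one, one_smul] at h1
  · rw [← w1, ← w2] at n2
    have h1 := conj_le_normalizer (g := g) n2
    rwa [conj_conj, conj_conj, mul_inv_cancel, map_one, one_smul] at h1
  · intro h0
    rw [commutator_eq_bot_iff_le_centralizer] at h0
    have h1 := conj_le_centralizer (g := g⁻¹) h0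
    rw [conj_conj, inv_mul_cancel_left, w1, w2] at h1
    exact hcon (comm_mono h1 le_sup_left le_sup_left)

/-- **(R1)**, `S_1 = S^g`, `S_2 = S^h`. -/
theorem noff_down' {S : Sylow 2 G} (hn : ¬ FF (S : Subgroup G)) {P₁ P₂ X₁ X₂ E₁ E₂ : Subgroup G}
    (h₁ : IsParS (S : Subgroup G) P₁) (h₂ : IsParS (S : Subgroup G) P₂)
    (n₁ : (S : Subgroup G) ≤ normalizer (X₁ : Set G)) (n₂ : (S : Subgroup G) ≤ normalizer (X₂ : Set G))
    (x₁ : X₁ ≤ (S : Subgroup G)) (x₂ : X₂ ≤ (S : Subgroup G))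
    (e₁ : E₁ ≤ zc (S : Subgroup G)) (e₂ : E₂ ≤ zc (S : Subgroup G))
    (v₁ : zl (S : Subgroup G) P₁ = X₁ ⊔ E₁) (v₂ : zl (S : Subgroup G) P₂ = X₂ ⊔ E₂) (g h : G)
    (m₁ : MulAut.conj g • X₁ ≤ normalizer ((MulAut.conj h • X₂ : Subgroup G) : Set G))
    (m₂ : MulAut.conj h • X₂ ≤ normalizer ((MulAut.conj g • X₁ : Subgroup G) : Set G)) :
    MulAut.conj g • X₁ ≤ centralizer ((MulAut.conj h • X₂ : Subgroup G) : Set G) := by
  have a1 := conj_le_normalizer (g := g⁻¹) m₁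
  have a2 := conj_le_normalizer (g := g⁻¹) m₂
  rw [conj_conj, conj_conj, inv_mul_cancel, map_one, one_smul] at a1 a2
  have a3 := conj_le_centralizer (g := g) (noff_down hn h₁ h₂ n₁ n₂ x₁ x₂ e₁ e₂ v₁ v₂ (g⁻¹ * h) a1 a2)
  rwa [conj_conj, mul_inv_cancel_left] at a3

/-- `X` is a `P`-invariant subgroup of `V_P` with `V_P = X C_Z(P)`. -/
structure Part (S P X : Subgroup G) : Prop where
  par : IsParS S P
  le : X ≤ zl S P
  norm : P ≤ normalizer (X : Set G)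
  eq : zl S P = X ⊔ (zc S ⊓ centralizer (P : Set G))

/-- **(R1)**, `E_i = C_Z(P_i)`: NOFF for the parts `X_i` of `V_{P_i}`. -/
theorem noff_down_cz (hc : IsCharacteristicTwoType G) {S : Sylow 2 G} (hn : ¬ FF (S : Subgroup G))
    {P₁ P₂ X₁ X₂ : Subgroup G} (h₁ : Part (S : Subgroup G) P₁ X₁) (h₂ : Part (S : Subgroup G) P₂ X₂)
    (g h : G)
    (m₁ : MulAut.conj g • X₁ ≤ normalizer ((MulAut.conj h • X₂ : Subgroup G) : Set G))
    (m₂ : MulAut.conj h • X₂ ≤ normalizer ((MulAut.conj g • X₁ : Subgroup G) : Set G)) :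
    MulAut.conj g • X₁ ≤ centralizer ((MulAut.conj h • X₂ : Subgroup G) : Set G) :=
  noff_down' hn h₁.par h₂.par (h₁.par.le.trans h₁.norm) (h₂.par.le.trans h₂.norm)
    (h₁.le.trans (Basic.IsParS.zl_le_S hc h₁.par)) (h₂.le.trans (Basic.IsParS.zl_le_S hc h₂.par))
    inf_le_left inf_le_left h₁.eq h₂.eq g h m₁ m₂

end Cfsg.Agent.Omega.NOThreeL.RTools
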