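import Cfsg.Agent.Mrg.Omega.NOThreeL.RTools.HypA
import Cfsg.Agent.Mrg.Omega.NOThreeL.RTools.Two
import Cfsg.Agent.Omega.NOThreeL.Geo
import Cfsg.Agent.MinSimple.BTwoB
import Cfsg.Agent.Mrg.Omega.NOThreeL.RTools.Many.Hyp

section


/-!
# NO-3L, box R, case (A), `q = 2`, `k = 1` (#17122, helper858): the frame facts (0)

`V = V_P = zl S P`, `U = U_H = zl S H`, `U# = Ush H e = ⟨e^H⟩`, `PPt H e = e^H`, `N = NN S P H = ⟨V^H⟩`, `E = C_Z(P)`.

* `VU`, `aU` : `[V, U] ≤ ⟨e⟩`, `C_U(a) = C_U(V)`;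
* `le_sup` (0)(a) : `H = N C`; `exists_nc`; `mem_PPt_iff` : `e^H = e^N`;
* `not_cent` (0)(b) : no `1 ≠ z ∈ E` is centralised by `N`;
* `exists_mul` (0)(c) : `U = U# E`; `cm_mem` : `H` centralises `U/U#`; `cent_U` : `C_H(U#) = C_H(U)`;
* `triv` (0)(d); `V_le_o2` (0)(e) : `V ≤ O₂(C_H(e))`; `Wl` : the product of the lines in `H` on `e`;
  `Wl_cent` : `V^k`, `k ∈ C_H(e)`, centralises it; `exists_ne` : `e^H ∩ W ≠ {e}`.
-/

set_option autoImplicit false
set_option linter.unusedSectionVars false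

namespace Cfsg.Agent.Omega.NOThreeL.RTools

open Subgroup Cfsg Cfsg.Agent.Omega.MinPar
open Cfsg.Agent.ZN (zc zl o2)
open Cfsg.Agent.Omega.Frame Cfsg.Agent.Omega.FrameNOFF
open Cfsg.Agent.Omega.Node.NO3L Cfsg.Agent.Omega.NOThreeL.Basic
open Cfsg.Agent.Omega.NoFF.Basic (conj_conj mem_conj conj_le_iff conj_le_centralizer comm_symm comm_mono)
open Cfsg.Agent.Omega.NOThreeL.Pair (conj_eq_of_mem conj_le_normalizer zl_abel)
open Cfsg.Agent.MinSimple.VModule (zl_le zc_le_zl le_normalizer_zl zc_le o2_isPGroup le_normalizer_o2 le_o2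
  normalizer_le_normalizer_zc)
open Cfsg.Agent.Omega.NOThreeL (mem_normalizer_of_conj_eq le_normalizer_of mem_sup_of_comm)
open scoped Pointwise

universe u

variable {G : Type u} [Group G]

/-- `N = ⟨V_P^H⟩` -/
def NN (S P H : Subgroup G) : Subgroup G := ⨆ h : H, MulAut.conj (h : G) • zl S P

/-- the product of the lines in `H` on the point `Z`, conjugated by `C_H(e)` -/
def Wl (S H : Subgroup G) (e : G) : Subgroup G :=
  NoFF.Lines.W (zc S) (H ⊓ centralizer ({e} : Set G)) {P | IsParS S P ∧ P ≤ H}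

theorem conj_mem_of_mem {A : Subgroup G} {g x : G} (hg : g ∈ normalizer (A : Set G)) (hx : x ∈ A) :
    g * x * g⁻¹ ∈ A := (mem_normalizer_iff.mp hg x).mp hx

theorem conj_le_NN {S P H : Subgroup G} {h : G} (hh : h ∈ H) : MulAut.conj h • zl S P ≤ NN S P H :=
  le_iSup (fun h : H => MulAut.conj (h : G) • zl S P) ⟨h, hh⟩

theorem le_NN (S P H : Subgroup G) : zl S P ≤ NN S P H := by
  have h := conj_le_NN (S := S) (P := P) (H := H) H.one_mem
  rwa [map_one, one_smul] at h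

theorem NN_le {S P H A : Subgroup G} (h : ∀ x ∈ H, MulAut.conj x • zl S P ≤ A) : NN S P H ≤ A :=
  iSup_le fun x => h x x.2

theorem le_normalizer_NN (S P H : Subgroup G) : H ≤ normalizer (NN S P H : Set G) := by
  have key : ∀ h ∈ H, MulAut.conj h • NN S P H ≤ NN S P H := by
    intro h hh
    rw [← conj_le_iff (g := h⁻¹), conj_conj, inv_mul_cancel, map_one, one_smul]
    refine NN_le fun x hx => ?_
    rw [← conj_le_iff (g := h), conj_conj, conj_conj, mul_inv_cancel, map_one, one_smul]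
    exact conj_le_NN (mul_mem hh hx)
  intro h hh
  refine mem_normalizer_of_conj_eq (le_antisymm (key h hh) ?_)
  have h1 := conj_le_iff (g := h).2 (key h⁻¹ (inv_mem hh))
  rwa [conj_conj, mul_inv_cancel, map_one, one_smul] at h1

theorem PPt_conj {H : Subgroup G} {e h p : G} (hh : h ∈ H) (hp : p ∈ PPt H e) : h * p * h⁻¹ ∈ PPt H e := by
  obtain ⟨k, hk, rfl⟩ := hp
  exact ⟨h * k, mul_mem hh hk, by group⟩

theorem self_mem_PPt (H : Subgroup G) (e : G) : e ∈ PPt H e := ⟨1, one_mem _, by group⟩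

theorem le_normalizer_Ush (H : Subgroup G) (e : G) : H ≤ normalizer (Ush H e : Set G) := by
  refine le_normalizer_of fun h hh x hx => ?_
  refine closure_induction (p := fun x _ => h * x * h⁻¹ ∈ Ush H e) ?_ ?_ ?_ ?_ hx
  · exact fun x hx => subset_closure (PPt_conj hh hx)
  · rw [mul_one, mul_inv_cancel]; exact one_mem _
  · intro x y _ _ h1 h2
    have e1 : h * (x * y) * h⁻¹ = (h * x * h⁻¹) * (h * y * h⁻¹) := by group
    rw [e1]
    exact mul_mem h1 h2
  · intro x _ h1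
    have e1 : h * x⁻¹ * h⁻¹ = (h * x * h⁻¹)⁻¹ := by group
    rw [e1]
    exact inv_mem h1

theorem mem_Ush (H : Subgroup G) (e : G) : e ∈ Ush H e := subset_closure (self_mem_PPt H e)

theorem PPt_sub {H : Subgroup G} {e p : G} (hp : p ∈ PPt H e) : p ∈ Ush H e := subset_closure hp

/-- A normal subgroup `M₀` of `H ≥ S` which is a 2-group modulo `K₀ ⊴ H`: `M₀ = K₀ (S ∩ M₀)`. -/
theorem le_sup_inf [Finite G] (S : Sylow 2 G) {H M₀ K₀ : Subgroup G} (hSH : (S : Subgroup G) ≤ H) (hM : M₀ ≤ H)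
    (hn : H ≤ normalizer (M₀ : Set G)) (hK : K₀ ≤ H) (hk : H ≤ normalizer (K₀ : Set G))
    (h : ∀ x ∈ M₀, x ^ 2 ∈ K₀) : M₀ ≤ K₀ ⊔ ((S : Subgroup G) ⊓ M₀) :=
  Cfsg.Agent.MinSimple.BTwoB.le_sup_inf_of_pow hSH S.isPGroup' (MinSimple.Basic.not_dvd_relIndex S hSH) hM hn hK hk
    fun x hx => ⟨1, by simpa using h x hx⟩

namespace HypA

variable [Finite G] {S : Sylow 2 G} {P H : Subgroup G} {e a : G} (D : HypA S P H e a)
include D

theorem commV {x y : G} (hx : x ∈ zl (S : Subgroup G) P) (hy : y ∈ zl (S : Subgroup G) P) : x * y = y * x :=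
  mem_centralizer_iff.mp ((zl_abel D.hc S D.par.isLoc).1 hy) x hx

theorem sqV {x : G} (hx : x ∈ zl (S : Subgroup G) P) : x * x = 1 := by
  have h := (zl_abel D.hc S D.par.isLoc).2 x hx
  rwa [pow_two] at h

theorem commU {x y : G} (hx : x ∈ zl (S : Subgroup G) H) (hy : y ∈ zl (S : Subgroup G) H) : x * y = y * x :=
  mem_centralizer_iff.mp ((zl_abel D.hc S D.long.loc).1 hy) x hx

theorem sqU {x : G} (hx : x ∈ zl (S : Subgroup G) H) : x * x = 1 := by
  have h := (zl_abel D.hc S D.long.loc).2 x hx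
  rwa [pow_two] at h

theorem SH : (S : Subgroup G) ≤ H := D.long.loc.le

theorem SP : (S : Subgroup G) ≤ P := D.par.le

theorem VS : zl (S : Subgroup G) P ≤ (S : Subgroup G) := IsParS.zl_le_S D.hc D.par

theorem US : zl (S : Subgroup G) H ≤ (S : Subgroup G) := IsLong.zl_le_S D.hc D.long

theorem CH : CZ (S : Subgroup G) ≤ H := D.long.cz

theorem ZU : zc (S : Subgroup G) ≤ zl (S : Subgroup G) H := zc_le_zl _ _

theorem ZV : zc (S : Subgroup G) ≤ zl (S : Subgroup G) P := zc_le_zl _ _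

theorem VH : zl (S : Subgroup G) P ≤ H := D.VS.trans D.SH

omit D in
theorem zcomm {z s : G} (hz : z ∈ zc (S : Subgroup G)) (hs : s ∈ (S : Subgroup G)) : s * z = z * s :=
  (Cfsg.Agent.MinSimple.VModule.mem_zc.1 hz).2.1 s hs

theorem e_sq : e * e = 1 := D.sqV (D.ZV D.eZ)

theorem a_sq : a * a = 1 := D.sqV D.aV

theorem ea : e * a = a * e := D.commV (D.ZV D.eZ) D.aV

/-- `U` is not centralised by `a` -/
theorem a_not : ∃ f ∈ zl (S : Subgroup G) H, a * f ≠ f * a := by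
  by_contra hcon
  push Not at hcon
  apply D.ne
  intro v hv
  rw [mem_centralizer_iff]
  intro f hf
  obtain ⟨x, hx, ε, hε, rfl⟩ := D.cov v hv
  have h1 : f * ε = ε * f := zcomm (mem_inf.mp hε).1 (D.US hf)
  have h2 : f * e = e * f := zcomm D.eZ (D.US hf)
  have h3 : a * f = f * a := hcon f hf
  have h4 : f * x = x * f := by
    rcases hx with rfl | rfl | rfl | rfl
    · rw [mul_one, one_mul]
    · exact h2
    · exact h3.symm
    · calc f * (e * a) = (f * e) * a := by group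
        _ = e * (f * a) := by rw [h2]; group
        _ = e * a * f := by rw [← h3]; group
  calc f * (x * ε) = (f * x) * ε := by group
    _ = x * (f * ε) := by rw [h4]; group
    _ = x * ε * f := by rw [h1]; group

theorem a_nZ : a ∉ zc (S : Subgroup G) := fun h => by
  obtain ⟨f, hf, h1⟩ := D.a_not
  exact h1 (zcomm h (D.US hf)).symm

theorem a_ne : a ≠ e := fun h => D.a_nZ (h ▸ D.eZ)

/-- an element of `S` fixes `a` or moves it to `ea` -/
theorem S_a {s : G} (hs : s ∈ (S : Subgroup G)) : s * a * s⁻¹ = a ∨ s * a * s⁻¹ = e * a := by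
  rcases D.inva s (D.SP hs) with h | h | h
  · exfalso
    apply D.a_ne
    have h1 : s * e = e * s := zcomm D.eZ hs
    calc a = s⁻¹ * (s * a * s⁻¹) * s := by group
      _ = s⁻¹ * (e * s) := by rw [h]; group
      _ = e := by rw [← h1]; group
  · exact Or.inl h
  · exact Or.inr h

theorem cm_a {s : G} (hs : s ∈ (S : Subgroup G)) : cm a s = 1 ∨ cm a s = e := by
  have h0 : cm a s = a * (s * a * s⁻¹)⁻¹ := by rw [cm_def]; group
  rcases D.S_a hs with h | h
  · left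
    rw [h0, h, mul_inv_cancel]
  · right
    rw [h0, h, mul_inv_rev, ← mul_assoc, mul_inv_cancel, one_mul]
    exact inv_eq_of_mul_eq_one_left D.e_sq

theorem cm_V {v s : G} (hv : v ∈ zl (S : Subgroup G) P) (hs : s ∈ (S : Subgroup G)) :
    cm v s = 1 ∨ cm v s = e := by
  obtain ⟨x, hx, ε, hε, rfl⟩ := D.cov v hv
  have h1 : s * ε = ε * s := zcomm (mem_inf.mp hε).1 hs
  have h2 : s * e = e * s := zcomm D.eZ hs
  have h3 : cm (x * ε) s = cm x s := by
    rw [cm_def, cm_def, mul_inv_rev]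
    calc x * ε * s * (ε⁻¹ * x⁻¹) * s⁻¹ = x * (ε * s) * ε⁻¹ * x⁻¹ * s⁻¹ := by group
      _ = x * s * x⁻¹ * s⁻¹ := by rw [← h1]; group
  rw [h3]
  rcases hx with rfl | rfl | rfl | rfl
  · left; rw [cm_def]; group
  · left
    rw [cm_def, ← h2]
    group
  · exact D.cm_a hs
  · have h4 : cm (e * a) s = e * cm a s * e⁻¹ := by
      rw [cm_def, cm_def, mul_inv_rev]
      have h5 : e⁻¹ * s⁻¹ = s⁻¹ * e⁻¹ := by
        rw [← mul_inv_rev, ← mul_inv_rev, h2]
      calc e * a * s * (a⁻¹ * e⁻¹) * s⁻¹ = e * a * s * a⁻¹ * (e⁻¹ * s⁻¹) := by group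
        _ = e * (a * s * a⁻¹ * s⁻¹) * e⁻¹ := by rw [h5]; group
    rw [h4]
    rcases D.cm_a hs with h | h
    · left; rw [h]; group
    · right; rw [h]; group

theorem VU {v f : G} (hv : v ∈ zl (S : Subgroup G) P) (hf : f ∈ zl (S : Subgroup G) H) :
    cm v f = 1 ∨ cm v f = e := D.cm_V hv (D.US hf)

/-- `C_S(a) = C_S(V)` -/
theorem aS {s : G} (hs : s ∈ (S : Subgroup G)) (h : a * s = s * a) :
    s ∈ centralizer (zl (S : Subgroup G) P : Set G) := by
  rw [mem_centralizer_iff]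
  intro v hv
  obtain ⟨x, hx, ε, hε, rfl⟩ := D.cov v hv
  have h1 : s * ε = ε * s := zcomm (mem_inf.mp hε).1 hs
  have h2 : s * e = e * s := zcomm D.eZ hs
  have h4 : x * s = s * x := by
    rcases hx with rfl | rfl | rfl | rfl
    · rw [mul_one, one_mul]
    · exact h2.symm
    · exact h
    · calc e * a * s = e * (a * s) := by group
        _ = (e * s) * a := by rw [h]; group
        _ = s * (e * a) := by rw [← h2]; group
  calc x * ε * s = x * (ε * s) := by group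
    _ = (x * s) * ε := by rw [← h1]; group
    _ = s * (x * ε) := by rw [h4]; group

theorem aU {f : G} (hf : f ∈ zl (S : Subgroup G) H) (h : a * f = f * a) :
    f ∈ centralizer (zl (S : Subgroup G) P : Set G) := D.aS (D.US hf) h

/-- `Z = ⟨e⟩ E` -/
theorem Z_or {z : G} (hz : z ∈ zc (S : Subgroup G)) :
    z ∈ centralizer (P : Set G) ∨ e * z ∈ centralizer (P : Set G) := by
  obtain ⟨x, hx, ε, hε, rfl⟩ := D.cov z (D.ZV hz)
  have hx' : x ∈ zc (S : Subgroup G) := by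
    have h1 := mul_mem hz (inv_mem (mem_inf.mp hε).1)
    rwa [mul_inv_cancel_right] at h1
  rcases hx with rfl | rfl | rfl | rfl
  · left; rw [one_mul]; exact (mem_inf.mp hε).2
  · right
    rw [← mul_assoc, D.e_sq, one_mul]
    exact (mem_inf.mp hε).2
  · exact absurd hx' D.a_nZ
  · exfalso
    apply D.a_nZ
    have h1 := mul_mem D.eZ hx'
    rwa [← mul_assoc, D.e_sq, one_mul] at h1

/-! ### (0)(a) -/

theorem NN_le_H : NN (S : Subgroup G) P H ≤ H := NN_le fun x hx => by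
  have h1 := conj_le_iff (g := x).2 D.VH
  rwa [conj_eq_of_mem (Subgroup.le_normalizer hx)] at h1

theorem C_norm_NN : CZ (S : Subgroup G) ≤ normalizer (NN (S : Subgroup G) P H : Set G) :=
  D.CH.trans (le_normalizer_NN _ _ _)

/-- **(0)(a)** `H = N C` -/
theorem le_sup : H ≤ NN (S : Subgroup G) P H ⊔ CZ (S : Subgroup G) := by
  by_contra hcon
  set H₁ := NN (S : Subgroup G) P H ⊔ CZ (S : Subgroup G) with hH1
  have hle : H₁ ≤ H := sup_le D.NN_le_H D.CH
  have hne : H₁ ≠ H := fun h => hcon (by rw [h])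
  have hl : IsLong (S : Subgroup G) H₁ :=
    ⟨D.long.loc.of_le S ((le_CZ S).trans le_sup_right) hle, le_sup_right⟩
  have h1 := D.min H₁ hl hle hne
  have h2 : zl (S : Subgroup G) P ≤ o2 H₁ := le_o2_of_comm (D.data.low P D.par) hl h1
  -- `V ≤ O₂(N) ≤ O₂(H)`
  have h3 : zl (S : Subgroup G) P ≤ o2 (NN (S : Subgroup G) P H) := by
    have h4 : o2 H₁ ⊓ NN (S : Subgroup G) P H ≤ o2 (NN (S : Subgroup G) P H) := by
      refine le_o2 inf_le_right ((o2_isPGroup _).to_le inf_le_left) ?_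
      intro g hg
      have h5 := le_normalizer_o2 H₁ ((le_sup_left : NN (S : Subgroup G) P H ≤ H₁) hg)
      rw [mem_normalizer_iff] at h5 ⊢
      intro x
      rw [mem_inf, mem_inf, h5 x, mem_normalizer_iff.mp (Subgroup.le_normalizer hg) x]
    exact (le_inf h2 (le_NN _ _ _)).trans h4
  have h6 : o2 (NN (S : Subgroup G) P H) ≤ o2 H := by
    refine le_o2 ((Cfsg.Agent.MinSimple.VModule.o2_le _).trans D.NN_le_H) (o2_isPGroup _) ?_
    refine (le_normalizer_NN (S : Subgroup G) P H).trans ?_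
    exact Cfsg.Agent.Omega.normalizer_le_normalizer_o2' _
  have h7 : o2 H ≤ centralizer (zl (S : Subgroup G) H : Set G) :=
    Cfsg.Agent.MinSimple.VModule.o2_le_centralizer_zl D.long.loc.le S.isPGroup'
      (MinSimple.Basic.not_dvd_relIndex S D.long.loc.le) (D.long.loc.char2 S D.hc)
  exact D.ne ((h3.trans h6).trans h7)

theorem exists_nc {h : G} (hh : h ∈ H) : ∃ n ∈ NN (S : Subgroup G) P H, ∃ c ∈ CZ (S : Subgroup G), h = n * c := by
  have h1 : h ∈ ((NN (S : Subgroup G) P H ⊔ CZ (S : Subgroup G) : Subgroup G) : Set G) := D.le_sup hh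
  rw [coe_mul_of_right_le_normalizer_left _ _ D.C_norm_NN] at h1
  obtain ⟨n, hn, c, hc, rfl⟩ := Set.mem_mul.mp h1
  exact ⟨n, hn, c, hc, rfl⟩

omit D in
theorem C_cent {z c : G} (hz : z ∈ zc (S : Subgroup G)) (hc : c ∈ CZ (S : Subgroup G)) : c * z * c⁻¹ = z := by
  rw [← mem_centralizer_iff.mp hc z hz, mul_inv_cancel_right]

theorem mem_PPt_iff {p : G} : p ∈ PPt H e ↔ ∃ n ∈ NN (S : Subgroup G) P H, p = n * e * n⁻¹ := by
  constructor
  · rintro ⟨h, hh, rfl⟩
    obtain ⟨n, hn, c, hc, rfl⟩ := D.exists_nc hh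
    refine ⟨n, hn, ?_⟩
    have h1 : c * e * c⁻¹ = e := C_cent D.eZ hc
    calc n * c * e * (n * c)⁻¹ = n * (c * e * c⁻¹) * n⁻¹ := by group
      _ = n * e * n⁻¹ := by rw [h1]
  · rintro ⟨n, hn, rfl⟩
    exact ⟨n, D.NN_le_H hn, rfl⟩

/-- **(0)(b)** : no `1 ≠ z ∈ E` is centralised by `N`. -/
theorem not_cent {z : G} (hz : z ∈ zc (S : Subgroup G)) (hzP : z ∈ centralizer (P : Set G))
    (hzN : z ∈ centralizer (NN (S : Subgroup G) P H : Set G)) : z = 1 := by
  by_contra hz1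
  have hL : IsLong (S : Subgroup G) (centralizer ({z} : Set G)) := isLong S hz hz1
  have hHz : H ≤ centralizer ({z} : Set G) := by
    intro h hh
    obtain ⟨n, hn, c, hc, rfl⟩ := D.exists_nc hh
    refine mul_mem ?_ (hL.cz hc)
    rw [mem_centralizer_iff]
    rintro _ rfl
    exact (mem_centralizer_iff.mp hzN n hn).symm
  have hPz : P ≤ centralizer ({z} : Set G) := by
    intro p hp
    rw [mem_centralizer_iff]
    rintro _ rfl
    exact (mem_centralizer_iff.mp hzP p hp).symm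
  have h1 : zl (S : Subgroup G) P ≤ zl (S : Subgroup G) (centralizer ({z} : Set G)) :=
    zl_le (zc_le_zl _ _) (hPz.trans (le_normalizer_zl _ _))
  have h2 : zl (S : Subgroup G) H ≤ zl (S : Subgroup G) (centralizer ({z} : Set G)) :=
    zl_le (zc_le_zl _ _) (hHz.trans (le_normalizer_zl _ _))
  exact D.ne (comm_mono (zl_abel D.hc S hL.loc).1 h1 h2)

/-! ### (0)(c) -/

theorem Ush_le : Ush H e ≤ zl (S : Subgroup G) H := by
  rw [Ush, closure_le]
  rintro _ ⟨h, hh, rfl⟩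
  exact conj_mem_of_mem (le_normalizer_zl _ _ hh) (D.ZU D.eZ)

theorem Ush_comm {x y : G} (hx : x ∈ Ush H e) (hy : y ∈ Ush H e) : x * y = y * x :=
  D.commU (D.Ush_le hx) (D.Ush_le hy)

theorem Ush_sq {x : G} (hx : x ∈ Ush H e) : x * x = 1 := D.sqU (D.Ush_le hx)

/-- `N` centralises `U/U#` -/
theorem cm_N {n f : G} (hn : n ∈ NN (S : Subgroup G) P H) (hf : f ∈ zl (S : Subgroup G) H) :
    cm n f ∈ Ush H e := by
  let K : Subgroup G :=
    { carrier := {h | h ∈ H ∧ ∀ f ∈ zl (S : Subgroup G) H, cm h f ∈ Ush H e}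
      mul_mem' := by
        rintro x y ⟨hx, h1⟩ ⟨hy, h2⟩
        refine ⟨mul_mem hx hy, fun f hf => ?_⟩
        have e1 : cm (x * y) f = (x * cm y f * x⁻¹) * cm x f := by
          simp only [cm_def]; group
        rw [e1]
        exact mul_mem (conj_mem_of_mem (le_normalizer_Ush H e hx) (h2 f hf)) (h1 f hf)
      one_mem' := ⟨one_mem _, fun f _ => by
        have e1 : cm (1 : G) f = 1 := by rw [cm_def]; group
        rw [e1]; exact one_mem _⟩
      inv_mem' := by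
        rintro x ⟨hx, h1⟩
        refine ⟨inv_mem hx, fun f hf => ?_⟩
        have e1 : cm x⁻¹ f = x⁻¹ * (cm x f)⁻¹ * x⁻¹⁻¹ := by simp only [cm_def]; group
        rw [e1]
        exact conj_mem_of_mem (le_normalizer_Ush H e (inv_mem hx)) (inv_mem (h1 f hf)) }
  have hK : NN (S : Subgroup G) P H ≤ K := by
    refine NN_le fun h hh v' hv' => ?_
    rw [mem_conj] at hv'
    refine ⟨?_, fun f hf => ?_⟩
    · have h1 := H.mul_mem (H.mul_mem hh (D.VH hv')) (H.inv_mem hh)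
      have e1 : h * (h⁻¹ * v' * h) * h⁻¹ = v' := by group
      rwa [e1] at h1
    · have hf' : h⁻¹ * f * h ∈ zl (S : Subgroup G) H := by
        have h1 := conj_mem_of_mem (le_normalizer_zl (S : Subgroup G) H (inv_mem hh)) hf
        rwa [inv_inv] at h1
      have e1 : cm v' f = h * cm (h⁻¹ * v' * h) (h⁻¹ * f * h) * h⁻¹ := by simp only [cm_def]; group
      rw [e1]
      rcases D.VU hv' hf' with h2 | h2
      · rw [h2, mul_one, mul_inv_cancel]; exact one_mem _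
      · rw [h2]
        exact PPt_sub ⟨h, hh, rfl⟩
  exact (hK hn).2 f hf

/-- **(0)(c)** `U = U# Z` -/
theorem U_le : zl (S : Subgroup G) H ≤ Ush H e ⊔ zc (S : Subgroup G) := by
  refine zl_le le_sup_right (D.le_sup.trans (sup_le ?_ ?_))
  · have hgen : ∀ x ∈ Ush H e ⊔ zc (S : Subgroup G), x ∈ zl (S : Subgroup G) H :=
      fun x hx => (sup_le D.Ush_le D.ZU) hx
    refine le_normalizer_of fun n hn x hx => ?_
    have e1 : n * x * n⁻¹ = cm n x * x := (cm_mul n x).symm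
    rw [e1]
    exact mul_mem ((le_sup_left : Ush H e ≤ _) (D.cm_N hn (hgen x hx))) hx
  · refine le_normalizer_sup (D.CH.trans (le_normalizer_Ush H e)) (centralizer_le_normalizer _)

theorem exists_mulZ {f : G} (hf : f ∈ zl (S : Subgroup G) H) :
    ∃ x ∈ Ush H e, ∃ z ∈ zc (S : Subgroup G), f = x * z := by
  obtain ⟨x, hx, z, hz, h1⟩ := mem_sup_of_comm (A := Ush H e) (B := zc (S : Subgroup G)) (fun x hx => by
    rw [mem_centralizer_iff]
    intro z hz
    exact D.commU (D.ZU hz) (D.Ush_le hx)) (D.U_le hf)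
  exact ⟨x, hx, z, hz, h1.symm⟩

theorem exists_mulE {f : G} (hf : f ∈ zl (S : Subgroup G) H) :
    ∃ x ∈ Ush H e, ∃ ε ∈ zc (S : Subgroup G) ⊓ centralizer (P : Set G), f = x * ε := by
  obtain ⟨x, hx, z, hz, rfl⟩ := D.exists_mulZ hf
  rcases D.Z_or hz with h | h
  · exact ⟨x, hx, z, mem_inf.mpr ⟨hz, h⟩, rfl⟩
  · refine ⟨x * e, mul_mem hx (mem_Ush H e), e * z, mem_inf.mpr ⟨mul_mem D.eZ hz, h⟩, ?_⟩
    calc x * z = x * (e * e) * z := by rw [D.e_sq, mul_one]
      _ = x * e * (e * z) := by group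

/-- `[U#, V] ≠ 1` -/
theorem exists_u : ∃ u ∈ Ush H e, u ∉ centralizer (zl (S : Subgroup G) P : Set G) := by
  by_contra hcon
  push Not at hcon
  obtain ⟨f, hf, h1⟩ := D.a_not
  obtain ⟨x, hx, z, hz, rfl⟩ := D.exists_mulZ hf
  apply h1
  have h2 : a * x = x * a := mem_centralizer_iff.mp (hcon x hx) a D.aV
  have h3 : a * z = z * a := zcomm hz (D.VS D.aV)
  calc a * (x * z) = (a * x) * z := by group
    _ = x * (a * z) := by rw [h2]; group
    _ = x * z * a := by rw [h3]; group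

/-- `H` centralises `U/U#` -/
theorem cm_mem {h f : G} (hh : h ∈ H) (hf : f ∈ zl (S : Subgroup G) H) : cm h f ∈ Ush H e := by
  obtain ⟨n, hn, c, hc, rfl⟩ := D.exists_nc hh
  obtain ⟨x, hx, z, hz, rfl⟩ := D.exists_mulZ hf
  have hcz : c * z * c⁻¹ = z := C_cent hz hc
  have hx' : c * x * c⁻¹ ∈ Ush H e := conj_mem_of_mem (le_normalizer_Ush H e (D.CH hc)) hx
  have e1 : cm (n * c) (x * z) = (n * (c * x * c⁻¹) * n⁻¹) * (cm n z) * x⁻¹ := by
    have h1 : cm (n * c) (x * z) = (n * (c * x * c⁻¹) * n⁻¹) * (n * (c * z * c⁻¹) * n⁻¹) * z⁻¹ * x⁻¹ := by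
      simp only [cm_def]; group
    rw [h1, hcz]
    simp only [cm_def]; group
  rw [e1]
  exact mul_mem (mul_mem (conj_mem_of_mem (le_normalizer_Ush H e (D.NN_le_H hn)) hx') (D.cm_N hn (D.ZU hz)))
    (inv_mem hx)

omit D in
theorem norm_inf_cent {A : Subgroup G} (hA : H ≤ normalizer (A : Set G)) :
    H ≤ normalizer ((H ⊓ centralizer (A : Set G) : Subgroup G) : Set G) := by
  refine le_normalizer_of fun h hh x hx => mem_inf.mpr ⟨mul_mem (mul_mem hh (mem_inf.mp hx).1) (inv_mem hh), ?_⟩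
  rw [mem_centralizer_iff]
  intro y hy
  have hy' : h⁻¹ * y * h ∈ A := by
    have h1 := conj_mem_of_mem (hA (inv_mem hh)) hy
    rwa [inv_inv] at h1
  have h1 := mem_centralizer_iff.mp (mem_inf.mp hx).2 _ hy'
  calc y * (h * x * h⁻¹) = h * ((h⁻¹ * y * h) * x) * h⁻¹ := by group
    _ = h * (x * (h⁻¹ * y * h)) * h⁻¹ := by rw [h1]
    _ = h * x * h⁻¹ * y := by group

/-- **(0)(c)** `C_H(U#) ≤ C(U)` -/
theorem cent_U : H ⊓ centralizer (Ush H e : Set G) ≤ centralizer (zl (S : Subgroup G) H : Set G) := by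
  set M₀ := H ⊓ centralizer (Ush H e : Set G) with hM0
  have hM₀n : H ≤ normalizer (M₀ : Set G) := norm_inf_cent (le_normalizer_Ush H e)
  have h1 := le_sup_inf S (H := H) (M₀ := M₀) (K₀ := H ⊓ centralizer (zl (S : Subgroup G) H : Set G)) D.SH
    inf_le_left hM₀n inf_le_left (norm_inf_cent (le_normalizer_zl _ _)) (by
      intro x hx
      refine mem_inf.mpr ⟨pow_mem (mem_inf.mp hx).1 2, ?_⟩
      rw [mem_centralizer_iff]
      intro f hf
      have h2 := D.cm_mem (mem_inf.mp hx).1 hf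
      have h3 : x * cm x f = cm x f * x := (mem_centralizer_iff.mp (mem_inf.mp hx).2 _ h2).symm
      have h4 := D.Ush_sq h2
      have h5 : x * f = cm x f * f * x := by rw [cm_def]; group
      calc f * x ^ 2 = (cm x f * cm x f) * f * x * x := by rw [h4, pow_two]; group
        _ = cm x f * (cm x f * f * x) * x := by group
        _ = cm x f * (x * f) * x := by rw [← h5]
        _ = (cm x f * x) * f * x := by group
        _ = x * (cm x f * f * x) := by rw [← h3]; group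
        _ = x * (x * f) := by rw [← h5]
        _ = x ^ 2 * f := by rw [pow_two]; group)
  -- `M₀` centralises `Z`
  have h2 : M₀ ≤ centralizer (zc (S : Subgroup G) : Set G) := by
    refine h1.trans (sup_le (inf_le_right.trans (centralizer_le D.ZU)) (inf_le_left.trans (le_CZ S)))
  have h3 : zl (S : Subgroup G) H ≤ centralizer (M₀ : Set G) := by
    refine zl_le (comm_symm h2) ?_
    refine le_normalizer_of fun h hh x hx => ?_
    rw [mem_centralizer_iff] at hx ⊢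
    intro m hm
    have hm' : h⁻¹ * m * h ∈ M₀ := by
      have h4 := conj_mem_of_mem (hM₀n (inv_mem hh)) hm
      rwa [inv_inv] at h4
    have h4 := hx _ hm'
    calc m * (h * x * h⁻¹) = h * ((h⁻¹ * m * h) * x) * h⁻¹ := by group
      _ = h * (x * (h⁻¹ * m * h)) * h⁻¹ := by rw [h4]
      _ = h * x * h⁻¹ * m := by group
  exact comm_symm h3

/-- **(0)(d)** -/
theorem triv {I : Subgroup G} (hI : I ≤ Ush H e) (hHI : H ≤ normalizer (I : Set G)) {h : G} (hh : h ∈ H)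
    (h1 : ∀ x ∈ Ush H e, cm h x ∈ I) (h2 : ∀ x ∈ I, cm h x = 1) : ∀ x ∈ Ush H e, cm h x = 1 := by
  let M₀ : Subgroup G :=
    { carrier := {h | h ∈ H ∧ (∀ x ∈ Ush H e, cm h x ∈ I) ∧ ∀ x ∈ I, cm h x = 1}
      mul_mem' := by
        rintro x y ⟨hx, h1, h2⟩ ⟨hy, h3, h4⟩
        refine ⟨mul_mem hx hy, fun f hf => ?_, fun f hf => ?_⟩
        · have e1 : cm (x * y) f = (x * cm y f * x⁻¹) * cm x f := by simp only [cm_def]; group
          rw [e1]
          exact mul_mem (conj_mem_of_mem (hHI hx) (h3 f hf)) (h1 f hf)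
        · have e1 : cm (x * y) f = (x * cm y f * x⁻¹) * cm x f := by simp only [cm_def]; group
          rw [e1, h4 f hf, h2 f hf]; group
      one_mem' := ⟨one_mem _, fun f _ => by
        have e1 : cm (1 : G) f = 1 := by rw [cm_def]; group
        rw [e1]; exact one_mem _, fun f _ => by rw [cm_def]; group⟩
      inv_mem' := by
        rintro x ⟨hx, h1, h2⟩
        refine ⟨inv_mem hx, fun f hf => ?_, fun f hf => ?_⟩
        · have e1 : cm x⁻¹ f = x⁻¹ * (cm x f)⁻¹ * x⁻¹⁻¹ := by simp only [cm_def]; group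
          rw [e1]
          exact conj_mem_of_mem (hHI (inv_mem hx)) (inv_mem (h1 f hf))
        · have e1 : cm x⁻¹ f = x⁻¹ * (cm x f)⁻¹ * x⁻¹⁻¹ := by simp only [cm_def]; group
          rw [e1, h2 f hf]; group }
  have hconj : ∀ {k x y : G}, cm (k * x * k⁻¹) y = k * cm x (k⁻¹ * y * k) * k⁻¹ := by
    intro k x y; simp only [cm_def]; group
  have hM₀n : H ≤ normalizer (M₀ : Set G) := by
    refine le_normalizer_of fun k hk x hx => ?_
    obtain ⟨hx, h3, h4⟩ := hx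
    refine ⟨mul_mem (mul_mem hk hx) (inv_mem hk), fun f hf => ?_, fun f hf => ?_⟩
    · rw [hconj]
      refine conj_mem_of_mem (hHI hk) (h3 _ ?_)
      have h5 := conj_mem_of_mem (le_normalizer_Ush H e (inv_mem hk)) hf
      rwa [inv_inv] at h5
    · rw [hconj, h4 _ (by
        have h5 := conj_mem_of_mem (hHI (inv_mem hk)) hf
        rwa [inv_inv] at h5)]
      group
  have hle := le_sup_inf S (H := H) (M₀ := M₀) (K₀ := H ⊓ centralizer (Ush H e : Set G)) D.SH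
    (fun x hx => hx.1) hM₀n inf_le_left (norm_inf_cent (le_normalizer_Ush H e)) (by
      rintro x ⟨hx, h3, h4⟩
      refine mem_inf.mpr ⟨pow_mem hx 2, ?_⟩
      rw [mem_centralizer_iff]
      intro f hf
      have h5 := h3 f hf
      have h6 : cm x (cm x f) = 1 := h4 _ h5
      have h7 : x * cm x f = cm x f * x := by
        have h8 : cm x (cm x f) * (cm x f * x) = x * cm x f := by simp only [cm_def]; group
        rw [← h8, h6, one_mul]
      have h9 := D.Ush_sq (hI h5)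
      have h10 : x * f = cm x f * f * x := by rw [cm_def]; group
      calc f * x ^ 2 = (cm x f * cm x f) * f * x * x := by rw [h9, pow_two]; group
        _ = cm x f * (cm x f * f * x) * x := by group
        _ = cm x f * (x * f) * x := by rw [← h10]
        _ = (cm x f * x) * f * x := by group
        _ = x * (cm x f * f * x) := by rw [← h7]; group
        _ = x * (x * f) := by rw [← h10]
        _ = x ^ 2 * f := by rw [pow_two]; group)
  have hMe : ∀ x ∈ M₀, x * e = e * x := by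
    intro x hx
    have h3 : M₀ ≤ centralizer ({e} : Set G) := by
      refine hle.trans (sup_le (inf_le_right.trans (centralizer_le ?_)) (inf_le_left.trans ?_))
      · rintro _ rfl; exact mem_Ush H _
      · exact le_centralizer_of_mem_zc D.eZ
    exact (mem_centralizer_iff.mp (h3 hx) e rfl).symm
  have hMU : M₀ ≤ centralizer (Ush H e : Set G) := by
    rw [Ush, centralizer_closure]
    intro x hx
    rw [mem_centralizer_iff]
    rintro _ ⟨k, hk, rfl⟩
    have hx' : k⁻¹ * x * k ∈ M₀ := by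
      have h5 := conj_mem_of_mem (hM₀n (inv_mem hk)) hx
      rwa [inv_inv] at h5
    have h6 := hMe _ hx'
    calc k * e * k⁻¹ * x = k * (e * (k⁻¹ * x * k)) * k⁻¹ := by group
      _ = k * ((k⁻¹ * x * k) * e) * k⁻¹ := by rw [h6]
      _ = x * (k * e * k⁻¹) := by group
  intro x hx
  have h3 := mem_centralizer_iff.mp (hMU ⟨hh, h1, h2⟩) x hx
  rw [cm_def, ← h3]
  group

/-! ### (0)(e) -/

/-- `K = C_H(e)` -/
theorem isLong_K : IsLong (S : Subgroup G) (H ⊓ centralizer ({e} : Set G)) := by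
  have h1 := isLong S D.eZ D.e1
  refine ⟨h1.loc.of_le S (le_inf D.SH (le_centralizer_of_mem_zc D.eZ)) inf_le_right, le_inf D.CH h1.cz⟩

theorem K_ne : H ⊓ centralizer ({e} : Set G) ≠ H := by
  intro h
  have h1 : H ≤ centralizer ({e} : Set G) := inf_eq_left.mp h
  have h2 : Ush H e ≤ zc (S : Subgroup G) := by
    rw [Ush, closure_le]
    rintro _ ⟨k, hk, rfl⟩
    have h3 : k * e * k⁻¹ = e := by
      rw [← mem_centralizer_iff.mp (h1 hk) e rfl, mul_inv_cancel_right]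
    rw [h3]
    exact D.eZ
  obtain ⟨u, hu, hu1⟩ := D.exists_u
  apply hu1
  rw [mem_centralizer_iff]
  intro v hv
  exact zcomm (h2 hu) (D.VS hv)

/-- **(0)(e)** `V ≤ O₂(K)` -/
theorem V_le_o2 : zl (S : Subgroup G) P ≤ o2 (H ⊓ centralizer ({e} : Set G)) :=
  le_o2_of_comm (D.data.low P D.par) D.isLong_K (D.min _ D.isLong_K inf_le_left D.K_ne)

theorem conjV_le_o2 {k : G} (hk : k ∈ H ⊓ centralizer ({e} : Set G)) :
    MulAut.conj k • zl (S : Subgroup G) P ≤ o2 (H ⊓ centralizer ({e} : Set G)) := by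
  have h1 := (conj_le_iff (g := k)).2 D.V_le_o2
  rwa [conj_eq_of_mem (le_normalizer_o2 _ hk)] at h1

theorem exists_par : ∃ P₁, IsParS (S : Subgroup G) P₁ ∧ P₁ ≤ H := by
  by_contra hcon
  push Not at hcon
  have h1 : H ≤ normalizer (zc (S : Subgroup G) : Set G) := by
    refine D.long.loc.le_of_forall S (inf_le_right.trans (normalizer_le_normalizer_zc _)) fun P₁ hP hPH => ?_
    by_contra h2
    exact hcon P₁ ⟨hP, h2⟩ hPH
  have h2 : zl (S : Subgroup G) H ≤ zc (S : Subgroup G) := zl_le le_rfl h1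
  obtain ⟨f, hf, h3⟩ := D.a_not
  exact h3 (zcomm (h2 hf) (D.VS D.aV))

omit [Finite G] D in
theorem line_le_Wl {P₁ : Subgroup G} (h1 : IsParS (S : Subgroup G) P₁) (h2 : P₁ ≤ H) {k : G}
    (hk : k ∈ H ⊓ centralizer ({e} : Set G)) : MulAut.conj k • zl (S : Subgroup G) P₁ ≤ Wl (S : Subgroup G) H e :=
  NoFF.Lines.line_le (Z := zc (S : Subgroup G)) (C := H ⊓ centralizer ({e} : Set G))
    (F := {P | IsParS (S : Subgroup G) P ∧ P ≤ H}) ⟨h1, h2⟩ hk

omit [Finite G] D in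
theorem Wl_le {A : Subgroup G} (h : ∀ P₁, IsParS (S : Subgroup G) P₁ → P₁ ≤ H →
    ∀ k ∈ H ⊓ centralizer ({e} : Set G), MulAut.conj k • zl (S : Subgroup G) P₁ ≤ A) :
    Wl (S : Subgroup G) H e ≤ A := NoFF.Lines.W_le fun P hP c hc => h P hP.1 hP.2 c hc

theorem Z_le_Wl : zc (S : Subgroup G) ≤ Wl (S : Subgroup G) H e := by
  obtain ⟨P₁, h1, h2⟩ := D.exists_par
  have h3 := line_le_Wl (S := S) (H := H) (e := e) h1 h2 (one_mem _)
  rw [map_one, one_smul] at h3
  exact (zc_le_zl _ _).trans h3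

theorem e_mem_Wl : e ∈ Wl (S : Subgroup G) H e := D.Z_le_Wl D.eZ

omit [Finite G] D in
theorem K_norm_Wl : H ⊓ centralizer ({e} : Set G) ≤ normalizer (Wl (S : Subgroup G) H e : Set G) :=
  NoFF.Lines.C_le_normalizer_W

theorem line_le_U {P₁ : Subgroup G} (h2 : P₁ ≤ H) {k : G} (hk : k ∈ H) :
    MulAut.conj k • zl (S : Subgroup G) P₁ ≤ zl (S : Subgroup G) H := by
  have h3 : zl (S : Subgroup G) P₁ ≤ zl (S : Subgroup G) H :=
    zl_le (zc_le_zl _ _) (h2.trans (le_normalizer_zl _ _))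
  have h4 := (conj_le_iff (g := k)).2 h3
  rwa [conj_eq_of_mem (le_normalizer_zl _ _ hk)] at h4

theorem Wl_le_U : Wl (S : Subgroup G) H e ≤ zl (S : Subgroup G) H :=
  Wl_le fun _ _ h2 _ hk => D.line_le_U h2 (mem_inf.mp hk).1

/-- `U` normalises `V^k`, `k ∈ K` -/
theorem U_norm {k : G} (hk : k ∈ H ⊓ centralizer ({e} : Set G)) :
    zl (S : Subgroup G) H ≤ normalizer ((MulAut.conj k • zl (S : Subgroup G) P : Subgroup G) : Set G) := by
  have h1 : zl (S : Subgroup G) H ≤ normalizer (zl (S : Subgroup G) P : Set G) :=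
    D.US.trans (D.SP.trans (le_normalizer_zl _ _))
  have h2 := conj_le_normalizer (g := k) h1
  rwa [conj_eq_of_mem (le_normalizer_zl _ _ (mem_inf.mp hk).1)] at h2

/-- **no mutual pair**, in the form used here -/
theorem noff' {P₁ P₂ : Subgroup G} (h₁ : IsParS (S : Subgroup G) P₁) (h₂ : IsParS (S : Subgroup G) P₂) {g h : G}
    (m₁ : MulAut.conj g • zl (S : Subgroup G) P₁ ≤
      normalizer ((MulAut.conj h • zl (S : Subgroup G) P₂ : Subgroup G) : Set G))
    (m₂ : MulAut.conj h • zl (S : Subgroup G) P₂ ≤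
      normalizer ((MulAut.conj g • zl (S : Subgroup G) P₁ : Subgroup G) : Set G)) :
    MulAut.conj g • zl (S : Subgroup G) P₁ ≤
      centralizer ((MulAut.conj h • zl (S : Subgroup G) P₂ : Subgroup G) : Set G) := by
  by_contra hcon
  refine D.data.noff ⟨P₁, P₂, g⁻¹ * h, h₁, h₂, ?_, ?_, ?_⟩
  · have h1 := conj_le_normalizer (g := g⁻¹) m₁
    rwa [conj_conj, conj_conj, inv_mul_cancel, map_one, one_smul] at h1
  · have h1 := conj_le_normalizer (g := g⁻¹) m₂
    rwa [conj_conj, conj_conj, inv_mul_cancel, map_one, one_smul] at h1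
  · intro h0
    rw [commutator_eq_bot_iff_le_centralizer] at h0
    have h1 := conj_le_centralizer (g := g) h0
    rw [conj_conj, mul_inv_cancel_left] at h1
    exact hcon h1

/-- **(0)(e)** `[V^k, W] = 1` for `k ∈ K` -/
theorem Wl_cent {k : G} (hk : k ∈ H ⊓ centralizer ({e} : Set G)) :
    Wl (S : Subgroup G) H e ≤ centralizer ((MulAut.conj k • zl (S : Subgroup G) P : Subgroup G) : Set G) := by
  refine Wl_le fun P₁ h1 h2 k₁ hk₁ => ?_
  refine D.noff' h1 D.par ?_ ?_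
  · exact (D.line_le_U h2 (mem_inf.mp hk₁).1).trans (D.U_norm hk)
  · -- `V^k ≤ O₂(K) ≤ S^k₁`
    have h3 : o2 (H ⊓ centralizer ({e} : Set G)) ≤ normalizer (zl (S : Subgroup G) P₁ : Set G) :=
      (D.isLong_K.loc.o2_le S).trans (h1.le.trans (le_normalizer_zl _ _))
    have h4 := conj_le_normalizer (g := k₁) h3
    rw [conj_eq_of_mem (le_normalizer_o2 _ hk₁)] at h4
    exact (D.conjV_le_o2 hk).trans h4

theorem Wl_cent_V : Wl (S : Subgroup G) H e ≤ centralizer (zl (S : Subgroup G) P : Set G) := by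
  have h := D.Wl_cent (one_mem _)
  rwa [map_one, one_smul] at h

/-- **(2), (6)**: `W` contains a point `≠ e`. -/
theorem exists_ne : ∃ p ∈ PPt H e, p ∈ Wl (S : Subgroup G) H e ∧ p ≠ e := by
  by_contra hcon
  push Not at hcon
  apply D.K_ne
  rw [inf_eq_left]
  have h0 : ∀ h ∈ H, h * e * h⁻¹ = e → h ∈ centralizer ({e} : Set G) := by
    intro h _ h1
    rw [mem_centralizer_iff]
    intro y hy
    rw [Set.mem_singleton_iff.mp hy]
    calc e * h = h * e * h⁻¹ * h := by rw [h1]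
      _ = h * e := by group
  refine D.long.loc.le_of_forall S ?_ fun P₁ hP hPH => ?_
  · intro n hn
    refine h0 n (mem_inf.mp hn).1 (hcon _ ⟨n, (mem_inf.mp hn).1, rfl⟩ (D.Z_le_Wl ?_))
    exact conj_mem_of_mem (normalizer_le_normalizer_zc _ (mem_inf.mp hn).2) D.eZ
  · by_cases hs : IsParS (S : Subgroup G) P₁
    · intro p hp
      refine h0 p (hPH hp) (hcon _ ⟨p, hPH hp, rfl⟩ ?_)
      have h3 := line_le_Wl (S := S) (H := H) (e := e) hs hPH (one_mem _)
      rw [map_one, one_smul] at h3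
      exact h3 (conj_mem_of_mem (le_normalizer_zl _ _ hp) (zc_le_zl _ _ D.eZ))
    · exact (par_le_CZ S hP hs).trans (centralizer_le (Set.singleton_subset_iff.2 D.eZ))

end HypA

end Cfsg.Agent.Omega.NOThreeL.RTools

end

section


/-!
# NO-3L, box R, case (A), `q = 2`, all `k` (#18037, helper850): the frame facts (0)

`V = V_P = zl S P`, `U = U_H = zl S H`, `U₁ = Uk H z = ⟨z_i^H⟩`, `N = NN S P H = ⟨V^H⟩`, `E = C_Z(P)`.

* `VU` : `[V, U] ≤ ⟨z_1, …, z_k⟩`; `zU`; `exists_f` : every `a_i` is induced by `U₁`;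
* `le_sup` (0)(a) : `H = N C`; `exists_nc`; `mem_eH_iff` : `e^H = e^N`;
* `not_cent` (0)(b) : no `1 ≠ z ∈ E` is centralised by `N`;
* `exists_mulE` (0)(c) : `U = U₁ E`; `cm_mem` : `H` centralises `U/U₁`; `cent_U` : `C_H(U₁) = C_H(U)`;
* `triv` (0)(d); `V_le_o2` (0)(e) : `V ≤ O₂(C_H(x))` for `x ∈ Z - C(H)`; `Wl S H x` : the product of the lines in `H`
  on `x`; `Wl_cent` : `V^k`, `k ∈ C_H(x)`, centralises it; `exists_ne` : `x^H ∩ W ≠ {x}`.
-/

set_option autoImplicit false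
set_option linter.unusedSectionVars false

namespace Cfsg.Agent.Omega.NOThreeL.RTools.Many

open Subgroup Cfsg Cfsg.Agent.Omega.MinPar Cfsg.Agent.Omega.NOThreeL.RTools
open Cfsg.Agent.ZN (zc zl o2)
open Cfsg.Agent.Omega.Frame Cfsg.Agent.Omega.FrameNOFF
open Cfsg.Agent.Omega.Node.NO3L Cfsg.Agent.Omega.NOThreeL.Basic
open Cfsg.Agent.Omega.NoFF.Basic (conj_conj mem_conj conj_le_iff conj_le_centralizer comm_symm comm_mono)
open Cfsg.Agent.Omega.NOThreeL.Pair (conj_eq_of_mem conj_le_normalizer zl_abel)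
open Cfsg.Agent.MinSimple.VModule (zl_le zc_le_zl le_normalizer_zl zc_le o2_isPGroup le_normalizer_o2 le_o2
  normalizer_le_normalizer_zc)
open Cfsg.Agent.Omega.NOThreeL (mem_normalizer_of_conj_eq le_normalizer_of mem_sup_of_comm)
open scoped Pointwise

universe u

variable {G : Type u} [Group G]

theorem PPk_conj {k : ℕ} {z : Fin k → G} {H : Subgroup G} {h p : G} (hh : h ∈ H) (hp : p ∈ PPk H z) :
    h * p * h⁻¹ ∈ PPk H z := by
  obtain ⟨i, m, hm, rfl⟩ := hp
  exact ⟨i, h * m, mul_mem hh hm, by group⟩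

theorem le_normalizer_Uk {k : ℕ} (H : Subgroup G) (z : Fin k → G) : H ≤ normalizer (Uk H z : Set G) := by
  refine le_normalizer_of fun h hh x hx => ?_
  refine closure_induction (p := fun x _ => h * x * h⁻¹ ∈ Uk H z) ?_ ?_ ?_ ?_ hx
  · exact fun x hx => subset_closure (PPk_conj hh hx)
  · rw [mul_one, mul_inv_cancel]; exact one_mem _
  · intro x y _ _ h1 h2
    have e1 : h * (x * y) * h⁻¹ = (h * x * h⁻¹) * (h * y * h⁻¹) := by group
    rw [e1]
    exact mul_mem h1 h2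
  · intro x _ h1
    have e1 : h * x⁻¹ * h⁻¹ = (h * x * h⁻¹)⁻¹ := by group
    rw [e1]
    exact inv_mem h1

theorem PPk_sub {k : ℕ} {z : Fin k → G} {H : Subgroup G} {p : G} (hp : p ∈ PPk H z) : p ∈ Uk H z :=
  subset_closure hp

theorem z_mem_Uk {k : ℕ} (H : Subgroup G) (z : Fin k → G) (i : Fin k) : z i ∈ Uk H z :=
  PPk_sub ⟨i, 1, one_mem _, by group⟩

theorem range_le_Uk {k : ℕ} (H : Subgroup G) (z : Fin k → G) : closure (Set.range z) ≤ Uk H z := by
  rw [closure_le]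
  rintro _ ⟨i, rfl⟩
  exact z_mem_Uk H z i

theorem norm_inf_cent {H A : Subgroup G} (hA : H ≤ normalizer (A : Set G)) :
    H ≤ normalizer ((H ⊓ centralizer (A : Set G) : Subgroup G) : Set G) := by
  refine le_normalizer_of fun h hh x hx => mem_inf.mpr ⟨mul_mem (mul_mem hh (mem_inf.mp hx).1) (inv_mem hh), ?_⟩
  rw [mem_centralizer_iff]
  intro y hy
  have hy' : h⁻¹ * y * h ∈ A := by
    have h1 := conj_mem_of_mem (hA (inv_mem hh)) hy
    rwa [inv_inv] at h1
  have h1 := mem_centralizer_iff.mp (mem_inf.mp hx).2 _ hy'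
  calc y * (h * x * h⁻¹) = h * ((h⁻¹ * y * h) * x) * h⁻¹ := by group
    _ = h * (x * (h⁻¹ * y * h)) * h⁻¹ := by rw [h1]
    _ = h * x * h⁻¹ * y := by group

theorem cm_mul_left (x y f : G) : cm (x * y) f = (x * cm y f * x⁻¹) * cm x f := by simp only [cm_def]; group

theorem zcomm {S : Subgroup G} {z s : G} (hz : z ∈ zc S) (hs : s ∈ S) : s * z = z * s :=
  (Cfsg.Agent.MinSimple.VModule.mem_zc.1 hz).2.1 s hs

theorem C_cent {S : Subgroup G} {z c : G} (hz : z ∈ zc S) (hc : c ∈ CZ S) : c * z * c⁻¹ = z := by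
  rw [← mem_centralizer_iff.mp hc z hz, mul_inv_cancel_right]

theorem line_le_Wl {S H : Subgroup G} {e : G} {P₁ : Subgroup G} (h1 : IsParS S P₁) (h2 : P₁ ≤ H) {k : G}
    (hk : k ∈ H ⊓ centralizer ({e} : Set G)) : MulAut.conj k • zl S P₁ ≤ Wl S H e :=
  NoFF.Lines.line_le (Z := zc S) (C := H ⊓ centralizer ({e} : Set G)) (F := {P | IsParS S P ∧ P ≤ H}) ⟨h1, h2⟩ hk

theorem Wl_le {S H : Subgroup G} {e : G} {A : Subgroup G} (h : ∀ P₁, IsParS S P₁ → P₁ ≤ H →
    ∀ k ∈ H ⊓ centralizer ({e} : Set G), MulAut.conj k • zl S P₁ ≤ A) :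
    Wl S H e ≤ A := NoFF.Lines.W_le fun P hP c hc => h P hP.1 hP.2 c hc

theorem K_norm_Wl {S H : Subgroup G} {e : G} : H ⊓ centralizer ({e} : Set G) ≤ normalizer (Wl S H e : Set G) :=
  NoFF.Lines.C_le_normalizer_W

namespace HypK

variable [Finite G] {S : Sylow 2 G} {P H : Subgroup G} {k : ℕ} {z n : Fin k → G} {e w : G}
variable (D : HypK S P H z n e w)
include D

theorem commV {x y : G} (hx : x ∈ zl (S : Subgroup G) P) (hy : y ∈ zl (S : Subgroup G) P) : x * y = y * x :=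
  mem_centralizer_iff.mp ((zl_abel D.hc S D.par.isLoc).1 hy) x hx

theorem sqV {x : G} (hx : x ∈ zl (S : Subgroup G) P) : x * x = 1 := by
  have h := (zl_abel D.hc S D.par.isLoc).2 x hx
  rwa [pow_two] at h

theorem commU {x y : G} (hx : x ∈ zl (S : Subgroup G) H) (hy : y ∈ zl (S : Subgroup G) H) : x * y = y * x :=
  mem_centralizer_iff.mp ((zl_abel D.hc S D.long.loc).1 hy) x hx

theorem sqU {x : G} (hx : x ∈ zl (S : Subgroup G) H) : x * x = 1 := by
  have h := (zl_abel D.hc S D.long.loc).2 x hx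
  rwa [pow_two] at h

theorem SH : (S : Subgroup G) ≤ H := D.long.loc.le

theorem SP : (S : Subgroup G) ≤ P := D.par.le

theorem VS : zl (S : Subgroup G) P ≤ (S : Subgroup G) := IsParS.zl_le_S D.hc D.par

theorem US : zl (S : Subgroup G) H ≤ (S : Subgroup G) := IsLong.zl_le_S D.hc D.long

theorem CH : CZ (S : Subgroup G) ≤ H := D.long.cz

omit [Finite G] D in
theorem ZU {S H : Subgroup G} : zc S ≤ zl S H := zc_le_zl _ _

theorem VH : zl (S : Subgroup G) P ≤ H := D.VS.trans D.SH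

theorem zn (i : Fin k) : z i * n i = n i * z i := D.commV (D.zV i) (D.nV i)

theorem z_sq (i : Fin k) : z i * z i = 1 := D.sqV (D.zV i)

theorem n_sq (i : Fin k) : n i * n i = 1 := D.sqV (D.nV i)

/-- a commutator of `n_i` with `u ∈ U` -/
theorem cm_n {u : G} (hu : u ∈ zl (S : Subgroup G) H) (i : Fin k) : cm (n i) u = 1 ∨ cm (n i) u = z i := by
  have h0 : cm (n i) u = n i * (u * n i * u⁻¹)⁻¹ := by rw [cm_def]; group
  rcases D.Un u hu i with h | h
  · left
    rw [h0, h, mul_inv_cancel]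
  · right
    rw [h0, h, mul_inv_rev, ← mul_assoc, mul_inv_cancel, one_mul]
    exact inv_eq_of_mul_eq_one_left (D.z_sq i)

theorem range_le_V : closure (Set.range z) ≤ zl (S : Subgroup G) P := by
  rw [closure_le]
  rintro _ ⟨i, rfl⟩
  exact D.zV i

theorem V0_le_V : closure (Set.range z ∪ Set.range n) ≤ zl (S : Subgroup G) P := by
  rw [closure_le]
  rintro _ (⟨i, rfl⟩ | ⟨i, rfl⟩)
  · exact D.zV i
  · exact D.nV i

/-- **`[V, U] ≤ ⟨z_1, …, z_k⟩`** -/
theorem VU {v f : G} (hv : v ∈ zl (S : Subgroup G) P) (hf : f ∈ zl (S : Subgroup G) H) :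
    cm v f ∈ closure (Set.range z) := by
  obtain ⟨x, hx, ε, hε, rfl⟩ := D.cov v hv
  have h1 : f * ε = ε * f := zcomm (mem_inf.mp hε).1 (D.US hf)
  have h3 : cm (x * ε) f = cm x f := by
    rw [cm_def, cm_def, mul_inv_rev]
    calc x * ε * f * (ε⁻¹ * x⁻¹) * f⁻¹ = x * (ε * f) * ε⁻¹ * x⁻¹ * f⁻¹ := by group
      _ = x * f * x⁻¹ * f⁻¹ := by rw [← h1]; group
  rw [h3]
  have hmul : ∀ x y : G, x ∈ closure (Set.range z ∪ Set.range n) → cm x f ∈ closure (Set.range z) →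
      cm y f ∈ closure (Set.range z) → cm (x * y) f ∈ closure (Set.range z) := by
    intro x y hx h4 h5
    rw [cm_mul_left]
    have h6 : x * cm y f * x⁻¹ = cm y f := by
      rw [D.commV (D.V0_le_V hx) (D.range_le_V h5), mul_inv_cancel_right]
    rw [h6]
    exact mul_mem h5 h4
  refine closure_induction (p := fun x _ => cm x f ∈ closure (Set.range z)) ?_ ?_ ?_ ?_ hx
  · rintro _ (⟨i, rfl⟩ | ⟨i, rfl⟩)
    · have h4 : cm (z i) f = 1 := by rw [cm_def, ← D.Uz f hf i]; group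
      rw [h4]; exact one_mem _
    · rcases D.cm_n hf i with h4 | h4
      · rw [h4]; exact one_mem _
      · rw [h4]; exact subset_closure ⟨i, rfl⟩
  · have h4 : cm (1 : G) f = 1 := by rw [cm_def]; group
    rw [h4]; exact one_mem _
  · intro x y hx _ h4 h5
    exact hmul x y hx h4 h5
  · intro x hx h4
    have h5 : cm x⁻¹ f = x⁻¹ * (cm x f)⁻¹ * x⁻¹⁻¹ := by simp only [cm_def]; group
    rw [h5, D.commV (D.V0_le_V (inv_mem hx)) (D.range_le_V (inv_mem h4)), mul_inv_cancel_right]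
    exact inv_mem h4

/-- an element of `U` centralising the `n_i` centralises `V` -/
theorem cent_of {f : G} (hf : f ∈ zl (S : Subgroup G) H) (h : ∀ i, f * n i * f⁻¹ = n i) :
    f ∈ centralizer (zl (S : Subgroup G) P : Set G) := by
  have h0 : closure (Set.range z ∪ Set.range n) ≤ centralizer ({f} : Set G) := by
    rw [closure_le]
    rintro _ (⟨i, rfl⟩ | ⟨i, rfl⟩)
    · refine mem_centralizer_iff.mpr fun y hy => ?_
      rw [Set.mem_singleton_iff.mp hy]
      exact D.Uz f hf i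
    · refine mem_centralizer_iff.mpr fun y hy => ?_
      rw [Set.mem_singleton_iff.mp hy]
      have h1 := h i
      rwa [mul_inv_eq_iff_eq_mul] at h1
  rw [mem_centralizer_iff]
  intro v hv
  obtain ⟨x, hx, ε, hε, rfl⟩ := D.cov v hv
  have h1 : f * ε = ε * f := zcomm (mem_inf.mp hε).1 (D.US hf)
  have h2 : f * x = x * f := mem_centralizer_iff.mp (h0 hx) f rfl
  calc x * ε * f = x * (ε * f) := by group
    _ = (x * f) * ε := by rw [← h1]; group
    _ = f * (x * ε) := by rw [← h2]; group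

/-- `U` moves some `n_i` -/
theorem exists_i : ∃ i, ∃ f ∈ zl (S : Subgroup G) H, f * n i * f⁻¹ = z i * n i := by
  by_contra hcon
  push Not at hcon
  apply D.ne
  intro v hv
  rw [mem_centralizer_iff]
  intro f hf
  have h1 := D.cent_of hf (fun i => (D.Un f hf i).resolve_right (hcon i f hf))
  exact (mem_centralizer_iff.mp h1 v hv).symm

/-- `z_i ∈ U` -/
theorem zU (i : Fin k) : z i ∈ zl (S : Subgroup G) H := by
  obtain ⟨j, f, hf, h1⟩ := D.exists_i
  have h2 : z j ∈ zl (S : Subgroup G) H := by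
    have h3 : z j = f * (n j * f⁻¹ * (n j)⁻¹) := by
      calc z j = (z j * n j) * (n j)⁻¹ := by group
        _ = f * (n j * f⁻¹ * (n j)⁻¹) := by rw [← h1]; group
    rw [h3]
    exact mul_mem hf (conj_mem_of_mem (le_normalizer_zl (S : Subgroup G) H (D.VH (D.nV j))) (inv_mem hf))
  obtain ⟨s, hs, h3⟩ := D.Str j i
  rw [← h3]
  exact conj_mem_of_mem (le_normalizer_zl (S : Subgroup G) H (D.SH hs)) h2

/-- `S` permutes the `N_i` -/
theorem S_n {s : G} (hs : s ∈ (S : Subgroup G)) {i j : Fin k} (h : s * z i * s⁻¹ = z j) :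
    s * n i * s⁻¹ = n j ∨ s * n i * s⁻¹ = z j * n j := by
  obtain ⟨σ, hσ⟩ := D.perm s (D.SP hs)
  have h1 : z j ∈ Nn z n (σ i) := by
    rw [← h]; exact hσ i _ (Or.inl rfl)
  have h2 : σ i = j := D.disj _ _ _ h1 (Or.inl rfl)
  have h3 := hσ i (n i) (Or.inr (Or.inl rfl))
  rw [h2] at h3
  rcases h3 with h3 | h3 | h3
  · exfalso
    apply D.nz i
    rw [← h] at h3
    have h4 := congrArg (fun x => s⁻¹ * x * s) h3
    simpa [mul_assoc] using h4
  · exact Or.inl h3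
  · exact Or.inr h3

/-- every `n_i` is moved by some `f ∈ U` -/
theorem exists_fU (i : Fin k) : ∃ f ∈ zl (S : Subgroup G) H, f * n i * f⁻¹ = z i * n i := by
  obtain ⟨j, f, hf, h1⟩ := D.exists_i
  obtain ⟨s, hs, h3⟩ := D.Str j i
  refine ⟨s * f * s⁻¹, conj_mem_of_mem (le_normalizer_zl (S : Subgroup G) H (D.SH hs)) hf, ?_⟩
  rcases D.S_n hs h3 with h4 | h4
  · rw [← h4, ← h3]
    calc s * f * s⁻¹ * (s * n j * s⁻¹) * (s * f * s⁻¹)⁻¹ = s * (f * n j * f⁻¹) * s⁻¹ := by group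
      _ = s * z j * s⁻¹ * (s * n j * s⁻¹) := by rw [h1]; group
  · -- `s n_j s⁻¹ = z_i n_i`
    have h5 : n i = z i * (s * n j * s⁻¹) := by rw [h4, ← mul_assoc, D.z_sq, one_mul]
    have h6 : (s * f * s⁻¹) * z i * (s * f * s⁻¹)⁻¹ = z i := by
      rw [← h3]
      calc s * f * s⁻¹ * (s * z j * s⁻¹) * (s * f * s⁻¹)⁻¹ = s * (f * z j * f⁻¹) * s⁻¹ := by group
        _ = s * z j * s⁻¹ := by rw [D.Uz f hf j]; group
    calc s * f * s⁻¹ * n i * (s * f * s⁻¹)⁻¹
        = (s * f * s⁻¹) * z i * (s * f * s⁻¹)⁻¹ * (s * (f * n j * f⁻¹) * s⁻¹) := by rw [h5]; group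
      _ = z i * (s * (z j * n j) * s⁻¹) := by rw [h6, h1]
      _ = z i * (s * z j * s⁻¹ * (s * n j * s⁻¹)) := by group
      _ = z i * (z i * (z i * n i)) := by rw [h3, h4]
      _ = z i * n i := by rw [← mul_assoc (z i) (z i), D.z_sq, one_mul]

/-! ### (0)(a) -/

theorem NN_le_H : NN (S : Subgroup G) P H ≤ H := NN_le fun x hx => by
  have h1 := conj_le_iff (g := x).2 D.VH
  rwa [conj_eq_of_mem (Subgroup.le_normalizer hx)] at h1

theorem C_norm_NN : CZ (S : Subgroup G) ≤ normalizer (NN (S : Subgroup G) P H : Set G) :=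
  D.CH.trans (le_normalizer_NN _ _ _)

/-- **(0)(a)** `H = N C` -/
theorem le_sup : H ≤ NN (S : Subgroup G) P H ⊔ CZ (S : Subgroup G) := by
  by_contra hcon
  set H₁ := NN (S : Subgroup G) P H ⊔ CZ (S : Subgroup G) with hH1
  have hle : H₁ ≤ H := sup_le D.NN_le_H D.CH
  have hne : H₁ ≠ H := fun h => hcon (by rw [h])
  have hl : IsLong (S : Subgroup G) H₁ :=
    ⟨D.long.loc.of_le S ((le_CZ S).trans le_sup_right) hle, le_sup_right⟩
  have h1 := D.min H₁ hl hle hne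
  have h2 : zl (S : Subgroup G) P ≤ o2 H₁ := le_o2_of_comm (D.data.low P D.par) hl h1
  -- `V ≤ O₂(N) ≤ O₂(H)`
  have h3 : zl (S : Subgroup G) P ≤ o2 (NN (S : Subgroup G) P H) := by
    have h4 : o2 H₁ ⊓ NN (S : Subgroup G) P H ≤ o2 (NN (S : Subgroup G) P H) := by
      refine le_o2 inf_le_right ((o2_isPGroup _).to_le inf_le_left) ?_
      intro g hg
      have h5 := le_normalizer_o2 H₁ ((le_sup_left : NN (S : Subgroup G) P H ≤ H₁) hg)
      rw [mem_normalizer_iff] at h5 ⊢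
      intro x
      rw [mem_inf, mem_inf, h5 x, mem_normalizer_iff.mp (Subgroup.le_normalizer hg) x]
    exact (le_inf h2 (le_NN _ _ _)).trans h4
  have h6 : o2 (NN (S : Subgroup G) P H) ≤ o2 H := by
    refine le_o2 ((Cfsg.Agent.MinSimple.VModule.o2_le _).trans D.NN_le_H) (o2_isPGroup _) ?_
    refine (le_normalizer_NN (S : Subgroup G) P H).trans ?_
    exact Cfsg.Agent.Omega.normalizer_le_normalizer_o2' _
  have h7 : o2 H ≤ centralizer (zl (S : Subgroup G) H : Set G) :=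
    Cfsg.Agent.MinSimple.VModule.o2_le_centralizer_zl D.long.loc.le S.isPGroup'
      (MinSimple.Basic.not_dvd_relIndex S D.long.loc.le) (D.long.loc.char2 S D.hc)
  exact D.ne ((h3.trans h6).trans h7)

theorem exists_nc {h : G} (hh : h ∈ H) : ∃ m ∈ NN (S : Subgroup G) P H, ∃ c ∈ CZ (S : Subgroup G), h = m * c := by
  have h1 : h ∈ ((NN (S : Subgroup G) P H ⊔ CZ (S : Subgroup G) : Subgroup G) : Set G) := D.le_sup hh
  rw [coe_mul_of_right_le_normalizer_left _ _ D.C_norm_NN] at h1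
  obtain ⟨m, hm, c, hc, rfl⟩ := Set.mem_mul.mp h1
  exact ⟨m, hm, c, hc, rfl⟩

/-- `x^H = x^N` for `x ∈ Z` -/
theorem mem_eH_iff {x : G} (hx : x ∈ zc (S : Subgroup G)) {p : G} :
    (∃ h ∈ H, p = h * x * h⁻¹) ↔ ∃ m ∈ NN (S : Subgroup G) P H, p = m * x * m⁻¹ := by
  constructor
  · rintro ⟨h, hh, rfl⟩
    obtain ⟨m, hm, c, hc, rfl⟩ := D.exists_nc hh
    refine ⟨m, hm, ?_⟩
    have h1 : c * x * c⁻¹ = x := C_cent hx hc
    calc m * c * x * (m * c)⁻¹ = m * (c * x * c⁻¹) * m⁻¹ := by group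
      _ = m * x * m⁻¹ := by rw [h1]
  · rintro ⟨m, hm, rfl⟩
    exact ⟨m, D.NN_le_H hm, rfl⟩

/-- **(0)(b)** : no `1 ≠ x ∈ E` is centralised by `N`. -/
theorem not_cent {x : G} (hx : x ∈ zc (S : Subgroup G)) (hxP : x ∈ centralizer (P : Set G))
    (hxN : x ∈ centralizer (NN (S : Subgroup G) P H : Set G)) : x = 1 := by
  by_contra hz1
  have hL : IsLong (S : Subgroup G) (centralizer ({x} : Set G)) := isLong S hx hz1
  have hHz : H ≤ centralizer ({x} : Set G) := by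
    intro h hh
    obtain ⟨m, hm, c, hc, rfl⟩ := D.exists_nc hh
    refine mul_mem ?_ (hL.cz hc)
    rw [mem_centralizer_iff]
    rintro _ rfl
    exact (mem_centralizer_iff.mp hxN m hm).symm
  have hPz : P ≤ centralizer ({x} : Set G) := by
    intro p hp
    rw [mem_centralizer_iff]
    rintro _ rfl
    exact (mem_centralizer_iff.mp hxP p hp).symm
  have h1 : zl (S : Subgroup G) P ≤ zl (S : Subgroup G) (centralizer ({x} : Set G)) :=
    zl_le (zc_le_zl _ _) (hPz.trans (le_normalizer_zl _ _))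
  have h2 : zl (S : Subgroup G) H ≤ zl (S : Subgroup G) (centralizer ({x} : Set G)) :=
    zl_le (zc_le_zl _ _) (hHz.trans (le_normalizer_zl _ _))
  exact D.ne (comm_mono (zl_abel D.hc S hL.loc).1 h1 h2)

/-! ### (0)(c) -/

theorem Uk_le : Uk H z ≤ zl (S : Subgroup G) H := by
  rw [Uk, closure_le]
  rintro _ ⟨i, h, hh, rfl⟩
  exact conj_mem_of_mem (le_normalizer_zl _ _ hh) (D.zU i)

theorem Uk_comm {x y : G} (hx : x ∈ Uk H z) (hy : y ∈ Uk H z) : x * y = y * x :=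
  D.commU (D.Uk_le hx) (D.Uk_le hy)

theorem Uk_sq {x : G} (hx : x ∈ Uk H z) : x * x = 1 := D.sqU (D.Uk_le hx)

theorem e_range : e ∈ closure (Set.range z) := by
  rw [D.eprod]
  refine Subgroup.list_prod_mem _ fun x hx => ?_
  rw [List.mem_ofFn] at hx
  obtain ⟨i, rfl⟩ := hx
  exact subset_closure ⟨i, rfl⟩

theorem e_mem : e ∈ Uk H z := range_le_Uk H z D.e_range

theorem e_sq : e * e = 1 := D.Uk_sq D.e_mem

/-- `N` centralises `U/U₁` -/
theorem cm_N {m f : G} (hm : m ∈ NN (S : Subgroup G) P H) (hf : f ∈ zl (S : Subgroup G) H) :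
    cm m f ∈ Uk H z := by
  let K : Subgroup G :=
    { carrier := {h | h ∈ H ∧ ∀ f ∈ zl (S : Subgroup G) H, cm h f ∈ Uk H z}
      mul_mem' := by
        rintro x y ⟨hx, h1⟩ ⟨hy, h2⟩
        refine ⟨mul_mem hx hy, fun f hf => ?_⟩
        rw [cm_mul_left]
        exact mul_mem (conj_mem_of_mem (le_normalizer_Uk H z hx) (h2 f hf)) (h1 f hf)
      one_mem' := ⟨one_mem _, fun f _ => by
        have e1 : cm (1 : G) f = 1 := by rw [cm_def]; group
        rw [e1]; exact one_mem _⟩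
      inv_mem' := by
        rintro x ⟨hx, h1⟩
        refine ⟨inv_mem hx, fun f hf => ?_⟩
        have e1 : cm x⁻¹ f = x⁻¹ * (cm x f)⁻¹ * x⁻¹⁻¹ := by simp only [cm_def]; group
        rw [e1]
        exact conj_mem_of_mem (le_normalizer_Uk H z (inv_mem hx)) (inv_mem (h1 f hf)) }
  have hK : NN (S : Subgroup G) P H ≤ K := by
    refine NN_le fun h hh v' hv' => ?_
    rw [mem_conj] at hv'
    refine ⟨?_, fun f hf => ?_⟩
    · have h1 := H.mul_mem (H.mul_mem hh (D.VH hv')) (H.inv_mem hh)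
      have e1 : h * (h⁻¹ * v' * h) * h⁻¹ = v' := by group
      rwa [e1] at h1
    · have hf' : h⁻¹ * f * h ∈ zl (S : Subgroup G) H := by
        have h1 := conj_mem_of_mem (le_normalizer_zl (S : Subgroup G) H (inv_mem hh)) hf
        rwa [inv_inv] at h1
      have e1 : cm v' f = h * cm (h⁻¹ * v' * h) (h⁻¹ * f * h) * h⁻¹ := by simp only [cm_def]; group
      rw [e1]
      exact conj_mem_of_mem (le_normalizer_Uk H z hh) (range_le_Uk H z (D.VU hv' hf'))
  exact (hK hm).2 f hf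

/-- **(0)(c)** `U = U₁ Z` -/
theorem U_le : zl (S : Subgroup G) H ≤ Uk H z ⊔ zc (S : Subgroup G) := by
  refine zl_le le_sup_right (D.le_sup.trans (sup_le ?_ ?_))
  · have hgen : ∀ x ∈ Uk H z ⊔ zc (S : Subgroup G), x ∈ zl (S : Subgroup G) H :=
      fun x hx => (sup_le D.Uk_le ZU) hx
    refine le_normalizer_of fun m hm x hx => ?_
    have e1 : m * x * m⁻¹ = cm m x * x := (cm_mul m x).symm
    rw [e1]
    exact mul_mem ((le_sup_left : Uk H z ≤ _) (D.cm_N hm (hgen x hx))) hx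
  · refine le_normalizer_sup (D.CH.trans (le_normalizer_Uk H z)) (centralizer_le_normalizer _)

theorem exists_mulZ {f : G} (hf : f ∈ zl (S : Subgroup G) H) :
    ∃ x ∈ Uk H z, ∃ y ∈ zc (S : Subgroup G), f = x * y := by
  obtain ⟨x, hx, y, hy, h1⟩ := mem_sup_of_comm (A := Uk H z) (B := zc (S : Subgroup G)) (fun x hx => by
    rw [mem_centralizer_iff]
    intro z' hz'
    exact D.commU (ZU hz') (D.Uk_le hx)) (D.U_le hf)
  exact ⟨x, hx, y, hy, h1.symm⟩

theorem exists_mulE {f : G} (hf : f ∈ zl (S : Subgroup G) H) :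
    ∃ x ∈ Uk H z, ∃ ε ∈ zc (S : Subgroup G) ⊓ centralizer (P : Set G), f = x * ε := by
  obtain ⟨x, hx, y, hy, rfl⟩ := D.exists_mulZ hf
  rcases D.Zor y hy with h | h
  · exact ⟨x, hx, y, mem_inf.mpr ⟨hy, h⟩, rfl⟩
  · refine ⟨x * e, mul_mem hx D.e_mem, e * y, mem_inf.mpr ⟨mul_mem D.eZ hy, h⟩, ?_⟩
    calc x * y = x * (e * e) * y := by rw [D.e_sq, mul_one]
      _ = x * e * (e * y) := by group

/-- every `n_i` is moved by some `f ∈ U₁` -/
theorem exists_f (i : Fin k) : ∃ f ∈ Uk H z, f * n i * f⁻¹ = z i * n i := by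
  obtain ⟨f, hf, h1⟩ := D.exists_fU i
  obtain ⟨x, hx, y, hy, rfl⟩ := D.exists_mulZ hf
  refine ⟨x, hx, ?_⟩
  have h2 : n i * y = y * n i := zcomm hy (D.VS (D.nV i))
  rw [← h1]
  calc x * n i * x⁻¹ = x * (n i * y) * y⁻¹ * x⁻¹ := by group
    _ = x * y * n i * (x * y)⁻¹ := by rw [h2]; group

/-- `H` centralises `U/U₁` -/
theorem cm_mem {h f : G} (hh : h ∈ H) (hf : f ∈ zl (S : Subgroup G) H) : cm h f ∈ Uk H z := by
  obtain ⟨m, hm, c, hc, rfl⟩ := D.exists_nc hh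
  obtain ⟨x, hx, y, hy, rfl⟩ := D.exists_mulZ hf
  have hcz : c * y * c⁻¹ = y := C_cent hy hc
  have hx' : c * x * c⁻¹ ∈ Uk H z := conj_mem_of_mem (le_normalizer_Uk H z (D.CH hc)) hx
  have e1 : cm (m * c) (x * y) = (m * (c * x * c⁻¹) * m⁻¹) * (cm m y) * x⁻¹ := by
    have h1 : cm (m * c) (x * y) = (m * (c * x * c⁻¹) * m⁻¹) * (m * (c * y * c⁻¹) * m⁻¹) * y⁻¹ * x⁻¹ := by
      simp only [cm_def]; group
    rw [h1, hcz]
    simp only [cm_def]; group
  rw [e1]
  exact mul_mem (mul_mem (conj_mem_of_mem (le_normalizer_Uk H z (D.NN_le_H hm)) hx') (D.cm_N hm (ZU hy)))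
    (inv_mem hx)

/-- a normal subgroup of `H` centralising `Z` centralises `U` -/
theorem cent_of_normal {M₀ : Subgroup G} (hn : H ≤ normalizer (M₀ : Set G))
    (h2 : M₀ ≤ centralizer (zc (S : Subgroup G) : Set G)) : M₀ ≤ centralizer (zl (S : Subgroup G) H : Set G) := by
  have h3 : zl (S : Subgroup G) H ≤ centralizer (M₀ : Set G) := by
    refine zl_le (comm_symm h2) ?_
    refine le_normalizer_of fun h hh x hx => ?_
    rw [mem_centralizer_iff] at hx ⊢
    intro m hm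
    have hm' : h⁻¹ * m * h ∈ M₀ := by
      have h4 := conj_mem_of_mem (hn (inv_mem hh)) hm
      rwa [inv_inv] at h4
    have h4 := hx _ hm'
    calc m * (h * x * h⁻¹) = h * ((h⁻¹ * m * h) * x) * h⁻¹ := by group
      _ = h * (x * (h⁻¹ * m * h)) * h⁻¹ := by rw [h4]
      _ = h * x * h⁻¹ * m := by group
  exact comm_symm h3

/-- **(0)(c)** `C_H(U₁) ≤ C(U)` -/
theorem cent_U : H ⊓ centralizer (Uk H z : Set G) ≤ centralizer (zl (S : Subgroup G) H : Set G) := by
  set M₀ := H ⊓ centralizer (Uk H z : Set G) with hM0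
  have hM₀n : H ≤ normalizer (M₀ : Set G) := norm_inf_cent (le_normalizer_Uk H z)
  have h1 := le_sup_inf S (H := H) (M₀ := M₀) (K₀ := H ⊓ centralizer (zl (S : Subgroup G) H : Set G)) D.SH
    inf_le_left hM₀n inf_le_left (norm_inf_cent (le_normalizer_zl _ _)) (by
      intro x hx
      refine mem_inf.mpr ⟨pow_mem (mem_inf.mp hx).1 2, ?_⟩
      rw [mem_centralizer_iff]
      intro f hf
      have h2 := D.cm_mem (mem_inf.mp hx).1 hf
      have h3 : x * cm x f = cm x f * x := (mem_centralizer_iff.mp (mem_inf.mp hx).2 _ h2).symm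
      have h4 := D.Uk_sq h2
      have h5 : x * f = cm x f * f * x := by rw [cm_def]; group
      calc f * x ^ 2 = (cm x f * cm x f) * f * x * x := by rw [h4, pow_two]; group
        _ = cm x f * (cm x f * f * x) * x := by group
        _ = cm x f * (x * f) * x := by rw [← h5]
        _ = (cm x f * x) * f * x := by group
        _ = x * (cm x f * f * x) := by rw [← h3]; group
        _ = x * (x * f) := by rw [← h5]
        _ = x ^ 2 * f := by rw [pow_two]; group)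
  -- `M₀` centralises `Z`
  have h2 : M₀ ≤ centralizer (zc (S : Subgroup G) : Set G) := by
    refine h1.trans (sup_le (inf_le_right.trans (centralizer_le ZU)) (inf_le_left.trans (le_CZ S)))
  exact D.cent_of_normal hM₀n h2

/-- **(0)(d)** -/
theorem triv {I : Subgroup G} (hI : I ≤ Uk H z) (hHI : H ≤ normalizer (I : Set G)) {h : G} (hh : h ∈ H)
    (h1 : ∀ x ∈ Uk H z, cm h x ∈ I) (h2 : ∀ x ∈ I, cm h x = 1) : ∀ x ∈ Uk H z, cm h x = 1 := by
  let M₀ : Subgroup G :=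
    { carrier := {h | h ∈ H ∧ (∀ x ∈ Uk H z, cm h x ∈ I) ∧ ∀ x ∈ I, cm h x = 1}
      mul_mem' := by
        rintro x y ⟨hx, h1, h2⟩ ⟨hy, h3, h4⟩
        refine ⟨mul_mem hx hy, fun f hf => ?_, fun f hf => ?_⟩
        · rw [cm_mul_left]
          exact mul_mem (conj_mem_of_mem (hHI hx) (h3 f hf)) (h1 f hf)
        · rw [cm_mul_left, h4 f hf, h2 f hf]; group
      one_mem' := ⟨one_mem _, fun f _ => by
        have e1 : cm (1 : G) f = 1 := by rw [cm_def]; group
        rw [e1]; exact one_mem _, fun f _ => by rw [cm_def]; group⟩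
      inv_mem' := by
        rintro x ⟨hx, h1, h2⟩
        refine ⟨inv_mem hx, fun f hf => ?_, fun f hf => ?_⟩
        · have e1 : cm x⁻¹ f = x⁻¹ * (cm x f)⁻¹ * x⁻¹⁻¹ := by simp only [cm_def]; group
          rw [e1]
          exact conj_mem_of_mem (hHI (inv_mem hx)) (inv_mem (h1 f hf))
        · have e1 : cm x⁻¹ f = x⁻¹ * (cm x f)⁻¹ * x⁻¹⁻¹ := by simp only [cm_def]; group
          rw [e1, h2 f hf]; group }
  have hconj : ∀ {k x y : G}, cm (k * x * k⁻¹) y = k * cm x (k⁻¹ * y * k) * k⁻¹ := by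
    intro k x y; simp only [cm_def]; group
  have hM₀n : H ≤ normalizer (M₀ : Set G) := by
    refine le_normalizer_of fun k hk x hx => ?_
    obtain ⟨hx, h3, h4⟩ := hx
    refine ⟨mul_mem (mul_mem hk hx) (inv_mem hk), fun f hf => ?_, fun f hf => ?_⟩
    · rw [hconj]
      refine conj_mem_of_mem (hHI hk) (h3 _ ?_)
      have h5 := conj_mem_of_mem (le_normalizer_Uk H z (inv_mem hk)) hf
      rwa [inv_inv] at h5
    · rw [hconj, h4 _ (by
        have h5 := conj_mem_of_mem (hHI (inv_mem hk)) hf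
        rwa [inv_inv] at h5)]
      group
  have hle := le_sup_inf S (H := H) (M₀ := M₀) (K₀ := H ⊓ centralizer (Uk H z : Set G)) D.SH
    (fun x hx => hx.1) hM₀n inf_le_left (norm_inf_cent (le_normalizer_Uk H z)) (by
      rintro x ⟨hx, h3, h4⟩
      refine mem_inf.mpr ⟨pow_mem hx 2, ?_⟩
      rw [mem_centralizer_iff]
      intro f hf
      have h5 := h3 f hf
      have h6 : cm x (cm x f) = 1 := h4 _ h5
      have h7 : x * cm x f = cm x f * x := by
        have h8 : cm x (cm x f) * (cm x f * x) = x * cm x f := by simp only [cm_def]; group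
        rw [← h8, h6, one_mul]
      have h9 := D.Uk_sq (hI h5)
      have h10 : x * f = cm x f * f * x := by rw [cm_def]; group
      calc f * x ^ 2 = (cm x f * cm x f) * f * x * x := by rw [h9, pow_two]; group
        _ = cm x f * (cm x f * f * x) * x := by group
        _ = cm x f * (x * f) * x := by rw [← h10]
        _ = (cm x f * x) * f * x := by group
        _ = x * (cm x f * f * x) := by rw [← h7]; group
        _ = x * (x * f) := by rw [← h10]
        _ = x ^ 2 * f := by rw [pow_two]; group)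
  have hMz : M₀ ≤ centralizer (zc (S : Subgroup G) : Set G) :=
    hle.trans (sup_le (D.cent_U.trans (centralizer_le ZU)) (inf_le_left.trans (le_CZ S)))
  have hMU := D.cent_of_normal hM₀n hMz
  intro x hx
  have h3 := mem_centralizer_iff.mp (hMU ⟨hh, h1, h2⟩) x (D.Uk_le hx)
  rw [cm_def, ← h3]
  group

/-! ### (0)(e) -/

/-- `C_H(x)`, `x ∈ Z` -/
theorem isLong_K {x : G} (hx : x ∈ zc (S : Subgroup G)) (hx1 : ¬ H ≤ centralizer ({x} : Set G)) :
    IsLong (S : Subgroup G) (H ⊓ centralizer ({x} : Set G)) := by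
  have hx2 : x ≠ 1 := by
    rintro rfl
    apply hx1
    intro h _
    rw [mem_centralizer_iff]
    rintro _ rfl
    rw [one_mul, mul_one]
  have h1 := isLong S hx hx2
  refine ⟨h1.loc.of_le S (le_inf D.SH (le_centralizer_of_mem_zc hx)) inf_le_right, le_inf D.CH h1.cz⟩

/-- **(0)(e), (#)** `V ≤ O₂(C_H(x))` -/
theorem V_le_o2 {x : G} (hx : x ∈ zc (S : Subgroup G)) (hx1 : ¬ H ≤ centralizer ({x} : Set G)) :
    zl (S : Subgroup G) P ≤ o2 (H ⊓ centralizer ({x} : Set G)) :=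
  le_o2_of_comm (D.data.low P D.par) (D.isLong_K hx hx1)
    (D.min _ (D.isLong_K hx hx1) inf_le_left (fun h => hx1 (inf_eq_left.mp h)))

theorem conjV_le_o2 {x : G} (hx : x ∈ zc (S : Subgroup G)) (hx1 : ¬ H ≤ centralizer ({x} : Set G)) {k : G}
    (hk : k ∈ H ⊓ centralizer ({x} : Set G)) :
    MulAut.conj k • zl (S : Subgroup G) P ≤ o2 (H ⊓ centralizer ({x} : Set G)) := by
  have h1 := (conj_le_iff (g := k)).2 (D.V_le_o2 hx hx1)
  rwa [conj_eq_of_mem (le_normalizer_o2 _ hk)] at h1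

theorem exists_par : ∃ P₁, IsParS (S : Subgroup G) P₁ ∧ P₁ ≤ H := by
  by_contra hcon
  push Not at hcon
  have h1 : H ≤ normalizer (zc (S : Subgroup G) : Set G) := by
    refine D.long.loc.le_of_forall S (inf_le_right.trans (normalizer_le_normalizer_zc _)) fun P₁ hP hPH => ?_
    by_contra h2
    exact hcon P₁ ⟨hP, h2⟩ hPH
  have h2 : zl (S : Subgroup G) H ≤ zc (S : Subgroup G) := zl_le le_rfl h1
  apply D.ne
  intro v hv
  rw [mem_centralizer_iff]
  intro f hf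
  exact (zcomm (h2 hf) (D.VS hv)).symm

theorem Z_le_Wl {x : G} : zc (S : Subgroup G) ≤ Wl (S : Subgroup G) H x := by
  obtain ⟨P₁, h1, h2⟩ := D.exists_par
  have h3 := line_le_Wl (S := (S : Subgroup G)) (H := H) (e := x) h1 h2 (one_mem _)
  rw [map_one, one_smul] at h3
  exact (zc_le_zl _ _).trans h3

theorem line_le_U {P₁ : Subgroup G} (h2 : P₁ ≤ H) {k : G} (hk : k ∈ H) :
    MulAut.conj k • zl (S : Subgroup G) P₁ ≤ zl (S : Subgroup G) H := by
  have h3 : zl (S : Subgroup G) P₁ ≤ zl (S : Subgroup G) H :=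
    zl_le (zc_le_zl _ _) (h2.trans (le_normalizer_zl _ _))
  have h4 := (conj_le_iff (g := k)).2 h3
  rwa [conj_eq_of_mem (le_normalizer_zl _ _ hk)] at h4

theorem Wl_le_U {x : G} : Wl (S : Subgroup G) H x ≤ zl (S : Subgroup G) H :=
  Wl_le fun _ _ h2 _ hk => D.line_le_U h2 (mem_inf.mp hk).1

/-- `U` normalises `V^k`, `k ∈ H` -/
theorem U_norm {k : G} (hk : k ∈ H) :
    zl (S : Subgroup G) H ≤ normalizer ((MulAut.conj k • zl (S : Subgroup G) P : Subgroup G) : Set G) := by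
  have h1 : zl (S : Subgroup G) H ≤ normalizer (zl (S : Subgroup G) P : Set G) :=
    D.US.trans (D.SP.trans (le_normalizer_zl _ _))
  have h2 := conj_le_normalizer (g := k) h1
  rwa [conj_eq_of_mem (le_normalizer_zl _ _ hk)] at h2

/-- **no mutual pair**, in the form used here -/
theorem noff' {P₁ P₂ : Subgroup G} (h₁ : IsParS (S : Subgroup G) P₁) (h₂ : IsParS (S : Subgroup G) P₂) {g h : G}
    (m₁ : MulAut.conj g • zl (S : Subgroup G) P₁ ≤
      normalizer ((MulAut.conj h • zl (S : Subgroup G) P₂ : Subgroup G) : Set G))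
    (m₂ : MulAut.conj h • zl (S : Subgroup G) P₂ ≤
      normalizer ((MulAut.conj g • zl (S : Subgroup G) P₁ : Subgroup G) : Set G)) :
    MulAut.conj g • zl (S : Subgroup G) P₁ ≤
      centralizer ((MulAut.conj h • zl (S : Subgroup G) P₂ : Subgroup G) : Set G) := by
  by_contra hcon
  refine D.data.noff ⟨P₁, P₂, g⁻¹ * h, h₁, h₂, ?_, ?_, ?_⟩
  · have h1 := conj_le_normalizer (g := g⁻¹) m₁
    rwa [conj_conj, conj_conj, inv_mul_cancel, map_one, one_smul] at h1
  · have h1 := conj_le_normalizer (g := g⁻¹) m₂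
    rwa [conj_conj, conj_conj, inv_mul_cancel, map_one, one_smul] at h1
  · intro h0
    rw [commutator_eq_bot_iff_le_centralizer] at h0
    have h1 := conj_le_centralizer (g := g) h0
    rw [conj_conj, mul_inv_cancel_left] at h1
    exact hcon h1

/-- **(0)(e)** `[V^k, W] = 1` for `k ∈ C_H(x)` -/
theorem Wl_cent {x : G} (hx : x ∈ zc (S : Subgroup G)) (hx1 : ¬ H ≤ centralizer ({x} : Set G)) {k : G}
    (hk : k ∈ H ⊓ centralizer ({x} : Set G)) :
    Wl (S : Subgroup G) H x ≤ centralizer ((MulAut.conj k • zl (S : Subgroup G) P : Subgroup G) : Set G) := by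
  refine Wl_le fun P₁ h1 h2 k₁ hk₁ => ?_
  refine D.noff' h1 D.par ?_ ?_
  · exact (D.line_le_U h2 (mem_inf.mp hk₁).1).trans (D.U_norm (mem_inf.mp hk).1)
  · -- `V^k ≤ O₂(K) ≤ S^k₁`
    have h3 : o2 (H ⊓ centralizer ({x} : Set G)) ≤ normalizer (zl (S : Subgroup G) P₁ : Set G) :=
      ((D.isLong_K hx hx1).loc.o2_le S).trans (h1.le.trans (le_normalizer_zl _ _))
    have h4 := conj_le_normalizer (g := k₁) h3
    rw [conj_eq_of_mem (le_normalizer_o2 _ hk₁)] at h4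
    exact (D.conjV_le_o2 hx hx1 hk).trans h4

theorem Wl_cent_V {x : G} (hx : x ∈ zc (S : Subgroup G)) (hx1 : ¬ H ≤ centralizer ({x} : Set G)) :
    Wl (S : Subgroup G) H x ≤ centralizer (zl (S : Subgroup G) P : Set G) := by
  have h := D.Wl_cent hx hx1 (one_mem _)
  rwa [map_one, one_smul] at h

/-- **(2), (6)**: `W` contains some `x^h ≠ x`. -/
theorem exists_ne {x : G} (hx : x ∈ zc (S : Subgroup G)) (hx1 : ¬ H ≤ centralizer ({x} : Set G)) :
    ∃ h ∈ H, h * x * h⁻¹ ∈ Wl (S : Subgroup G) H x ∧ h * x * h⁻¹ ≠ x := by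
  by_contra hcon
  push Not at hcon
  apply hx1
  have h0 : ∀ h ∈ H, h * x * h⁻¹ = x → h ∈ centralizer ({x} : Set G) := by
    intro h _ h1
    rw [mem_centralizer_iff]
    intro y hy
    rw [Set.mem_singleton_iff.mp hy]
    calc x * h = h * x * h⁻¹ * h := by rw [h1]
      _ = h * x := by group
  refine D.long.loc.le_of_forall S ?_ fun P₁ hP hPH => ?_
  · intro m hm
    refine h0 m (mem_inf.mp hm).1 (hcon _ (mem_inf.mp hm).1 (D.Z_le_Wl ?_))
    exact conj_mem_of_mem (normalizer_le_normalizer_zc _ (mem_inf.mp hm).2) hx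
  · by_cases hs : IsParS (S : Subgroup G) P₁
    · intro p hp
      refine h0 p (hPH hp) (hcon _ (hPH hp) ?_)
      have h3 := line_le_Wl (S := (S : Subgroup G)) (H := H) (e := x) hs hPH (one_mem _)
      rw [map_one, one_smul] at h3
      exact h3 (conj_mem_of_mem (le_normalizer_zl _ _ hp) (zc_le_zl _ _ hx))
    · exact (par_le_CZ S hP hs).trans (centralizer_le (Set.singleton_subset_iff.2 hx))

end HypK

end Cfsg.Agent.Omega.NOThreeL.RTools.Many

end

section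


/-!
# NO-3L, box R ∩ (A), `q = 2`, all `k`, symplectic case: the end ((8')-(10') of #18224)

`End H U PP B z w g S T W` : `U = U_1`, `W` here is `W ∩ U_1`, `g` maps `z_i` to `a_i`, `T = U_1 ∩ U_1^g`;
`End.false` : contradiction.
-/

set_option autoImplicit false

namespace Cfsg.Agent.Omega.NOThreeL.RTools.Many

open Subgroup Cfsg.Agent.Omega.NOThreeL.RTools.Symp

variable {G : Type*} [Group G]

/-- the data of the end -/
structure End (H U : Subgroup G) (PP : Set G) (B : G → G → ℤˣ) {k : ℕ} (z w : Fin k → G) (g : G)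
    (S T W : Subgroup G) : Prop extends Sys H U PP B z w where
  UH : U ≤ H
  /-- the transvections are induced by involutions of `H` -/
  tv : ∀ q ∈ PP, ∃ t ∈ H, t * t = 1 ∧
    ∀ m ∈ U, (B q m = 1 → t * m * t⁻¹ = m) ∧ (B q m = -1 → t * m * t⁻¹ = m * q)
  /-- (0)(d) -/
  core : ∀ h ∈ H, (∀ m ∈ U, ∀ n ∈ U, B (h * m * h⁻¹ * m⁻¹) n = 1) →
    (∀ m ∈ U, (∀ n ∈ U, B m n = 1) → h * m * h⁻¹ = m) → ∀ m ∈ U, h * m * h⁻¹ = m
  WU : W ≤ U
  WY : ∀ x ∈ W, ∀ i, B (z i) x = 1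
  WK : ∀ h ∈ H, h * LP z = LP z * h → ∀ x ∈ W, h * x * h⁻¹ ∈ W
  Wne : ∃ h ∈ H, h * LP z * h⁻¹ ∈ W ∧ h * LP z * h⁻¹ ≠ LP z
  /-- (5) -/
  WW : ∀ x ∈ W, ∀ y ∈ W, x * (g * y * g⁻¹) = (g * y * g⁻¹) * x
  gH : ∀ x ∈ W, g * x * g⁻¹ ∈ H
  gz : ∀ x ∈ W, ∀ i, z i * (g * x * g⁻¹) = (g * x * g⁻¹) * z i
  gI : ∀ x ∈ W, ∀ r ∈ U, (∀ n ∈ U, B r n = 1) → r * (g * x * g⁻¹) = (g * x * g⁻¹) * r
  gzH : ∀ i, g * z i * g⁻¹ ∈ H
  /-- `a_i = g z_i g⁻¹` acts as the transvection at `z_i` -/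
  av : ∀ i, ∀ m ∈ U, (B (z i) m = 1 → (g * z i * g⁻¹) * m * (g * z i * g⁻¹)⁻¹ = m) ∧
    (B (z i) m = -1 → (g * z i * g⁻¹) * m * (g * z i * g⁻¹)⁻¹ = m * z i)
  TU : ∀ t ∈ T, t ∈ U ∧ ∀ i, B (z i) t = 1
  /-- `C_{U_1^g}(U_1) ≤ T` -/
  coreT : ∀ x ∈ U, (∀ m ∈ U, (g * x * g⁻¹) * m * (g * x * g⁻¹)⁻¹ = m) → x ∈ T
  gT : ∀ t ∈ T, g * t * g⁻¹ = t
  zT : ∀ i, z i ∉ T
  SK : ∀ x ∈ S, x ∈ H ∧ x * LP z = LP z * x
  ST : ∀ x ∈ S, ∀ t ∈ T, x * t * x⁻¹ ∈ T
  Str : ∀ i j, ∃ x ∈ S, x * z i * x⁻¹ = z j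
  /-- `S` is Sylow in `K = C_H(e)` -/
  syl : ∀ t ∈ H, t * LP z = LP z * t → t * t = 1 → ∃ h ∈ H, h * LP z = LP z * h ∧ h * t * h⁻¹ ∈ S
  /-- (9'): `R = U_{C_G(p)}`, `y ε ∈ Z^h` -/
  frame : ∀ h ∈ H, h * LP z * h⁻¹ ∈ T → ∃ R : Subgroup G, (∀ a ∈ R, ∀ b ∈ R, a * b = b * a) ∧
    (∀ c ∈ H, c * (h * LP z * h⁻¹) = (h * LP z * h⁻¹) * c → ∀ r ∈ R, c * r * c⁻¹ ∈ R) ∧
    (∀ r ∈ R, g * r * g⁻¹ ∈ R) ∧
    ∃ y ∈ U, ∃ ε : G, (∀ m ∈ U, ε * m = m * ε) ∧ ε * g = g * ε ∧ y * ε ∈ R ∧ y ∉ T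

namespace End

variable {H U : Subgroup G} {PP : Set G} {B : G → G → ℤˣ} {k : ℕ} {z w : Fin k → G} {g : G} {S T W : Subgroup G}
  (s : End H U PP B z w g S T W)
include s

theorem z_ne_one (i : Fin k) : z i ≠ 1 := by
  intro h
  have h1 := s.wz i
  rw [h, s.toForm0.one_right (s.wU i)] at h1
  exact neg_ne h1.symm

theorem Y_U {P : G → Prop} (hp : ∀ p ∈ PP, (∀ i, B (z i) p = 1) → P p) (h1 : P 1)
    (hm : ∀ x ∈ U, ∀ y ∈ U, P x → P y → P (x * y)) {u : G} (hu : u ∈ U) (h : ∀ i, B (z i) u = 1) : P u := by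
  have h2 : ∀ x ∈ closure {p | p ∈ PP ∧ ∀ i, B (z i) p = 1}, x ∈ U ∧ P x := by
    intro x hx
    refine closure_induction (p := fun x _ => x ∈ U ∧ P x) ?_ ?_ ?_ ?_ hx
    · exact fun x hx => ⟨s.sub x hx.1, hp x hx.1 hx.2⟩
    · exact ⟨U.one_mem, h1⟩
    · rintro x y _ _ ⟨hx, h3⟩ ⟨hy, h4⟩
      exact ⟨U.mul_mem hx hy, hm x hx y hy h3 h4⟩
    · rintro x _ ⟨hx, h3⟩
      rw [s.toForm0.inv hx]
      exact ⟨hx, h3⟩
  exact (h2 u (s.Y_le hu h)).2

/-- the transvections at points of `Y1` lie in `K` -/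
theorem tv_K {q t : G} (hq : q ∈ PP) (hqY : ∀ i, B (z i) q = 1)
    (ht : ∀ m ∈ U, (B q m = 1 → t * m * t⁻¹ = m) ∧ (B q m = -1 → t * m * t⁻¹ = m * q)) :
    t * LP z = LP z * t := by
  obtain ⟨i, hi⟩ := s.occ hq
  have h1 : B q (LP z) = 1 := by
    rw [s.B_e hi, s.symm q (s.sub q hq) _ (s.zU i)]; exact hqY i
  exact mul_inv_eq_iff_eq_mul.1 ((ht _ s.eU).1 h1)

/-- absorption -/
theorem habs : ∀ p ∈ PP, (∀ i, B (z i) p = 1) → (∃ x ∈ W, B p x = -1) → p ∈ W := by
  rintro p hp hpY ⟨x, hx, hpx⟩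
  obtain ⟨t, htH, _, ht⟩ := s.tv p hp
  have h1 := s.WK t htH (s.tv_K hp hpY ht) x hx
  rw [(ht x (s.WU hx)).2 hpx] at h1
  have h2 := W.mul_mem (W.inv_mem hx) h1
  rwa [inv_mul_cancel_left] at h2

/-- a point of `Y1` not perpendicular to `W` -/
theorem exists_pt : ∃ p ∈ PP, (∀ i, B (z i) p = 1) ∧ ∃ x ∈ W, B p x = -1 := by
  obtain ⟨h, hh, h1, h2⟩ := s.Wne
  exact s.six s.WU hh h1 h2

/-- **(7)** -/
theorem seven' {i : Fin k} {p : G} (hp : p ∈ Comp PP B (z i)) (hp1 : B (z i) p = 1) (hne : p ≠ z i) : p ∈ W := by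
  obtain ⟨x, hx, hxY, y, hy, hxy⟩ := s.exists_pt
  obtain ⟨j, hj⟩ := s.occ hx
  obtain ⟨c, hc, hcz⟩ := s.Str j i
  obtain ⟨hcH, hce⟩ := s.SK c hc
  have h1 : c * x * c⁻¹ ∈ Comp PP B (z i) := by
    have := s.conj_comp hcH hj
    rwa [hcz] at this
  have h2 : B (z i) (c * x * c⁻¹) = 1 := by
    rw [← hcz, s.isom c hcH _ (s.zU j) _ (s.sub x hx)]
    exact hxY j
  refine (s.seven s.WU s.WY s.habs h1 h2 ⟨c * y * c⁻¹, s.WK c hcH hce y hy, ?_⟩ hp hp1 hne).1
  rw [s.isom c hcH _ (s.sub x hx) _ (s.WU hy)]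
  exact hxy

theorem a_Y {i : Fin k} {m : G} (hm : m ∈ U) (h : B (z i) m = 1) :
    (g * z i * g⁻¹) * m * (g * z i * g⁻¹)⁻¹ = m := (s.av i m hm).1 h

/-- `c ∈ H` centralising `Y1`: `[w_i, c]` is in `Rad` or `z_i Rad` -/
theorem comm_w {c : G} (hc : c ∈ H) (hcY : ∀ m ∈ U, (∀ i, B (z i) m = 1) → c * m * c⁻¹ = m) (i : Fin k) :
    (∀ y ∈ U, B (c * w i * c⁻¹ * (w i)⁻¹) y = 1) ∨ ∀ y ∈ U, B (c * w i * c⁻¹ * (w i)⁻¹ * z i) y = 1 := by
  have F := s.toForm0.comp (s.zP i)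
  have hzc : c * z i * c⁻¹ = z i := hcY _ (s.zU i) fun j => s.zz j i
  have h1 : c * w i * c⁻¹ ∈ Comp PP B (z i) := by
    have := s.conj_comp hc (s.w_comp i)
    rwa [hzc] at this
  have hwcU := s.sub _ (Form0.comp_sub (s.zP i) h1)
  have hsU : c * w i * c⁻¹ * (w i)⁻¹ ∈ U := U.mul_mem hwcU (U.inv_mem (s.wU i))
  have hsC : c * w i * c⁻¹ * (w i)⁻¹ ∈ closure (Comp PP B (z i)) :=
    mul_mem (subset_closure h1) (inv_mem (subset_closure (s.w_comp i)))
  have h2 : ∀ q ∈ Comp PP B (z i), B (z i) q = 1 → B (c * w i * c⁻¹ * (w i)⁻¹) q = 1 := by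
    intro q hq hq1
    have hqP := Form0.comp_sub (s.zP i) hq
    have hqU := s.sub q hqP
    have h3 := s.isom c hc _ (s.wU i) q hqU
    rw [hcY q hqU (s.pt_Y hqP hq hq1)] at h3
    rw [s.toForm0.inv (s.wU i), s.toForm0.mul_left hwcU (s.wU i) hqU, h3, units_mul_self]
  -- extend from the component to `U`
  have ext : ∀ x ∈ closure (Comp PP B (z i)), (∀ y ∈ closure (Comp PP B (z i)), B x y = 1) → ∀ y ∈ U, B x y = 1 := by
    intro x hx hxy
    have hxU := s.toForm0.span_le (s.zP i) hx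
    refine s.toForm0.rad_of_pts hxU fun p hp => ?_
    by_cases h4 : p ∈ Comp PP B (z i)
    · exact hxy p (subset_closure h4)
    · have h5 := (s.toForm0.eq_one_of_closure (A := Comp PP B (z i)) (u := p)
        (fun a ha => s.sub a (Form0.comp_sub (s.zP i) ha)) (s.sub p hp) (fun a ha => by
          rw [s.symm p (s.sub p hp) a (s.sub a (Form0.comp_sub (s.zP i) ha))]
          exact s.toForm0.perp (s.zP i) ha hp h4) hx).2
      rw [s.symm x hxU p (s.sub p hp)]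
      exact h5
  rcases F.rad_or' (Form0.comp_self _) hsC h2 with h3 | h3
  · exact Or.inl (ext _ hsC h3)
  · exact Or.inr (ext _ (mul_mem hsC (subset_closure (Form0.comp_self _))) h3)

/-- **(8')** general form: `x ∈ U`, `g x g⁻¹ ∈ H` centralises `Y1` -/
theorem eight_aux : ∀ n : ℕ, ∀ x ∈ U, g * x * g⁻¹ ∈ H →
    (∀ m ∈ U, (∀ i, B (z i) m = 1) → (g * x * g⁻¹) * m * (g * x * g⁻¹)⁻¹ = m) →
    Nat.card {i : Fin k // ¬ ∀ y ∈ U, B ((g * x * g⁻¹) * w i * (g * x * g⁻¹)⁻¹ * (w i)⁻¹) y = 1} = n →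
    x ∈ closure (Set.range z ∪ (T : Set G)) := by
  classical
  intro n
  induction n with
  | zero =>
    intro x hx hcH hcY h0
    have h1 : ∀ i, ∀ y ∈ U, B ((g * x * g⁻¹) * w i * (g * x * g⁻¹)⁻¹ * (w i)⁻¹) y = 1 := by
      intro i
      by_contra h
      have : IsEmpty {i : Fin k // ¬ ∀ y ∈ U, B ((g * x * g⁻¹) * w i * (g * x * g⁻¹)⁻¹ * (w i)⁻¹) y = 1} :=
        Finite.card_eq_zero_iff.1 h0
      exact this.false ⟨i, h⟩
    set c := g * x * g⁻¹ with hc
    have h2 : ∀ m ∈ U, ∀ n ∈ U, B (c * m * c⁻¹ * m⁻¹) n = 1 := by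
      intro m hm
      refine s.ind (P := fun m => ∀ n ∈ U, B (c * m * c⁻¹ * m⁻¹) n = 1) ?_ ?_ hm
      · intro u hu hY n hn
        rw [hcY u hu hY, mul_inv_cancel]
        exact s.toForm0.one_left hn
      · intro u hu j h3 n hn
        have hw := s.wU j
        have huw := U.mul_mem hu hw
        have e1 : c * u * c⁻¹ * u⁻¹ = (c * (u * w j) * c⁻¹ * (u * w j)⁻¹) * (c * w j * c⁻¹ * (w j)⁻¹) := by
          have hcu := s.nU c hcH _ hu
          have hcw := s.nU c hcH _ hw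
          rw [s.toForm0.inv hu, s.toForm0.inv hw, s.toForm0.inv huw]
          have e2 : c * (u * w j) * c⁻¹ = (c * u * c⁻¹) * (c * w j * c⁻¹) := by group
          rw [e2]
          have e3 := s.comm _ huw _ hcw
          have e4 := s.comm _ (U.mul_mem hcw hu) _ hw
          calc c * u * c⁻¹ * u = (c * u * c⁻¹) * u * 1 * 1 := by group
            _ = (c * u * c⁻¹) * u * (w j * w j) * ((c * w j * c⁻¹) * (c * w j * c⁻¹)) := by
                rw [s.sq _ hw, s.sq _ hcw]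
            _ = (c * u * c⁻¹) * (u * w j) * (w j * (c * w j * c⁻¹)) * (c * w j * c⁻¹) := by group
            _ = (c * u * c⁻¹) * (u * w j) * ((c * w j * c⁻¹) * w j) * (c * w j * c⁻¹) := by
                rw [s.comm _ hw _ hcw]
            _ = (c * u * c⁻¹) * ((u * w j) * (c * w j * c⁻¹)) * (w j * (c * w j * c⁻¹)) := by group
            _ = (c * u * c⁻¹) * ((c * w j * c⁻¹) * (u * w j)) * ((c * w j * c⁻¹) * w j) := by
                rw [e3, s.comm _ hw _ hcw]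
            _ = _ := by group
        have hA : c * (u * w j) * c⁻¹ * (u * w j)⁻¹ ∈ U := U.mul_mem (s.nU c hcH _ huw) (U.inv_mem huw)
        have hB' : c * w j * c⁻¹ * (w j)⁻¹ ∈ U := U.mul_mem (s.nU c hcH _ hw) (U.inv_mem hw)
        rw [e1, s.toForm0.mul_left hA hB' hn, h3 n hn, h1 j n hn, one_mul]
    have h3 := s.core c hcH h2 fun m hm hm' => hcY m hm fun i => by
      rw [s.symm _ (s.zU i) m hm]; exact hm' _ (s.zU i)
    exact subset_closure (Or.inr (s.coreT x hx h3))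
  | succ n ih =>
    intro x hx hcH hcY h0
    obtain ⟨⟨i, hi⟩⟩ : Nonempty {i : Fin k // ¬ ∀ y ∈ U,
        B ((g * x * g⁻¹) * w i * (g * x * g⁻¹)⁻¹ * (w i)⁻¹) y = 1} := by
      by_contra h
      rw [not_nonempty_iff] at h
      rw [Nat.card_of_isEmpty] at h0
      omega
    have hi2 := (s.comm_w hcH hcY i).resolve_left hi
    have ec : g * (x * z i) * g⁻¹ = (g * x * g⁻¹) * (g * z i * g⁻¹) := by group
    have hc'H : g * (x * z i) * g⁻¹ ∈ H := by rw [ec]; exact H.mul_mem hcH (s.gzH i)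
    have hconj : ∀ m, (g * (x * z i) * g⁻¹) * m * (g * (x * z i) * g⁻¹)⁻¹ =
        (g * x * g⁻¹) * ((g * z i * g⁻¹) * m * (g * z i * g⁻¹)⁻¹) * (g * x * g⁻¹)⁻¹ := fun m => by
      rw [ec]; group
    have hzY : (g * x * g⁻¹) * z i * (g * x * g⁻¹)⁻¹ = z i := hcY _ (s.zU i) fun j => s.zz j i
    have h1 : x * z i ∈ closure (Set.range z ∪ (T : Set G)) := by
      refine ih (x * z i) (U.mul_mem hx (s.zU i)) hc'H (fun m hm hm' => ?_) ?_
      · rw [hconj, s.a_Y hm (hm' i)]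
        exact hcY m hm hm'
      · -- the bad set loses `i`
        have hbad : ∀ j, (∀ y ∈ U, B ((g * (x * z i) * g⁻¹) * w j * (g * (x * z i) * g⁻¹)⁻¹ * (w j)⁻¹) y = 1) ↔
            (j = i ∨ ∀ y ∈ U, B ((g * x * g⁻¹) * w j * (g * x * g⁻¹)⁻¹ * (w j)⁻¹) y = 1) := by
          intro j
          rw [hconj]
          by_cases hji : j = i
          · subst hji
            refine iff_of_true ?_ (Or.inl rfl)
            rw [(s.av j _ (s.wU j)).2 (s.z_w_self j)]
            have e1 : (g * x * g⁻¹) * (w j * z j) * (g * x * g⁻¹)⁻¹ * (w j)⁻¹ =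
                (g * x * g⁻¹) * w j * (g * x * g⁻¹)⁻¹ * (w j)⁻¹ * z j := by
              have e2 : (g * x * g⁻¹) * (w j * z j) * (g * x * g⁻¹)⁻¹ =
                  ((g * x * g⁻¹) * w j * (g * x * g⁻¹)⁻¹) * ((g * x * g⁻¹) * z j * (g * x * g⁻¹)⁻¹) := by group
              rw [e2, hzY, mul_assoc _ (z j), s.comm _ (s.zU j) _ (U.inv_mem (s.wU j)), ← mul_assoc]
            rw [e1]
            exact hi2
          · rw [s.a_Y (s.wU j) (s.z_w (fun h => hji h.symm))]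
            simp [hji]
        have e3 : Nat.card {j : Fin k // ¬ ∀ y ∈ U, B ((g * (x * z i) * g⁻¹) * w j * (g * (x * z i) * g⁻¹)⁻¹ *
            (w j)⁻¹) y = 1} = ((Finset.univ.filter fun j => ¬ ∀ y ∈ U,
              B ((g * x * g⁻¹) * w j * (g * x * g⁻¹)⁻¹ * (w j)⁻¹) y = 1).erase i).card := by
          rw [Nat.card_eq_fintype_card, Fintype.card_subtype]
          congr 1
          ext j
          rw [Finset.mem_erase, Finset.mem_filter, Finset.mem_filter, hbad j, not_or]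
          simp
        rw [e3, Finset.card_erase_of_mem (Finset.mem_filter.2 ⟨Finset.mem_univ i, hi⟩),
          ← Fintype.card_subtype, ← Nat.card_eq_fintype_card, h0]
        rfl
    have h2 := mul_mem h1 (subset_closure (Or.inl ⟨i, rfl⟩ : z i ∈ Set.range z ∪ (T : Set G)))
    rwa [mul_assoc, s.sq _ (s.zU i), mul_one] at h2

/-- **(8')** -/
theorem eight {x : G} (hx : x ∈ W) : x ∈ closure (Set.range z ∪ (T : Set G)) := by
  refine s.eight_aux _ x (s.WU hx) (s.gH x hx) (fun m hm hm' => ?_) rfl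
  refine s.Y_U (P := fun m => (g * x * g⁻¹) * m * (g * x * g⁻¹)⁻¹ = m) ?_ ?_ ?_ hm hm'
  · intro p hp hpY
    obtain ⟨i, hi⟩ := s.occ hp
    by_cases h : p = z i
    · rw [h, ← s.gz x hx i, mul_inv_cancel_right]
    · rw [← s.WW p (s.seven' hi (hpY i) h) x hx, mul_inv_cancel_right]
  · rw [mul_one, mul_inv_cancel]
  · intro a _ b _ h1 h2
    have e1 : (g * x * g⁻¹) * (a * b) * (g * x * g⁻¹)⁻¹ =
        ((g * x * g⁻¹) * a * (g * x * g⁻¹)⁻¹) * ((g * x * g⁻¹) * b * (g * x * g⁻¹)⁻¹) := by group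
    rw [e1, h1, h2]

/-- (8'): `Y1 ≤ ⟨z_1, .., z_k⟩ T` -/
theorem Y_le_T {u : G} (hu : u ∈ U) (h : ∀ i, B (z i) u = 1) : u ∈ closure (Set.range z ∪ (T : Set G)) := by
  refine s.Y_U (P := fun m => m ∈ closure (Set.range z ∪ (T : Set G))) ?_ (one_mem _)
    (fun a _ b _ h1 h2 => mul_mem h1 h2) hu h
  intro p hp hpY
  obtain ⟨i, hi⟩ := s.occ hp
  by_cases h : p = z i
  · rw [h]; exact subset_closure (Or.inl ⟨i, rfl⟩)
  · exact s.eight (s.seven' hi (hpY i) h)

/-- the action of `g y g⁻¹` on `U` for `y ∈ Y1` -/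
theorem act {y : G} (hy : y ∈ closure (Set.range z ∪ (T : Set G))) :
    y ∈ U ∧ (∀ m ∈ U, (∀ i, B (z i) m = 1) → (g * y * g⁻¹) * m * (g * y * g⁻¹)⁻¹ = m) ∧
      ∀ j, (g * y * g⁻¹) * w j * (g * y * g⁻¹)⁻¹ = w j ∨ (g * y * g⁻¹) * w j * (g * y * g⁻¹)⁻¹ = w j * z j := by
  refine closure_induction (p := fun y _ => y ∈ U ∧
      (∀ m ∈ U, (∀ i, B (z i) m = 1) → (g * y * g⁻¹) * m * (g * y * g⁻¹)⁻¹ = m) ∧
      ∀ j, (g * y * g⁻¹) * w j * (g * y * g⁻¹)⁻¹ = w j ∨ (g * y * g⁻¹) * w j * (g * y * g⁻¹)⁻¹ = w j * z j)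
      ?_ ?_ ?_ ?_ hy
  · rintro x (⟨i, rfl⟩ | hx)
    · refine ⟨s.zU i, fun m hm hm' => s.a_Y hm (hm' i), fun j => ?_⟩
      by_cases h : i = j
      · subst h
        exact Or.inr ((s.av i _ (s.wU i)).2 (s.z_w_self i))
      · exact Or.inl (s.a_Y (s.wU j) (s.z_w h))
    · have hxU := (s.TU x hx).1
      rw [s.gT x hx]
      have h1 : ∀ m ∈ U, x * m * x⁻¹ = m := fun m hm => by rw [s.comm x hxU m hm, mul_inv_cancel_right]
      exact ⟨hxU, fun m hm _ => h1 m hm, fun j => Or.inl (h1 _ (s.wU j))⟩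
  · refine ⟨U.one_mem, fun m _ _ => by group, fun j => Or.inl (by group)⟩
  · rintro a b _ _ ⟨ha, ha1, ha2⟩ ⟨hb, hb1, hb2⟩
    have e1 : ∀ m, (g * (a * b) * g⁻¹) * m * (g * (a * b) * g⁻¹)⁻¹ =
        (g * a * g⁻¹) * ((g * b * g⁻¹) * m * (g * b * g⁻¹)⁻¹) * (g * a * g⁻¹)⁻¹ := fun m => by group
    refine ⟨U.mul_mem ha hb, fun m hm hm' => by rw [e1, hb1 m hm hm', ha1 m hm hm'], fun j => ?_⟩
    have hz : (g * a * g⁻¹) * z j * (g * a * g⁻¹)⁻¹ = z j := ha1 _ (s.zU j) fun i => s.zz i j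
    have e2 : (g * a * g⁻¹) * (w j * z j) * (g * a * g⁻¹)⁻¹ =
        ((g * a * g⁻¹) * w j * (g * a * g⁻¹)⁻¹) * ((g * a * g⁻¹) * z j * (g * a * g⁻¹)⁻¹) := by group
    rw [e1]
    rcases hb2 j with h | h <;> rcases ha2 j with h' | h'
    · rw [h, h']; exact Or.inl rfl
    · rw [h, h']; exact Or.inr rfl
    · rw [h, e2, hz, h']; exact Or.inr rfl
    · rw [h, e2, hz, h', mul_assoc, s.sq _ (s.zU j), mul_one]; exact Or.inl rfl
  · rintro a _ ⟨ha, h⟩
    rw [s.toForm0.inv ha]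
    exact ⟨ha, h⟩

/-- `y ∈ Y1 - T` : some `[w_j, y^g] = z_j` -/
theorem exists_j {y : G} (hy : y ∈ closure (Set.range z ∪ (T : Set G))) (hT : y ∉ T) :
    ∃ j, (g * y * g⁻¹) * w j * (g * y * g⁻¹)⁻¹ = w j * z j := by
  by_contra hcon
  push Not at hcon
  obtain ⟨hyU, h1, h2⟩ := s.act hy
  refine hT (s.coreT y hyU fun m hm => ?_)
  refine s.ind (P := fun m => (g * y * g⁻¹) * m * (g * y * g⁻¹)⁻¹ = m) h1 ?_ hm
  intro u _ j h3
  have h4 := (h2 j).resolve_right (hcon j)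
  have e1 : (g * y * g⁻¹) * (u * w j) * (g * y * g⁻¹)⁻¹ =
      ((g * y * g⁻¹) * u * (g * y * g⁻¹)⁻¹) * ((g * y * g⁻¹) * w j * (g * y * g⁻¹)⁻¹) := by group
  rw [e1, h4] at h3
  exact mul_right_cancel h3

/-- moving `z_j` inside its component -/
theorem move (j : Fin k) {q : G} (hq : q ∈ Comp PP B (z j)) :
    ∃ n ∈ H, n * z j * n⁻¹ = q ∧ ∀ r ∈ PP, r ∉ Comp PP B (z j) → n * r * n⁻¹ = r := by
  induction hq with
  | refl => exact ⟨1, H.one_mem, by group, fun r _ _ => by group⟩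
  | @tail b c hb h ih =>
    obtain ⟨n, hn, h1, h2⟩ := ih
    obtain ⟨hbP, hcP, hbc⟩ := h
    obtain ⟨t, ht, _, ht'⟩ := s.tv b hbP
    obtain ⟨t', ht2, _, ht2'⟩ := s.tv c hcP
    have hbU := s.sub b hbP
    have hcU := s.sub c hcP
    have hcC : c ∈ Comp PP B (z j) := Form0.comp_adj (s.zP j) hb hcP hbc
    refine ⟨t * t' * n, H.mul_mem (H.mul_mem ht ht2) hn, ?_, fun r hr hr' => ?_⟩
    · have e1 : t * t' * n * z j * (t * t' * n)⁻¹ = t * (t' * (n * z j * n⁻¹) * t'⁻¹) * t⁻¹ := by group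
      rw [e1, h1, (ht2' b hbU).2 (by rw [s.symm c hcU b hbU]; exact hbc), (ht' _ (U.mul_mem hbU hcU)).2 (by
        rw [s.mul b hbU b hbU c hcU, s.self b hbU, hbc, one_mul])]
      rw [s.comm b hbU c hcU, mul_assoc, s.sq b hbU, mul_one]
    · have hrU := s.sub r hr
      have e1 : t * t' * n * r * (t * t' * n)⁻¹ = t * (t' * (n * r * n⁻¹) * t'⁻¹) * t⁻¹ := by group
      rw [e1, h2 r hr hr', (ht2' r hrU).1 (s.toForm0.perp (s.zP j) hcC hr hr'),
        (ht' r hrU).1 (s.toForm0.perp (s.zP j) hb hr hr')]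

/-- `x_j ∈ Γ_j` : some `h ∈ H` maps all `z_j` to `x_j` -/
theorem move_all (x : Fin k → G) (hx : ∀ j, x j ∈ Comp PP B (z j)) : ∃ h ∈ H, ∀ j, h * z j * h⁻¹ = x j := by
  classical
  have key : ∀ A : Finset (Fin k), ∃ h ∈ H, ∀ j, h * z j * h⁻¹ = if j ∈ A then x j else z j := by
    intro A
    induction A using Finset.induction_on with
    | empty => exact ⟨1, H.one_mem, fun j => by simp⟩
    | insert a A ha ih =>
      obtain ⟨h, hh, h1⟩ := ih
      obtain ⟨n, hn, h2, h3⟩ := s.move a (hx a)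
      refine ⟨n * h, H.mul_mem hn hh, fun j => ?_⟩
      have e1 : n * h * z j * (n * h)⁻¹ = n * (h * z j * h⁻¹) * n⁻¹ := by group
      rw [e1, h1 j]
      by_cases hja : j = a
      · subst hja
        rw [if_neg ha, if_pos (Finset.mem_insert_self _ _)]
        exact h2
      · have hzj : z j ∉ Comp PP B (z a) := s.notComp hja
        have hxj : x j ∉ Comp PP B (z a) := fun h4 => hzj (Form0.comp_trans h4 (s.toForm0.comp_symm (hx j)))
        by_cases hjA : j ∈ A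
        · rw [if_pos hjA, if_pos (Finset.mem_insert_of_mem hjA)]
          exact h3 _ (Form0.comp_sub (s.zP j) (hx j)) hxj
        · rw [if_neg hjA, if_neg (by simp [hja, hjA])]
          exact h3 _ (s.zP j) hzj
  obtain ⟨h, hh, h1⟩ := key Finset.univ
  exact ⟨h, hh, fun j => by rw [h1 j, if_pos (Finset.mem_univ j)]⟩

/-- **(9')** : no point lies in `T` -/
theorem nine {x : G} (hx : x ∈ PP) (hxT : x ∈ T) : False := by
  classical
  obtain ⟨i, hi⟩ := s.occ hx
  choose c hcS hcz using fun j => s.Str i j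
  set X : Fin k → G := fun j => c j * x * (c j)⁻¹ with hX
  have hXC : ∀ j, X j ∈ Comp PP B (z j) := fun j => by
    have := s.conj_comp (s.SK _ (hcS j)).1 hi
    rwa [hcz j] at this
  have hXT : ∀ j, X j ∈ T := fun j => s.ST _ (hcS j) x hxT
  obtain ⟨h, hh, hhz⟩ := s.move_all X hXC
  have hpe : h * LP z * h⁻¹ = LP X := by
    rw [LP_conj]; exact congrArg LP (funext hhz)
  have hpT : h * LP z * h⁻¹ ∈ T := by rw [hpe]; exact LP_mem hXT
  obtain ⟨R, hRc, hRH, hRg, y, hyU, ε, hεU, hεg, hyR, hyT⟩ := s.frame h hh hpT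
  have hpU := (s.TU _ hpT).1
  have hpY := (s.TU _ hpT).2
  -- the `a_i` and `U` normalise `R`
  have hεg' : g * ε * g⁻¹ = ε := by rw [← hεg, mul_inv_cancel_right]
  have hεa : ∀ i, ε * (g * z i * g⁻¹) = (g * z i * g⁻¹) * ε := by
    intro i
    calc ε * (g * z i * g⁻¹) = (g * ε * g⁻¹) * (g * z i * g⁻¹) := by rw [hεg']
      _ = g * (ε * z i) * g⁻¹ := by group
      _ = g * (z i * ε) * g⁻¹ := by rw [hεU _ (s.zU i)]
      _ = (g * z i * g⁻¹) * (g * ε * g⁻¹) := by group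
      _ = _ := by rw [hεg']
  have haR : ∀ i, ∀ r ∈ R, (g * z i * g⁻¹) * r * (g * z i * g⁻¹)⁻¹ ∈ R := fun i r hr =>
    hRH _ (s.gzH i) (mul_inv_eq_iff_eq_mul.1 (s.a_Y hpU (hpY i))) r hr
  have hUR : ∀ u ∈ U, ∀ r ∈ R, u * r * u⁻¹ ∈ R := fun u hu r hr => hRH u (s.UH hu) (s.comm u hu _ hpU) r hr
  -- `z_j ∈ R` implies `R ∩ U ≤ z_j^⊥`
  have hzR : ∀ j, z j ∈ R → ∀ f ∈ U, ∀ ε', ε' * (g * z j * g⁻¹) = (g * z j * g⁻¹) * ε' → f * ε' ∈ R →
      B (z j) f = 1 := by
    intro j hj f hf ε' hε' hfR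
    by_contra h1
    have h2 := (s.av j f hf).2 (ne_one h1)
    have h3 := hRc _ (hRg _ hj) _ hfR
    have h4 : (g * z j * g⁻¹) * (f * ε') * (g * z j * g⁻¹)⁻¹ = f * z j * ε' := by
      have e1 : (g * z j * g⁻¹) * (f * ε') * (g * z j * g⁻¹)⁻¹ =
          ((g * z j * g⁻¹) * f * (g * z j * g⁻¹)⁻¹) * ((g * z j * g⁻¹) * ε' * (g * z j * g⁻¹)⁻¹) := by group
      rw [e1, h2, ← hε', mul_inv_cancel_right]
    rw [h3, mul_inv_cancel_right] at h4
    have h5 : f = f * z j := mul_right_cancel h4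
    exact s.z_ne_one j (mul_eq_left.1 h5.symm)
  -- `y ∈ Y1`
  have hyY : ∀ i, B (z i) y = 1 := by
    intro i
    by_contra h1
    have h2 := (s.av i y hyU).2 (ne_one h1)
    have h3 := haR i _ hyR
    have h4 : (g * z i * g⁻¹) * (y * ε) * (g * z i * g⁻¹)⁻¹ = z i * (y * ε) := by
      have e1 : (g * z i * g⁻¹) * (y * ε) * (g * z i * g⁻¹)⁻¹ =
          ((g * z i * g⁻¹) * y * (g * z i * g⁻¹)⁻¹) * ((g * z i * g⁻¹) * ε * (g * z i * g⁻¹)⁻¹) := by group
      rw [e1, h2, ← hεa i, mul_inv_cancel_right, s.comm y hyU _ (s.zU i), mul_assoc]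
    rw [h4] at h3
    have h5 : z i ∈ R := by
      have := R.mul_mem h3 (R.inv_mem hyR)
      rwa [mul_inv_cancel_right] at this
    exact h1 (hzR i h5 y hyU ε (hεa i) hyR)
  obtain ⟨j, hj⟩ := s.exists_j (s.Y_le_T hyU hyY) hyT
  -- `z_j ∈ R`
  have hzjR : z j ∈ R := by
    have h1 : g * (y * ε) * g⁻¹ ∈ R := hRg _ hyR
    have h2 : g * (y * ε) * g⁻¹ = (g * y * g⁻¹) * ε := by
      have e1 : g * (y * ε) * g⁻¹ = (g * y * g⁻¹) * (g * ε * g⁻¹) := by group
      rw [e1, hεg']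
    rw [h2] at h1
    have h3 := hUR _ (s.wU j) _ h1
    have h4 : w j * ((g * y * g⁻¹) * ε) * (w j)⁻¹ = z j * ((g * y * g⁻¹) * ε) := by
      have h5 : (g * y * g⁻¹) * w j = w j * z j * (g * y * g⁻¹) := mul_inv_eq_iff_eq_mul.1 hj
      have hw1 : (w j)⁻¹ = w j := s.toForm0.inv (s.wU j)
      calc w j * ((g * y * g⁻¹) * ε) * (w j)⁻¹ = w j * (g * y * g⁻¹) * (ε * w j) := by rw [hw1]; group
        _ = w j * ((g * y * g⁻¹) * w j) * ε := by rw [hεU _ (s.wU j)]; group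
        _ = w j * (w j * z j * (g * y * g⁻¹)) * ε := by rw [h5]
        _ = (w j * w j) * z j * (g * y * g⁻¹) * ε := by group
        _ = _ := by rw [s.sq _ (s.wU j), one_mul, mul_assoc]
    rw [h4] at h3
    have := R.mul_mem h3 (R.inv_mem h1)
    rwa [mul_inv_cancel_right] at this
  have hRY : ∀ f ∈ U, f ∈ R → B (z j) f = 1 := fun f hf hfR =>
    hzR j hzjR f hf 1 (by rw [one_mul, mul_one]) (by rwa [mul_one])
  -- `z_j = x_j`
  have F := s.toForm0.comp (s.zP j)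
  have hXP : X j ∈ PP := Form0.comp_sub (s.zP j) (hXC j)
  have hXU := s.sub _ hXP
  have hBp : ∀ q ∈ Comp PP B (z j), B q (LP X) = B q (X j) := by
    intro q hq
    have hqU := s.sub q (Form0.comp_sub (s.zP j) hq)
    rw [s.B_LP hqU X fun i => s.sub _ (Form0.comp_sub (s.zP i) (hXC i))]
    refine Finset.prod_eq_single j (fun i _ hij => ?_) fun h => absurd (Finset.mem_univ j) h
    refine s.toForm0.perp (s.zP j) hq (Form0.comp_sub (s.zP i) (hXC i)) fun h4 => ?_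
    exact s.notComp hij (Form0.comp_trans h4 (s.toForm0.comp_symm (hXC i)))
  have key : ∀ q ∈ Comp PP B (z j), B (X j) q = 1 → B (z j) q = 1 := by
    intro q hq hq1
    have hqP := Form0.comp_sub (s.zP j) hq
    have hqU := s.sub q hqP
    by_contra h1
    have h1 := ne_one h1
    obtain ⟨t, ht, _, ht'⟩ := s.tv q hqP
    have h2 : t * (h * LP z * h⁻¹) = (h * LP z * h⁻¹) * t := by
      refine mul_inv_eq_iff_eq_mul.1 ((ht' _ hpU).1 ?_)
      rw [hpe, hBp q hq, s.symm q hqU _ hXU]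
      exact hq1
    have h3 := hRH t ht h2 _ hzjR
    rw [(ht' _ (s.zU j)).2 (by rw [s.symm q hqU _ (s.zU j)]; exact h1)] at h3
    have h4 : q ∈ R := by
      have := R.mul_mem (R.inv_mem hzjR) h3
      rwa [inv_mul_cancel_left] at this
    rw [hRY q hqU h4] at h1
    exact neg_ne h1.symm
  have hzX : z j = X j := by
    have hF := F.rad_or' (hXC j) (subset_closure (Form0.comp_self _)) key
    rcases hF with h1 | h1
    · exfalso
      have := h1 _ (subset_closure (s.w_comp j))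
      rw [s.z_w_self] at this
      exact neg_ne this
    · refine s.ppr _ (s.zP j) _ hXP (s.toForm0.rad_of_pts (U.mul_mem (s.zU j) hXU) fun r hr => ?_)
      by_cases h2 : r ∈ Comp PP B (z j)
      · exact h1 r (subset_closure h2)
      · rw [s.toForm0.mul_left (s.zU j) hXU (s.sub r hr), s.toForm0.perp (s.zP _) (Form0.comp_self _) hr h2,
          s.toForm0.perp (s.zP _) (hXC j) hr h2, one_mul]
  exact s.zT j (by rw [hzX]; exact hXT j)

/-- **(10')** : contradiction -/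
theorem false : False := by
  obtain ⟨q, hq, hqY, x, hx, hqx⟩ := s.exists_pt
  obtain ⟨t, htH, htt, ht⟩ := s.tv q hq
  obtain ⟨h, hh, hhe, hS⟩ := s.syl t htH (s.tv_K hq hqY ht) htt
  obtain ⟨σ, hσ⟩ := s.perm hh hhe
  have hq1 := s.nP h hh q hq
  have hq1U := s.sub _ hq1
  have hqU := s.sub q hq
  have hq1Y : ∀ i, B (z i) (h * q * h⁻¹) = 1 := by
    intro i
    obtain ⟨j, rfl⟩ := σ.surjective i
    rw [← hσ j, s.isom h hh _ (s.zU j) _ hqU]
    exact hqY j
  have hx1 : h * x * h⁻¹ ∈ W := s.WK h hh hhe x hx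
  have hB1 : B (h * q * h⁻¹) (h * x * h⁻¹) = -1 := by rw [s.isom h hh q hqU x (s.WU hx)]; exact hqx
  -- some `τ ∈ T` is not perpendicular to `q1`
  obtain ⟨τ, hτ, hτ1⟩ : ∃ τ ∈ T, B (h * q * h⁻¹) τ = -1 := by
    by_contra hcon
    push Not at hcon
    have h1 := (s.toForm0.eq_one_of_closure (A := Set.range z ∪ (T : Set G)) (u := h * q * h⁻¹) (by
      rintro a (⟨i, rfl⟩ | ha)
      · exact s.zU i
      · exact (s.TU a ha).1) hq1U (by
      rintro a (⟨i, rfl⟩ | ha)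
      · rw [s.symm _ hq1U _ (s.zU i)]; exact hq1Y i
      · exact ne_neg (hcon a ha)) (s.eight hx1)).2
    rw [h1] at hB1
    exact neg_ne hB1.symm
  have h2 := s.ST _ hS τ hτ
  -- `h t h⁻¹` acts as the transvection at `q1`
  have hτU := (s.TU τ hτ).1
  have h3 : (h * t * h⁻¹) * τ * (h * t * h⁻¹)⁻¹ = τ * (h * q * h⁻¹) := by
    have hτ' : h⁻¹ * τ * h ∈ U := by
      have := s.nU _ (H.inv_mem hh) τ hτU
      rwa [inv_inv] at this
    have h4 : B q (h⁻¹ * τ * h) = -1 := by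
      rw [← s.isom h hh q hqU _ hτ']
      have e1 : h * (h⁻¹ * τ * h) * h⁻¹ = τ := by group
      rw [e1]
      exact hτ1
    have h5 := (ht _ hτ').2 h4
    have e1 : (h * t * h⁻¹) * τ * (h * t * h⁻¹)⁻¹ = h * (t * (h⁻¹ * τ * h) * t⁻¹) * h⁻¹ := by group
    rw [e1, h5]
    group
  rw [h3] at h2
  have h4 : h * q * h⁻¹ ∈ T := by
    have := T.mul_mem (T.inv_mem hτ) h2
    rwa [inv_mul_cancel_left] at this
  exact s.nine hq1 h4

end End

end Cfsg.Agent.Omega.NOThreeL.RTools.Many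

end
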