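import Cfsg.Agent.Mrg.Omega.NOThreeL.Basic
import Mathlib

section


/-!
# NO-3L, box R, case (A), `q = 2`, `k = 1` (#17122, helper858): the frame hypotheses

`HypA S P H e a` : `P ∈ P*(S)`, `H` long and minimal with `[V_P, U_H] ≠ 1`, `V_P = {1, e, a, ea} × C_Z(P)` with
`P` transitive on `{e, a, ea}`, `e ∈ Z`.
`SpA` : moreover all `V_P^k`, `k ∈ H ∩ C(e)`, have the same axis `C_{U_H}(V_P)` (the symplectic case, `|Φ_e| = 2`).
-/

set_option autoImplicit false

namespace Cfsg.Agent.Omega.NOThreeL.RTools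

open Subgroup Cfsg Cfsg.Agent.ZN Cfsg.Agent.Omega.MinPar
open Cfsg.Agent.Omega.Node.NO3L Cfsg.Agent.Omega.NOThreeL.Basic
open scoped Pointwise

universe u

variable {G : Type u} [Group G]

/-- The frame hypotheses of `R ∩ (A)`, `q = 2`, one natural factor. -/
structure HypA [Finite G] (S : Sylow 2 G) (P H : Subgroup G) (e a : G) : Prop where
  hc : IsCharacteristicTwoType G
  data : Data (S : Subgroup G)
  par : IsParS (S : Subgroup G) P
  long : IsLong (S : Subgroup G) H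
  ne : ¬ zl (S : Subgroup G) P ≤ centralizer (zl (S : Subgroup G) H : Set G)
  min : ∀ H₁ : Subgroup G, IsLong (S : Subgroup G) H₁ → H₁ ≤ H → H₁ ≠ H →
    zl (S : Subgroup G) P ≤ centralizer (zl (S : Subgroup G) H₁ : Set G)
  eZ : e ∈ zc (S : Subgroup G)
  e1 : e ≠ 1
  aV : a ∈ zl (S : Subgroup G) P
  /-- `V_P = {1, e, a, ea} C_Z(P)` -/
  cov : ∀ v ∈ zl (S : Subgroup G) P, ∃ x, (x = 1 ∨ x = e ∨ x = a ∨ x = e * a) ∧
    ∃ ε ∈ zc (S : Subgroup G) ⊓ centralizer (P : Set G), v = x * ε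
  /-- `P` normalises `{1, e, a, ea}` -/
  inve : ∀ p ∈ P, p * e * p⁻¹ = e ∨ p * e * p⁻¹ = a ∨ p * e * p⁻¹ = e * a
  inva : ∀ p ∈ P, p * a * p⁻¹ = e ∨ p * a * p⁻¹ = a ∨ p * a * p⁻¹ = e * a
  tr : ∃ p ∈ P, p * e * p⁻¹ = a

/-- The symplectic case. -/
structure SpA [Finite G] (S : Sylow 2 G) (P H : Subgroup G) (e a : G) : Prop extends HypA S P H e a where
  axis : ∀ k ∈ H, k * e * k⁻¹ = e →
    MulAut.conj k • (zl (S : Subgroup G) H ⊓ centralizer (zl (S : Subgroup G) P : Set G)) =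
      zl (S : Subgroup G) H ⊓ centralizer (zl (S : Subgroup G) P : Set G)

/-- The points `e^H`. -/
def PPt (H : Subgroup G) (e : G) : Set G := {x | ∃ h ∈ H, x = h * e * h⁻¹}

/-- `U# = ⟨e^H⟩`. -/
def Ush (H : Subgroup G) (e : G) : Subgroup G := closure (PPt H e)

end Cfsg.Agent.Omega.NOThreeL.RTools

end

section


/-!
# NO-3L, box R, `q = 2`, `k = 1`: the symplectic form (#17122 (3)(a)-(d'), (6), (7), (10)), pure algebra

`U` an elementary abelian 2-subgroup, `PP ⊆ U` a generating set of points, `B : G → G → ℤˣ` an alternating form on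
`U` such that `p * p' ∈ PP` for non-perpendicular `p, p' ∈ PP` and the graph "not perpendicular" on `PP` is
connected.

* `Form.mem_closure` : (b) `e^⊥` is generated by `PP ∩ e^⊥`;
* `Form.rad_or` : a vector perpendicular to `e^⊥` is in `⟨e⟩ Rad`;
* `Form.iso_le` : (d') a totally isotropic subgroup of `e^⊥` which absorbs the points of `e^⊥` is in `⟨e⟩ Rad`;
* `Form.full` : (7) a subgroup of `e^⊥` generated by points, absorbing the points of `e^⊥`, not totally isotropic,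
  is `e^⊥`;
* `Form.perp_of_T` : (10) if `e^⊥ = ⟨e⟩T` and `T` contains no point then the points of `e^⊥` are perpendicular;
* `Form.absurd'` : the end.
-/

set_option autoImplicit false

namespace Cfsg.Agent.Omega.NOThreeL.RTools.Symp

open Subgroup

variable {G : Type*} [Group G]

theorem units_mul_self (a : ℤˣ) : a * a = 1 := by
  rcases Int.units_eq_one_or a with h | h <;> simp [h]

/-- An alternating form with a connected set of points. -/
structure Form (U : Subgroup G) (PP : Set G) (B : G → G → ℤˣ) : Prop where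
  sq : ∀ u ∈ U, u * u = 1
  comm : ∀ u ∈ U, ∀ v ∈ U, u * v = v * u
  sub : ∀ p ∈ PP, p ∈ U
  gen : U ≤ closure PP
  mul : ∀ u ∈ U, ∀ v ∈ U, ∀ v' ∈ U, B u (v * v') = B u v * B u v'
  symm : ∀ u ∈ U, ∀ v ∈ U, B u v = B v u
  self : ∀ u ∈ U, B u u = 1
  tr : ∀ p ∈ PP, ∀ p' ∈ PP, B p p' = -1 → p * p' ∈ PP
  conn : ∀ A : Set G, A ⊆ PP → A.Nonempty → (∀ p ∈ A, ∀ p' ∈ PP, B p p' = -1 → p' ∈ A) → A = PP

namespace Form

variable {U : Subgroup G} {PP : Set G} {B : G → G → ℤˣ} (F : Form U PP B)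
include F

theorem inv {u : G} (hu : u ∈ U) : u⁻¹ = u := inv_eq_of_mul_eq_one_left (F.sq u hu)

theorem one_right {u : G} (hu : u ∈ U) : B u 1 = 1 := by
  have h := F.mul u hu 1 U.one_mem 1 U.one_mem
  rw [mul_one, units_mul_self] at h
  exact h

theorem one_left {u : G} (hu : u ∈ U) : B 1 u = 1 := by
  rw [F.symm 1 U.one_mem u hu, F.one_right hu]

theorem mul_left {u v w : G} (hu : u ∈ U) (hv : v ∈ U) (hw : w ∈ U) : B (u * v) w = B u w * B v w := by
  rw [F.symm _ (U.mul_mem hu hv) w hw, F.mul w hw u hu v hv, F.symm w hw u hu, F.symm w hw v hv]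

theorem inv_right {u v : G} (hv : v ∈ U) : B u v⁻¹ = B u v := by rw [F.inv hv]

omit F in
theorem ne_of {a : ℤˣ} (h : ¬ a = 1) : a = -1 := (Int.units_eq_one_or a).resolve_left h

/-- a condition `B u = 1` on generators extends -/
theorem eq_one_of_closure {A : Set G} (hA : ∀ a ∈ A, a ∈ U) {u : G} (hu : u ∈ U) (h : ∀ a ∈ A, B u a = 1) {x : G}
    (hx : x ∈ closure A) : x ∈ U ∧ B u x = 1 := by
  refine closure_induction (p := fun x _ => x ∈ U ∧ B u x = 1) ?_ ?_ ?_ ?_ hx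
  · exact fun a ha => ⟨hA a ha, h a ha⟩
  · exact ⟨U.one_mem, F.one_right hu⟩
  · rintro x y _ _ ⟨hx, h1⟩ ⟨hy, h2⟩
    exact ⟨U.mul_mem hx hy, by rw [F.mul u hu x hx y hy, h1, h2, mul_one]⟩
  · rintro x _ ⟨hx, h1⟩
    exact ⟨U.inv_mem hx, by rw [F.inv_right hx, h1]⟩

/-- (b): `e^⊥` is generated by the points in it. -/
theorem mem_closure {e : G} (he : e ∈ PP) {u : G} (hu : u ∈ U) (h : B e u = 1) :
    u ∈ closure {p | p ∈ PP ∧ B e p = 1} := by
  have heU := F.sub e he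
  by_cases hex : ∃ p ∈ PP, B e p = -1
  · obtain ⟨p, hp, hp1⟩ := hex
    have hpU := F.sub p hp
    have heL : e ∈ closure {p | p ∈ PP ∧ B e p = 1} := subset_closure ⟨he, F.self e heU⟩
    -- the claim for two points
    have key : ∀ x ∈ PP, B e x = -1 → x * p ∈ closure {p | p ∈ PP ∧ B e p = 1} := by
      intro x hx hx1
      have hxU := F.sub x hx
      by_cases hxp : B x p = 1
      · have h1 : B x e = -1 := by rw [F.symm x hxU e heU, hx1]
        have h2 : x * e ∈ PP := F.tr x hx e he h1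
        have h3 : B (x * e) p = -1 := by rw [F.mul_left hxU heU hpU, hxp, hp1, one_mul]
        have h4 : x * e * p ∈ PP := F.tr _ h2 p hp h3
        have h5 : B e (x * e * p) = 1 := by
          rw [F.mul e heU _ (U.mul_mem hxU heU) p hpU, F.mul e heU x hxU e heU, hx1, F.self e heU, hp1]
          decide
        have h6 : x * p = x * e * p * e := by
          have : e * p * e = p := by rw [F.comm e heU p hpU, mul_assoc, F.sq e heU, mul_one]
          rw [mul_assoc x e p, mul_assoc, this]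
        rw [h6]
        exact mul_mem (subset_closure ⟨h4, h5⟩) heL
      · have h1 := ne_of hxp
        exact subset_closure ⟨F.tr x hx p hp h1, by
          rw [F.mul e heU x hxU p hpU, hx1, hp1]; decide⟩
    have main : ∀ x ∈ closure PP, x ∈ U ∧ (B e x = 1 → x ∈ closure {p | p ∈ PP ∧ B e p = 1}) ∧
        (B e x = -1 → x * p ∈ closure {p | p ∈ PP ∧ B e p = 1}) := by
      intro x hx
      refine closure_induction (p := fun x _ => x ∈ U ∧ (B e x = 1 → x ∈ closure {p | p ∈ PP ∧ B e p = 1}) ∧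
        (B e x = -1 → x * p ∈ closure {p | p ∈ PP ∧ B e p = 1})) ?_ ?_ ?_ ?_ hx
      · exact fun x hx => ⟨F.sub x hx, fun h => subset_closure ⟨hx, h⟩, key x hx⟩
      · refine ⟨U.one_mem, fun _ => one_mem _, fun h => ?_⟩
        rw [F.one_right heU] at h
        exact absurd h (by decide)
      · rintro x y _ _ ⟨hx, hx1, hx2⟩ ⟨hy, hy1, hy2⟩
        refine ⟨U.mul_mem hx hy, fun h => ?_, fun h => ?_⟩
        · rw [F.mul e heU x hx y hy] at h
          by_cases h1 : B e x = 1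
          · rw [h1, one_mul] at h
            exact mul_mem (hx1 h1) (hy1 h)
          · have h2 := ne_of h1
            have h3 : B e y = -1 := by
              rw [h2] at h
              rcases Int.units_eq_one_or (B e y) with h4 | h4
              · rw [h4] at h; exact absurd h (by decide)
              · exact h4
            have h5 := mul_mem (hx2 h2) (hy2 h3)
            have h6 : x * p * (y * p) = x * y := by
              rw [F.comm y hy p hpU, mul_assoc x p, ← mul_assoc p p y, F.sq p hpU, one_mul]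
            rwa [h6] at h5
        · rw [F.mul e heU x hx y hy] at h
          by_cases h1 : B e x = 1
          · rw [h1, one_mul] at h
            rw [mul_assoc]
            exact mul_mem (hx1 h1) (hy2 h)
          · have h2 := ne_of h1
            have h3 : B e y = 1 := by
              rw [h2] at h
              rcases Int.units_eq_one_or (B e y) with h4 | h4
              · exact h4
              · rw [h4] at h; exact absurd h (by decide)
            have h5 := mul_mem (hx2 h2) (hy1 h3)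
            have h6 : x * p * y = x * y * p := by
              rw [mul_assoc, F.comm p hpU y hy, mul_assoc]
            rwa [h6] at h5
      · rintro x _ ⟨hx, h⟩
        rw [F.inv hx]
        exact ⟨hx, h⟩
    exact (main u (F.gen hu)).2.1 h
  · push Not at hex
    refine closure_mono (fun p hp => ?_) (F.gen hu)
    refine ⟨hp, ?_⟩
    rcases Int.units_eq_one_or (B e p) with h4 | h4
    · exact h4
    · exact absurd h4 (hex p hp)

/-- `e^{⊥⊥} = ⟨e⟩ Rad`. -/
theorem rad_or {e x : G} (he : e ∈ U) (hx : x ∈ U) (h : ∀ y ∈ U, B e y = 1 → B x y = 1) :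
    (∀ y ∈ U, B x y = 1) ∨ ∀ y ∈ U, B (x * e) y = 1 := by
  by_cases h0 : ∀ y ∈ U, B x y = 1
  · exact Or.inl h0
  · right
    push Not at h0
    obtain ⟨y0, hy0, h1⟩ := h0
    have h1 := ne_of h1
    have h2 : B e y0 = -1 := ne_of fun h3 => by
      rw [h y0 hy0 h3] at h1
      exact absurd h1 (by decide)
    intro y hy
    rw [F.mul_left hx he hy]
    by_cases h3 : B e y = 1
    · rw [h3, h y hy h3, one_mul]
    · have h3 := ne_of h3
      have h4 := h (y * y0) (U.mul_mem hy hy0) (by rw [F.mul e he y hy y0 hy0, h3, h2]; decide)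
      rw [F.mul x hx y hy y0 hy0, h1] at h4
      have h5 : B x y = -1 := ne_of fun h6 => by rw [h6] at h4; exact absurd h4 (by decide)
      rw [h5, h3]
      decide

/-- points of `e^⊥` perpendicular to `x` ⟹ `x ∈ ⟨e⟩ Rad`. -/
theorem rad_or' {e x : G} (he : e ∈ PP) (hx : x ∈ U) (h : ∀ p ∈ PP, B e p = 1 → B x p = 1) :
    (∀ y ∈ U, B x y = 1) ∨ ∀ y ∈ U, B (x * e) y = 1 :=
  F.rad_or (F.sub e he) hx fun y hy h1 =>
    (F.eq_one_of_closure (A := {p | p ∈ PP ∧ B e p = 1}) (fun a ha => F.sub a ha.1) hx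
      (fun a ha => h a ha.1 ha.2) (F.mem_closure he hy h1)).2

/-- (d') -/
theorem iso_le {e : G} (he : e ∈ PP) {A : Subgroup G} (hA : ∀ a ∈ A, a ∈ U)
    (habs : ∀ p ∈ PP, B e p = 1 → (∃ a ∈ A, B p a = -1) → p ∈ A) (hiso : ∀ a ∈ A, ∀ b ∈ A, B a b = 1)
    {a : G} (ha : a ∈ A) : (∀ y ∈ U, B a y = 1) ∨ ∀ y ∈ U, B (a * e) y = 1 := by
  refine F.rad_or' he (hA a ha) fun p hp h1 => ?_
  by_contra h2
  have h3 : B p a = -1 := by rw [F.symm p (F.sub p hp) a (hA a ha)]; exact ne_of h2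
  have h4 := hiso p (habs p hp h1 ⟨a, ha, h3⟩) a ha
  rw [h3] at h4
  exact absurd h4 (by decide)

/-- (7) -/
theorem full {e : G} (he : e ∈ PP) (hc : ∀ p ∈ PP, (∀ y ∈ U, B (p * e) y = 1) → p = e) {B0 : Subgroup G}
    (heB : e ∈ B0) (hB : ∀ b ∈ B0, b ∈ U ∧ B e b = 1) (hgen : B0 ≤ closure {p | p ∈ PP ∧ p ∈ B0})
    (habs : ∀ p ∈ PP, B e p = 1 → (∃ a ∈ B0, B p a = -1) → p ∈ B0) (hnot : ∃ x ∈ B0, ∃ y ∈ B0, B x y = -1)
    {u : G} (hu : u ∈ U) (h : B e u = 1) : u ∈ B0 := by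
  have heU := F.sub e he
  -- a point of `B0` not perpendicular to `B0`
  obtain ⟨x1, hx1, hx1B, b1, hb1, hxb⟩ : ∃ x ∈ PP, x ∈ B0 ∧ ∃ b ∈ B0, B x b = -1 := by
    by_contra hcon
    push Not at hcon
    obtain ⟨x, hx, y, hy, hxy⟩ := hnot
    have h1 := (F.eq_one_of_closure (A := {p | p ∈ PP ∧ p ∈ B0}) (fun a ha => F.sub a ha.1) (hB y hy).1
      (fun a ha => by
        rcases Int.units_eq_one_or (B a y) with h4 | h4
        · rw [F.symm y (hB y hy).1 a (F.sub a ha.1)]; exact h4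
        · exact absurd h4 (hcon a ha.1 ha.2 y hy)) (hgen hx)).2
    rw [F.symm y (hB y hy).1 x (hB x hx).1, hxy] at h1
    exact absurd h1 (by decide)
  -- no point is in the radical
  have hrad : ∀ p ∈ PP, ¬ ∀ y ∈ U, B p y = 1 := by
    intro p hp hr
    have h1 : ({p} : Set G) = PP := F.conn {p} (by rintro _ rfl; exact hp) ⟨p, rfl⟩ (by
      rintro _ rfl p' hp' h2
      rw [hr p' (F.sub p' hp')] at h2
      exact absurd h2 (by decide))
    have h2 : x1 = p := by
      have : x1 ∈ ({p} : Set G) := h1 ▸ hx1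
      exact this
    rw [h2, hr b1 (hB b1 hb1).1] at hxb
    exact absurd hxb (by decide)
  -- `B0 ∩ B0^⊥`
  have hBB : ∀ y ∈ PP, y ∈ B0 → (∀ b ∈ B0, B y b = 1) → y = e := by
    intro y hy hyB h1
    rcases F.rad_or' he (F.sub y hy) (fun p hp hp1 => by
      by_cases h2 : ∃ b ∈ B0, B p b = -1
      · exact h1 p (habs p hp hp1 h2)
      · push Not at h2
        rw [F.symm y (F.sub y hy) p (F.sub p hp)]
        rcases Int.units_eq_one_or (B p y) with h4 | h4
        · exact h4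
        · exact absurd h4 (h2 y hyB)) with h2 | h2
    · exact absurd h2 (hrad y hy)
    · exact hc y hy h2
  -- the claim `P2 = {e}`
  have hP2 : ∀ y ∈ PP, B e y = 1 → (∀ b ∈ B0, B y b = 1) → y = e := by
    intro y0 hy0 hey0 hy0B
    by_contra hne0
    -- (8a)
    have h8a : ∀ w ∈ PP, B e w = -1 → ∀ x ∈ PP, x ∈ B0 → (∃ b ∈ B0, B x b = -1) → B w x = -1 →
        ∀ y ∈ PP, B e y = 1 → (∀ b ∈ B0, B y b = 1) → y ≠ e → B w y = 1 := by
      intro w hw hew x hx hxB hxb' hwx y hy hey hyB hye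
      by_contra hwy
      have hwy := ne_of hwy
      obtain ⟨b, hb, hxb⟩ := hxb'
      have hwU := F.sub w hw
      have hxU := F.sub x hx
      have hyU := F.sub y hy
      have hex : B e x = 1 := (hB x hxB).2
      have hyx : B y x = 1 := hyB x hxB
      have hxy : B x y = 1 := by rw [F.symm x hxU y hyU, hyx]
      have q1 : w * x ∈ PP := F.tr w hw x hx hwx
      have q1U := F.sub _ q1
      have q2 : w * x * y ∈ PP := F.tr _ q1 y hy (by rw [F.mul_left hwU hxU hyU, hwy, hxy, mul_one])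
      have q2U := F.sub _ q2
      have q3 : w * x * y * e ∈ PP := F.tr _ q2 e he (by
        rw [F.mul_left q1U hyU heU, F.mul_left hwU hxU heU, F.symm w hwU e heU, F.symm x hxU e heU,
          F.symm y hyU e heU, hew, hex, hey]
        decide)
      have q3U := F.sub _ q3
      have q4 : w * x * y * e * w ∈ PP := F.tr _ q3 w hw (by
        rw [F.mul_left q2U heU hwU, F.mul_left q1U hyU hwU, F.mul_left hwU hxU hwU, F.self w hwU,
          F.symm x hxU w hwU, F.symm y hyU w hwU, hwx, hwy, hew]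
        decide)
      have q5 : w * x * y * e * w = x * y * e := by
        have h1 : w * x * y * e = w * (x * y * e) := by group
        rw [h1, F.comm w hwU _ (U.mul_mem (U.mul_mem hxU hyU) heU), mul_assoc, F.sq w hwU, mul_one]
      rw [q5] at q4
      have hxyU : x * y ∈ U := U.mul_mem hxU hyU
      have q6 : B e (x * y * e) = 1 := by
        rw [F.mul e heU _ hxyU e heU, F.mul e heU x hxU y hyU, hex, hey, F.self e heU]
        decide
      have hbU := (hB b hb).1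
      have q7 : B (x * y * e) b = -1 := by
        rw [F.mul_left hxyU heU hbU, F.mul_left hxU hyU hbU, hxb, hyB b hb, (hB b hb).2]
        decide
      have q8 : x * y * e ∈ B0 := habs _ q4 q6 ⟨b, hb, q7⟩
      have q9 : y ∈ B0 := by
        have h1 : y = x⁻¹ * (x * y * e) * e⁻¹ := by group
        rw [h1]
        exact mul_mem (mul_mem (inv_mem hxB) q8) (inv_mem heB)
      exact hye (hBB y hy q9 hyB)
    -- (8b)
    obtain ⟨w1, hw1, hew1, x, hx, hxB, hxb', hw1x⟩ : ∃ w ∈ PP, B e w = -1 ∧ ∃ x ∈ PP, x ∈ B0 ∧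
        (∃ b ∈ B0, B x b = -1) ∧ B w x = -1 := by
      by_contra hcon
      push Not at hcon
      have h1 := F.conn {x | x ∈ PP ∧ x ∈ B0 ∧ ∃ b ∈ B0, B x b = -1} (fun x hx => hx.1)
        ⟨x1, hx1, hx1B, b1, hb1, hxb⟩ (by
          rintro p ⟨hp, hpB, hpb⟩ p' hp' h2
          have hep' : B e p' = 1 := by
            rcases Int.units_eq_one_or (B e p') with h4 | h4
            · exact h4
            · exact absurd (by rw [F.symm p' (F.sub p' hp') p (F.sub p hp), h2])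
                (hcon p' hp' h4 p hp hpB hpb)
          have h3 : ∃ b ∈ B0, B p' b = -1 := ⟨p, hpB, by rw [F.symm p' (F.sub p' hp') p (F.sub p hp), h2]⟩
          exact ⟨hp', habs p' hp' hep' h3, h3⟩)
      have h2 : e ∈ {x | x ∈ PP ∧ x ∈ B0 ∧ ∃ b ∈ B0, B x b = -1} := by rw [h1]; exact he
      obtain ⟨_, _, b, hb, h3⟩ := h2
      rw [(hB b hb).2] at h3
      exact absurd h3 (by decide)
    obtain ⟨w2, hw2, hew2, y, hy, hey, hyB, hye, hw2y⟩ : ∃ w ∈ PP, B e w = -1 ∧ ∃ y ∈ PP, B e y = 1 ∧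
        (∀ b ∈ B0, B y b = 1) ∧ y ≠ e ∧ B w y = -1 := by
      by_contra hcon
      push Not at hcon
      have h1 := F.conn {y | y ∈ PP ∧ B e y = 1 ∧ (∀ b ∈ B0, B y b = 1) ∧ y ≠ e} (fun x hx => hx.1)
        ⟨y0, hy0, hey0, hy0B, hne0⟩ (by
          rintro p ⟨hp, hep, hpb, hpe⟩ p' hp' h2
          have hep' : B e p' = 1 := by
            rcases Int.units_eq_one_or (B e p') with h4 | h4
            · exact h4
            · exact absurd (by rw [F.symm p' (F.sub p' hp') p (F.sub p hp), h2])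
                (hcon p' hp' h4 p hp hep hpb hpe)
          refine ⟨hp', hep', fun b hb => ?_, ?_⟩
          · by_contra h3
            have h4 := hpb p' (habs p' hp' hep' ⟨b, hb, ne_of h3⟩)
            rw [h2] at h4
            exact absurd h4 (by decide)
          · rintro rfl
            rw [F.symm p (F.sub p hp) p' heU, hep] at h2
            exact absurd h2 (by decide))
      have h2 : e ∈ {y | y ∈ PP ∧ B e y = 1 ∧ (∀ b ∈ B0, B y b = 1) ∧ y ≠ e} := by rw [h1]; exact he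
      exact h2.2.2.2 rfl
    have hw1U := F.sub w1 hw1
    have hw2U := F.sub w2 hw2
    have hxU := F.sub x hx
    have hyU := F.sub y hy
    have hw1y : B w1 y = 1 := h8a w1 hw1 hew1 x hx hxB hxb' hw1x y hy hey hyB hye
    have hw2x : B w2 x = 1 := by
      by_contra h1
      have h2 := h8a w2 hw2 hew2 x hx hxB hxb' (ne_of h1) y hy hey hyB hye
      rw [h2] at hw2y
      exact absurd hw2y (by decide)
    -- a point of `e^⊥` not perpendicular to `x` and `y`
    obtain ⟨q, hq, heq, hqx, hqy⟩ : ∃ q ∈ PP, B e q = 1 ∧ B q x = -1 ∧ B q y = -1 := by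
      by_cases h12 : B w1 w2 = 1
      · have h1 : w2 * e ∈ PP := F.tr w2 hw2 e he (by rw [F.symm w2 hw2U e heU, hew2])
        have h1U := F.sub _ h1
        have h2 : w1 * (w2 * e) ∈ PP := F.tr w1 hw1 _ h1 (by
          rw [F.mul w1 hw1U w2 hw2U e heU, h12, F.symm w1 hw1U e heU, hew1, one_mul])
        refine ⟨_, h2, ?_, ?_, ?_⟩
        · rw [F.mul e heU w1 hw1U _ h1U, F.mul e heU w2 hw2U e heU, hew1, hew2, F.self e heU]
          decide
        · rw [F.mul_left hw1U h1U hxU, F.mul_left hw2U heU hxU, hw1x, hw2x, (hB x hxB).2]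
          decide
        · rw [F.mul_left hw1U h1U hyU, F.mul_left hw2U heU hyU, hw1y, hw2y, hey]
          decide
      · refine ⟨_, F.tr w1 hw1 w2 hw2 (ne_of h12), ?_, ?_, ?_⟩
        · rw [F.mul e heU w1 hw1U w2 hw2U, hew1, hew2]
          decide
        · rw [F.mul_left hw1U hw2U hxU, hw1x, hw2x]
          decide
        · rw [F.mul_left hw1U hw2U hyU, hw1y, hw2y]
          decide
    have hqB : q ∈ B0 := habs q hq heq ⟨x, hxB, hqx⟩
    have h1 := hyB q hqB
    rw [F.symm y hyU q (F.sub q hq), hqy] at h1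
    exact absurd h1 (by decide)
  -- the end
  refine (closure_le (K := B0)).2 ?_ (F.mem_closure he hu h)
  rintro p ⟨hp, hp1⟩
  by_cases h1 : ∃ b ∈ B0, B p b = -1
  · exact habs p hp hp1 h1
  · push Not at h1
    have h2 := hP2 p hp hp1 fun b hb => by
      rcases Int.units_eq_one_or (B p b) with h4 | h4
      · exact h4
      · exact absurd h4 (h1 b hb)
    rw [h2]
    exact heB

/-- (10): if `e^⊥ = T ∪ Te` and `T` contains no point then the points of `e^⊥` are perpendicular. -/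
theorem perp_of_T {e : G} (he : e ∈ PP) {T : Subgroup G} (hT : ∀ p ∈ PP, p ∉ T)
    (hTe : ∀ y ∈ U, B e y = 1 → y ∈ T ∨ y * e ∈ T) {p p' : G} (hp : p ∈ PP) (hp' : p' ∈ PP)
    (h1 : B e p = 1) (h2 : B e p' = 1) : B p p' = 1 := by
  by_contra h3
  have heU := F.sub e he
  have hpU := F.sub p hp
  have hpU' := F.sub p' hp'
  have h4 := (hTe p hpU h1).resolve_left (hT p hp)
  have h5 := (hTe p' hpU' h2).resolve_left (hT p' hp')
  have h6 : p * e * (p' * e) = p * p' := by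
    rw [F.comm p' hpU' e heU, mul_assoc p e, ← mul_assoc e e p', F.sq e heU, one_mul]
  have h7 := mul_mem h4 h5
  rw [h6] at h7
  exact hT _ (F.tr p hp p' hp' (ne_of h3)) h7

/-- **The end of the symplectic case**: (6), (7), (8), (10). -/
theorem absurd' {e : G} (he : e ∈ PP) (hc : ∀ p ∈ PP, (∀ y ∈ U, B (p * e) y = 1) → p = e) {B0 : Subgroup G}
    (heB : e ∈ B0) (hB : ∀ b ∈ B0, b ∈ U ∧ B e b = 1) (hgen : B0 ≤ closure {p | p ∈ PP ∧ p ∈ B0})
    (habs : ∀ p ∈ PP, B e p = 1 → (∃ a ∈ B0, B p a = -1) → p ∈ B0) (hne : ∃ p ∈ PP, p ∈ B0 ∧ p ≠ e)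
    {T : Subgroup G} (hT : ∀ p ∈ PP, p ∉ T)
    (hTe : (∀ y ∈ U, B e y = 1 → y ∈ B0) → ∀ y ∈ U, B e y = 1 → y ∈ T ∨ y * e ∈ T) : False := by
  have heU := F.sub e he
  -- `B0` is not totally isotropic
  have hnot : ∃ x ∈ B0, ∃ y ∈ B0, B x y = -1 := by
    by_contra hcon
    push Not at hcon
    obtain ⟨p, hp, hpB, hpe⟩ := hne
    have hiso : ∀ a ∈ B0, ∀ b ∈ B0, B a b = 1 := fun a ha b hb => by
      rcases Int.units_eq_one_or (B a b) with h4 | h4
      · exact h4
      · exact absurd h4 (hcon a ha b hb)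
    rcases F.iso_le he (fun a ha => (hB a ha).1) habs hiso hpB with h1 | h1
    · -- `p` in the radical
      have h2 : ({p} : Set G) = PP := F.conn {p} (by rintro _ rfl; exact hp) ⟨p, rfl⟩ (by
        rintro _ rfl p' hp' h2
        rw [h1 p' (F.sub p' hp')] at h2
        exact absurd h2 (by decide))
      have h3 : e ∈ ({p} : Set G) := h2 ▸ he
      exact hpe h3.symm
    · exact hpe (hc p hp h1)
  have hfull : ∀ y ∈ U, B e y = 1 → y ∈ B0 := fun y hy h1 => F.full he hc heB hB hgen habs hnot hy h1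
  have hperp := fun p hp p' hp' h1 h2 => F.perp_of_T he hT (hTe hfull) (p := p) (p' := p') hp hp' h1 h2
  obtain ⟨x, hx, y, hy, hxy⟩ := hnot
  have hxU := (hB x hx).1
  have hyU := (hB y hy).1
  -- all points of `e^⊥` are perpendicular to `x`
  have h1 : ∀ p ∈ PP, B e p = 1 → B p x = 1 := fun p hp hp1 =>
    (F.eq_one_of_closure (A := {p | p ∈ PP ∧ B e p = 1}) (fun a ha => F.sub a ha.1) (F.sub p hp)
      (fun a ha => hperp p hp a ha.1 hp1 ha.2) (F.mem_closure he hxU (hB x hx).2)).2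
  have h2 := (F.eq_one_of_closure (A := {p | p ∈ PP ∧ B e p = 1}) (fun a ha => F.sub a ha.1) hxU
      (fun a ha => by rw [F.symm x hxU a (F.sub a ha.1)]; exact h1 a ha.1 ha.2)
      (F.mem_closure he hyU (hB y hy).2)).2
  rw [hxy] at h2
  exact absurd h2 (by decide)

end Form

end Cfsg.Agent.Omega.NOThreeL.RTools.Symp

end

section


/-!
# NO-3L, box R, case (A), `q = 2`, `k = 1`, symplectic case (#17122): the configuration

`Cfg` is what L3 (three groups) and L4 (frame facts (0), (5)) give to the glue L5 ((8)-(10), `False`).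

`Us = U#`, `UU = U = U_H`, `V = V'`, `E = C_Z(P')`, `W` the product of the lines (in `H`) on `e`, `T = U_e ∩ U_a`,
`Ya = U_a ∩ C_G(V')`, `u ∈ U_e - Y_e`, `g = u u'` with `e^g = a`, `I` the radical of the form `B`, `PP = e^H`.
`cm a b = a b a⁻¹ b⁻¹`, `B x y = 1` means perpendicular.
-/

set_option autoImplicit false

namespace Cfsg.Agent.Omega.NOThreeL.RTools

open Subgroup

universe u

variable {G : Type u} [Group G]

/-- The commutator `[a, b] = a b a⁻¹ b⁻¹`. -/
def cm (a b : G) : G := a * b * a⁻¹ * b⁻¹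

theorem cm_def (a b : G) : cm a b = a * b * a⁻¹ * b⁻¹ := rfl

theorem cm_mul (y' u : G) : cm y' u * u = y' * u * y'⁻¹ := by rw [cm_def]; group

/-- The configuration of the symplectic case. -/
structure Cfg (Us UU H V E W T Ya I : Subgroup G) (PP : Set G) (B : G → G → ℤˣ) (e a u g : G) : Prop where
  -- the form
  form : Symp.Form Us PP B
  eP : e ∈ PP
  rad : ∀ x, x ∈ I ↔ x ∈ Us ∧ ∀ y ∈ Us, B x y = 1
  -- the action of `H`
  HU : H ≤ normalizer (UU : Set G)
  HUs : H ≤ normalizer (Us : Set G)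
  UsUU : Us ≤ UU
  abU : ∀ x ∈ UU, ∀ y ∈ UU, x * y = y * x
  invB : ∀ h ∈ H, ∀ x ∈ Us, ∀ y ∈ Us, B (h * x * h⁻¹) (h * y * h⁻¹) = B x y
  invP : ∀ h ∈ H, ∀ p ∈ PP, h * p * h⁻¹ ∈ PP
  transP : ∀ p ∈ PP, ∃ h ∈ H, p = h * e * h⁻¹
  /-- (0)(d) -/
  triv : ∀ h ∈ H, (∀ x ∈ Us, cm h x ∈ I) → (∀ x ∈ I, cm h x = 1) → ∀ x ∈ Us, cm h x = 1
  /-- (3)(c) -/
  uniq : ∀ p ∈ PP, (∀ y ∈ Us, B (p * e) y = 1) → p = e
  -- `V`
  VH : V ≤ H
  DH : centralizer (V : Set G) ≤ H
  aV : a ∈ V
  /-- `Y_e = U# ∩ C(V) = e^⊥` -/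
  Ye : ∀ x ∈ Us, x ∈ centralizer (V : Set G) ↔ B e x = 1
  /-- `[V, U] = ⟨e⟩` -/
  VU : ∀ v ∈ V, ∀ f ∈ UU, cm v f = 1 ∨ cm v f = e
  /-- `V = ⟨a⟩ C_V(U)` -/
  aU : ∀ f ∈ UU, a * f = f * a → f ∈ centralizer (V : Set G)
  /-- `C_U(V) = Y_e E` -/
  YE : ∀ y ∈ UU, y ∈ centralizer (V : Set G) → ∃ y1 ∈ Us, B e y1 = 1 ∧ ∃ ε ∈ E, y = y1 * ε
  -- `u`, `g`, `T`, `Ya`
  uU : u ∈ Us
  ue : B e u = -1
  ge : g * e * g⁻¹ = a
  EU : ∀ ε ∈ E, ∀ x ∈ UU, x * ε = ε * x
  Eg : ∀ ε ∈ E, g * ε = ε * g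
  TU : T ≤ Us
  Te : ∀ t ∈ T, B e t = 1
  eT : e ∉ T
  /-- `T` is centralised by `X ∋ g` -/
  Tg : ∀ t ∈ T, g * t = t * g
  TYa : T ≤ Ya
  YaH : Ya ≤ H
  YaV : Ya ≤ centralizer (V : Set G)
  /-- `Ya = (Y_e)^g` -/
  Yag : ∀ y ∈ Us, B e y = 1 → g * y * g⁻¹ ∈ Ya
  Yag' : ∀ y' ∈ Ya, ∃ y ∈ Us, B e y = 1 ∧ y' = g * y * g⁻¹
  /-- `[u, y^g] ∈ y T` -/
  third : ∀ y ∈ Us, B e y = 1 → cm u (g * y * g⁻¹) * y ∈ T
  /-- `[U_e, Y_a] ≤ Y_e` -/
  cmY : ∀ y' ∈ Ya, ∀ x ∈ Us, cm y' x ∈ Us ∧ B e (cm y' x) = 1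
  /-- `y' ↦ [y', u]` is a homomorphism `Y_a → Y_e / T` with kernel `T`, onto -/
  hom : ∀ s ∈ Ya, ∀ t ∈ Ya, ∃ r ∈ T, cm (s * t) u = cm s u * cm t u * r
  ker : ∀ y' ∈ Ya, cm y' u ∈ T → y' ∈ T
  onto : ∀ y ∈ Us, B e y = 1 → ∃ y' ∈ Ya, ∃ s ∈ T, y = cm y' u * s
  /-- `[y', y] = z₀^{([y', u], y)}`, `z₀ = e r` -/
  cases : ∀ y ∈ Us, B e y = 1 → ∀ y' ∈ Ya, (cm y' y = 1 ∧ B (cm y' u) y = 1) ∨
    (cm y' y ∈ T ∧ cm y' y * e ∈ I ∧ B (cm y' u) y = -1)
  /-- `z₀ e = r` is centralised by `H` -/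
  rfix : ∀ x ∈ T, x * e ∈ I → ∀ h ∈ H, h * (x * e) * h⁻¹ = x * e
  -- the lines
  eW : e ∈ W
  WV : W ≤ centralizer (V : Set G)
  invW : ∀ k ∈ H, k * e * k⁻¹ = e → ∀ w ∈ W, k * w * k⁻¹ ∈ W
  /-- (5) -/
  WWg : ∀ w ∈ W, ∀ w' ∈ W, w * (g * w' * g⁻¹) = (g * w' * g⁻¹) * w
  neW : ∃ p ∈ PP, p ∈ W ∧ p ≠ e
  /-- (9), `U_M` for `M = C_G(p)`, `p ∈ PP ∩ T` -/
  UM : ∀ p ∈ PP, p ∈ T → ∃ M : Subgroup G, (∀ x ∈ M, ∀ y ∈ M, x * y = y * x) ∧
    centralizer ({p} : Set G) ≤ normalizer (M : Set G) ∧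
    ∃ z ∈ M, z ∈ UU ∧ ∀ y1 ∈ T, ∀ ε ∈ E, z ≠ y1 * ε

end Cfsg.Agent.Omega.NOThreeL.RTools

end

section


/-!
# NO-3L, box R ∩ (A), `q = 2`, all `k`: the components of the form (#18037 (3), (b), (7)), pure algebra

`Form0` : alternating form on the elementary abelian `U = ⟨PP⟩` with `p p' ∈ PP` for non-perpendicular points
(no connectedness). `Comp PP B p` : the component of `p` for 'not perpendicular'.

* `Form0.comp` : each component is a `Symp.Form` on its span;
* `Form0.diam` : components have diameter 2;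
* `Form0.claim` : the CLAIM of #18037 (3).
-/

set_option autoImplicit false

namespace Cfsg.Agent.Omega.NOThreeL.RTools.Many

open Subgroup Cfsg.Agent.Omega.NOThreeL.RTools.Symp

variable {G : Type*} [Group G]

/-- An alternating form with points. -/
structure Form0 (U : Subgroup G) (PP : Set G) (B : G → G → ℤˣ) : Prop where
  sq : ∀ u ∈ U, u * u = 1
  comm : ∀ u ∈ U, ∀ v ∈ U, u * v = v * u
  sub : ∀ p ∈ PP, p ∈ U
  gen : U ≤ closure PP
  mul : ∀ u ∈ U, ∀ v ∈ U, ∀ v' ∈ U, B u (v * v') = B u v * B u v'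
  symm : ∀ u ∈ U, ∀ v ∈ U, B u v = B v u
  self : ∀ u ∈ U, B u u = 1
  tr : ∀ p ∈ PP, ∀ p' ∈ PP, B p p' = -1 → p * p' ∈ PP

/-- the adjacency 'not perpendicular' on points -/
def Adj (PP : Set G) (B : G → G → ℤˣ) (a b : G) : Prop := a ∈ PP ∧ b ∈ PP ∧ B a b = -1

/-- the component of `p` -/
def Comp (PP : Set G) (B : G → G → ℤˣ) (p : G) : Set G := {q | Relation.ReflTransGen (Adj PP B) p q}

theorem neg_ne : ¬ (-1 : ℤˣ) = 1 := by decide

theorem ne_one {a : ℤˣ} (h : ¬ a = 1) : a = -1 := (Int.units_eq_one_or a).resolve_left h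

theorem ne_neg {a : ℤˣ} (h : ¬ a = -1) : a = 1 := (Int.units_eq_one_or a).resolve_right h

namespace Form0

variable {U : Subgroup G} {PP : Set G} {B : G → G → ℤˣ} (F : Form0 U PP B)
include F

theorem inv {u : G} (hu : u ∈ U) : u⁻¹ = u := inv_eq_of_mul_eq_one_left (F.sq u hu)

theorem one_right {u : G} (hu : u ∈ U) : B u 1 = 1 := by
  have h := F.mul u hu 1 U.one_mem 1 U.one_mem
  rw [mul_one, units_mul_self] at h
  exact h

theorem one_left {u : G} (hu : u ∈ U) : B 1 u = 1 := by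
  rw [F.symm 1 U.one_mem u hu, F.one_right hu]

theorem mul_left {u v w : G} (hu : u ∈ U) (hv : v ∈ U) (hw : w ∈ U) : B (u * v) w = B u w * B v w := by
  rw [F.symm _ (U.mul_mem hu hv) w hw, F.mul w hw u hu v hv, F.symm w hw u hu, F.symm w hw v hv]

theorem inv_right {u v : G} (hv : v ∈ U) : B u v⁻¹ = B u v := by rw [F.inv hv]

/-- a condition `B u = 1` on generators extends -/
theorem eq_one_of_closure {A : Set G} (hA : ∀ a ∈ A, a ∈ U) {u : G} (hu : u ∈ U) (h : ∀ a ∈ A, B u a = 1) {x : G}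
    (hx : x ∈ closure A) : x ∈ U ∧ B u x = 1 := by
  refine closure_induction (p := fun x _ => x ∈ U ∧ B u x = 1) ?_ ?_ ?_ ?_ hx
  · exact fun a ha => ⟨hA a ha, h a ha⟩
  · exact ⟨U.one_mem, F.one_right hu⟩
  · rintro x y _ _ ⟨hx, h1⟩ ⟨hy, h2⟩
    exact ⟨U.mul_mem hx hy, by rw [F.mul u hu x hx y hy, h1, h2, mul_one]⟩
  · rintro x _ ⟨hx, h1⟩
    exact ⟨U.inv_mem hx, by rw [F.inv_right hx, h1]⟩

/-- perpendicular to all points = perpendicular to `U` -/
theorem rad_of_pts {u : G} (hu : u ∈ U) (h : ∀ p ∈ PP, B u p = 1) : ∀ y ∈ U, B u y = 1 := fun _ hy =>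
  (F.eq_one_of_closure F.sub hu h (F.gen hy)).2

theorem adj_symm {a b : G} (h : Adj PP B a b) : Adj PP B b a :=
  ⟨h.2.1, h.1, by rw [F.symm b (F.sub b h.2.1) a (F.sub a h.1)]; exact h.2.2⟩

omit F in
theorem comp_self (p : G) : p ∈ Comp PP B p := Relation.ReflTransGen.refl

omit F in
theorem comp_sub {p q : G} (hp : p ∈ PP) (hq : q ∈ Comp PP B p) : q ∈ PP := by
  induction hq with
  | refl => exact hp
  | tail _ h _ => exact h.2.1

theorem comp_symm {p q : G} (hq : q ∈ Comp PP B p) : p ∈ Comp PP B q := by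
  induction hq with
  | refl => exact Relation.ReflTransGen.refl
  | tail _ h ih => exact Relation.ReflTransGen.head (F.adj_symm h) ih

omit F in
theorem comp_trans {p q r : G} (hq : q ∈ Comp PP B p) (hr : r ∈ Comp PP B q) : r ∈ Comp PP B p :=
  Relation.ReflTransGen.trans hq hr

theorem comp_eq {p q : G} (hq : q ∈ Comp PP B p) : Comp PP B q = Comp PP B p := by
  ext x
  exact ⟨fun h => comp_trans hq h, fun h => comp_trans (F.comp_symm hq) h⟩

omit F in
theorem comp_adj {p q r : G} (hp : p ∈ PP) (hq : q ∈ Comp PP B p) (hr : r ∈ PP) (h : B q r = -1) :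
    r ∈ Comp PP B p := Relation.ReflTransGen.tail hq ⟨comp_sub hp hq, hr, h⟩

/-- different components are perpendicular -/
theorem perp {p q r : G} (hp : p ∈ PP) (hq : q ∈ Comp PP B p) (hr : r ∈ PP) (h : r ∉ Comp PP B p) : B q r = 1 := by
  by_contra h1
  exact h (comp_adj hp hq hr (ne_one h1))

theorem comp_mul {p q r : G} (hp : p ∈ PP) (hq : q ∈ Comp PP B p) (hr : r ∈ Comp PP B p) (h : B q r = -1) :
    q * r ∈ Comp PP B p := by
  have hq' := comp_sub hp hq
  have hr' := comp_sub hp hr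
  refine comp_adj hp hq (F.tr q hq' r hr' h) ?_
  rw [F.mul q (F.sub q hq') q (F.sub q hq') r (F.sub r hr'), F.self q (F.sub q hq'), h]
  decide

/-- each component is a connected `Form` on its span -/
theorem comp {p : G} (hp : p ∈ PP) : Form (closure (Comp PP B p)) (Comp PP B p) B := by
  have hle : closure (Comp PP B p) ≤ U := (closure_le U).2 fun q hq => F.sub q (comp_sub hp hq)
  refine ⟨fun u hu => F.sq u (hle hu), fun u hu v hv => F.comm u (hle hu) v (hle hv),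
    fun q hq => subset_closure hq, le_refl _, fun u hu v hv w hw => F.mul u (hle hu) v (hle hv) w (hle hw),
    fun u hu v hv => F.symm u (hle hu) v (hle hv), fun u hu => F.self u (hle hu),
    fun q hq r hr h => F.comp_mul hp hq hr h, ?_⟩
  intro A hA hne hcl
  refine Set.Subset.antisymm hA fun q hq => ?_
  obtain ⟨a, ha⟩ := hne
  have h1 : q ∈ Comp PP B a := comp_trans (F.comp_symm (hA ha)) hq
  clear hq
  induction h1 with
  | refl => exact ha
  | @tail b c h2 h3 ih =>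
    have hb : b ∈ Comp PP B p := comp_trans (hA ha) h2
    exact hcl b ih c (comp_adj hp hb h3.2.1 h3.2.2) h3.2.2

theorem span_le {p : G} (hp : p ∈ PP) : closure (Comp PP B p) ≤ U :=
  (closure_le U).2 fun q hq => F.sub q (comp_sub hp hq)

/-- **diameter 2** -/
theorem diam {p q : G} (hp : p ∈ PP) (hq : q ∈ Comp PP B p) :
    p = q ∨ B p q = -1 ∨ ∃ w ∈ PP, B p w = -1 ∧ B w q = -1 := by
  induction hq with
  | refl => exact Or.inl rfl
  | @tail b c h2 h3 ih =>
    obtain ⟨hb, hc, hbc⟩ := h3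
    have hpU := F.sub p hp
    have hbU := F.sub b hb
    have hcU := F.sub c hc
    rcases ih with rfl | h | ⟨w, hw, h4, h5⟩
    · exact Or.inr (Or.inl hbc)
    · exact Or.inr (Or.inr ⟨b, hb, h, hbc⟩)
    · by_cases h6 : B p b = -1
      · exact Or.inr (Or.inr ⟨b, hb, h6, hbc⟩)
      · have h6 := ne_neg h6
        have hwU := F.sub w hw
        by_cases h7 : B w c = -1
        · exact Or.inr (Or.inr ⟨w, hw, h4, h7⟩)
        · have h7 := ne_neg h7
          refine Or.inr (Or.inr ⟨w * b, F.tr w hw b hb h5, ?_, ?_⟩)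
          · rw [F.mul p hpU w hwU b hbU, h4, h6, mul_one]
          · rw [F.mul_left hwU hbU hcU, h7, hbc, one_mul]

/-- **CLAIM** of #18037 (3). -/
theorem claim {z0 : G} (hz0 : z0 ∈ PP) (φ : G → ℤˣ)
    (hφ : ∀ p ∈ PP, ∀ q ∈ PP, B p q = -1 → φ (p * q) = φ p * φ q) (hash : ∀ p ∈ PP, φ p = 1 → B p z0 = 1)
    (hne : ∃ q ∈ PP, B q z0 = -1) {p : G} (hp : p ∈ Comp PP B z0) : B p z0 = φ p := by
  have hzU := F.sub z0 hz0
  obtain ⟨q, hq, hqz⟩ := hne
  have hqφ : φ q = -1 := by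
    by_contra h
    rw [hash q hq (ne_neg h)] at hqz
    exact neg_ne hqz.symm
  have hpP := comp_sub hz0 hp
  -- adjacent points
  have adj : ∀ a ∈ PP, ∀ b ∈ PP, B a b = -1 → φ a = -1 → φ b = -1 → B a z0 = -1 → B b z0 = -1 := by
    intro a ha b hb hab h1 h2 h3
    have h4 := hash _ (F.tr a ha b hb hab) (by rw [hφ a ha b hb hab, h1, h2]; decide)
    rw [F.mul_left (F.sub a ha) (F.sub b hb) hzU, h3] at h4
    by_contra h5
    rw [ne_neg h5] at h4
    exact absurd h4 (by decide)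
  rcases Int.units_eq_one_or (φ p) with h | h
  · rw [h]; exact hash p hpP h
  · rw [h]
    have hqC : q ∈ Comp PP B z0 := comp_adj hz0 (comp_self z0) hq (by rw [F.symm z0 hzU q (F.sub q hq)]; exact hqz)
    have hpq : p ∈ Comp PP B q := by rw [F.comp_eq hqC]; exact hp
    rcases F.diam hq hpq with rfl | h1 | ⟨w, hw, h1, h2⟩
    · exact hqz
    · exact adj q hq p hpP h1 hqφ h hqz
    · by_cases h3 : B q p = -1
      · exact adj q hq p hpP h3 hqφ h hqz
      have h3 := ne_neg h3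
      have hwU := F.sub w hw
      have hpU := F.sub p hpP
      have hqU := F.sub q hq
      by_cases h4 : φ w = -1
      · exact adj w hw p hpP h2 h4 h (adj q hq w hw h1 hqφ h4 hqz)
      · have h4 := ne_neg h4
        have h5 := hash w hw h4
        have h6 : B q (w * p) = -1 := by rw [F.mul q hqU w hwU p hpU, h1, h3, mul_one]
        have h7 := adj q hq (w * p) (F.tr w hw p hpP h2) h6 hqφ (by rw [hφ w hw p hpP h2, h4, h, one_mul]) hqz
        rwa [F.mul_left hwU hpU hzU, h5, one_mul] at h7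

/-- **two of the `z`'s in one component are equal** -/
theorem eq_of_comp {z0 z1 : G} (hz0 : z0 ∈ PP) (hz1 : z1 ∈ PP) (φ : G → ℤˣ)
    (hφ : ∀ p ∈ PP, ∀ q ∈ PP, B p q = -1 → φ (p * q) = φ p * φ q) (hash0 : ∀ p ∈ PP, φ p = 1 → B p z0 = 1)
    (hash1 : ∀ p ∈ PP, φ p = 1 → B p z1 = 1) (hne0 : ∃ q ∈ PP, B q z0 = -1) (hne1 : ∃ q ∈ PP, B q z1 = -1)
    (ppr : ∀ p ∈ PP, ∀ q ∈ PP, (∀ y ∈ U, B (p * q) y = 1) → p = q) (h : z1 ∈ Comp PP B z0) : z1 = z0 := by
  have hU0 := F.sub z0 hz0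
  have hU1 := F.sub z1 hz1
  refine ppr z1 hz1 z0 hz0 (F.rad_of_pts (U.mul_mem hU1 hU0) fun p hp => ?_)
  have hpU := F.sub p hp
  rw [F.mul_left hU1 hU0 hpU, F.symm z1 hU1 p hpU, F.symm z0 hU0 p hpU]
  by_cases h1 : p ∈ Comp PP B z0
  · have h2 : p ∈ Comp PP B z1 := by rw [F.comp_eq h]; exact h1
    rw [F.claim hz0 φ hφ hash0 hne0 h1, F.claim hz1 φ hφ hash1 hne1 h2, units_mul_self]
  · rw [F.symm p hpU z1 hU1, F.symm p hpU z0 hU0, F.perp hz0 h hp h1, F.perp hz0 (comp_self z0) hp h1, one_mul]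

end Form0

end Cfsg.Agent.Omega.NOThreeL.RTools.Many

end

section


/-!
# NO-3L, box R ∩ (A), `q = 2`, all `k`, symplectic case: the points `z_1, .., z_k` (#18037 (3), (b), (6), (7))

`Sys H U PP B z` : form, `H`-invariant points, the points `z_i` with the property (#) of #18037.

* `Sys.notComp` : different `z_i` lie in different components; `Sys.occ` : all components occur;
* `Sys.perm` : `C_H(e)` permutes the `z_i`, `e = z_1 .. z_k`; `Sys.e_eq`;
* `Sys.mul_om` : (b) `Y1 = ⋂ z_i^⊥` is generated by its points, `U = Y1 ⟨w_1, .., w_k⟩`;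
* `Sys.six` : (6), `Sys.seven` : (7).
-/

set_option autoImplicit false

namespace Cfsg.Agent.Omega.NOThreeL.RTools.Many

open Subgroup Cfsg.Agent.Omega.NOThreeL.RTools.Symp

variable {G : Type*} [Group G]

/-- ordered product -/
def LP {k : ℕ} (f : Fin k → G) : G := (List.ofFn f).prod

theorem LP_mem {k : ℕ} {f : Fin k → G} {U : Subgroup G} (h : ∀ i, f i ∈ U) : LP f ∈ U := by
  refine Subgroup.list_prod_mem U fun x hx => ?_
  obtain ⟨i, rfl⟩ := List.mem_ofFn.1 hx
  exact h i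

theorem LP_succ {k : ℕ} (f : Fin (k + 1) → G) : LP f = f 0 * LP fun i => f i.succ := by
  simp [LP, List.ofFn_succ]

theorem LP_mul {k : ℕ} {U : Subgroup G} (hc : ∀ u ∈ U, ∀ v ∈ U, u * v = v * u) (f g : Fin k → G)
    (hf : ∀ i, f i ∈ U) (hg : ∀ i, g i ∈ U) : LP (fun i => f i * g i) = LP f * LP g := by
  induction k with
  | zero => simp [LP]
  | succ n ih =>
    rw [LP_succ, LP_succ f, LP_succ g, ih (fun i => f i.succ) (fun i => g i.succ) (fun i => hf _) (fun i => hg _)]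
    have h1 := hc (g 0) (hg 0) (LP fun i => f i.succ) (LP_mem fun i => hf _)
    calc f 0 * g 0 * ((LP fun i => f i.succ) * LP fun i => g i.succ)
        = f 0 * (g 0 * LP fun i => f i.succ) * LP fun i => g i.succ := by group
      _ = f 0 * ((LP fun i => f i.succ) * g 0) * LP fun i => g i.succ := by rw [h1]
      _ = _ := by group

theorem LP_conj {k : ℕ} (f : Fin k → G) (h : G) : h * LP f * h⁻¹ = LP fun i => h * f i * h⁻¹ := by
  induction k with
  | zero => simp [LP]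
  | succ n ih =>
    rw [LP_succ, LP_succ, ← ih]
    group

theorem LP_one {k : ℕ} : LP (fun _ : Fin k => (1 : G)) = 1 := by
  induction k with
  | zero => simp [LP]
  | succ n ih => rw [LP_succ, ih, mul_one]

theorem LP_single {k : ℕ} (f : Fin k → G) (j : Fin k) (h : ∀ i, i ≠ j → f i = 1) : LP f = f j := by
  induction k with
  | zero => exact j.elim0
  | succ n ih =>
    rw [LP_succ]
    refine Fin.cases (fun h => ?_) (fun j h => ?_) j h
    · have h1 : (fun i : Fin n => f i.succ) = fun _ => 1 := funext fun i => h _ (Fin.succ_ne_zero i)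
      rw [h1, LP_one, mul_one]
    · have h1 : LP (fun i : Fin n => f i.succ) = f j.succ := ih _ j fun i hi => h _ fun h2 => hi (Fin.succ_injective _ h2)
      rw [h1, h 0 (Fin.succ_ne_zero j).symm, one_mul]

theorem LP_perm {k : ℕ} {U : Subgroup G} (hc : ∀ u ∈ U, ∀ v ∈ U, u * v = v * u) (f : Fin k → G)
    (hf : ∀ i, f i ∈ U) (σ : Equiv.Perm (Fin k)) : LP (fun i => f (σ i)) = LP f := by
  refine List.Perm.prod_eq' (σ.ofFn_comp_perm f) ?_
  rw [List.pairwise_iff_forall_sublist]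
  intro a b hab
  have ha : a ∈ List.ofFn (f ∘ ⇑σ) := hab.subset (by simp)
  have hb : b ∈ List.ofFn (f ∘ ⇑σ) := hab.subset (by simp)
  obtain ⟨i, rfl⟩ := List.mem_ofFn.1 ha
  obtain ⟨j, rfl⟩ := List.mem_ofFn.1 hb
  exact hc _ (hf _) _ (hf _)

/-- the components are moved by isometries -/
theorem comp_conj {U : Subgroup G} {PP : Set G} {B : G → G → ℤˣ} (F : Form0 U PP B) {H : Subgroup G}
    (nP : ∀ h ∈ H, ∀ p ∈ PP, h * p * h⁻¹ ∈ PP)
    (inv : ∀ h ∈ H, ∀ u ∈ U, ∀ v ∈ U, B (h * u * h⁻¹) (h * v * h⁻¹) = B u v) {h p q : G} (hh : h ∈ H)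
    (hq : q ∈ Comp PP B p) : h * q * h⁻¹ ∈ Comp PP B (h * p * h⁻¹) := by
  induction hq with
  | refl => exact Relation.ReflTransGen.refl
  | @tail b c _ h2 ih =>
    exact Relation.ReflTransGen.tail ih ⟨nP h hh _ h2.1, nP h hh _ h2.2.1,
      (inv h hh _ (F.sub _ h2.1) _ (F.sub _ h2.2.1)).trans h2.2.2⟩

/-- **the system of the points `z_i`** -/
structure Sys (H U : Subgroup G) (PP : Set G) (B : G → G → ℤˣ) {k : ℕ} (z w : Fin k → G) : Prop
    extends Form0 U PP B where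
  nU : ∀ h ∈ H, ∀ u ∈ U, h * u * h⁻¹ ∈ U
  nP : ∀ h ∈ H, ∀ p ∈ PP, h * p * h⁻¹ ∈ PP
  isom : ∀ h ∈ H, ∀ u ∈ U, ∀ v ∈ U, B (h * u * h⁻¹) (h * v * h⁻¹) = B u v
  /-- `PP ∩ p Rad = {p}` -/
  ppr : ∀ p ∈ PP, ∀ q ∈ PP, (∀ y ∈ U, B (p * q) y = 1) → p = q
  zP : ∀ i, z i ∈ PP
  zi : Function.Injective z
  wP : ∀ i, w i ∈ PP
  wz : ∀ i, B (w i) (z i) = -1
  /-- (#) -/
  hash : ∃ φ : G → ℤˣ, (∀ p ∈ PP, ∀ q ∈ PP, B p q = -1 → φ (p * q) = φ p * φ q) ∧
    ∀ p ∈ PP, φ p = 1 → ∀ i, B p (z i) = 1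
  /-- `H = N C`, `N` fixes the components, `C` fixes `e` -/
  fac : ∀ h ∈ H, ∃ n ∈ H, ∃ c ∈ H, h = n * c ∧ (∀ p ∈ PP, n * p * n⁻¹ ∈ Comp PP B p) ∧ c * LP z = LP z * c
  /-- `PP = z_1^H` -/
  tz : ∀ p ∈ PP, ∃ h ∈ H, ∃ i, p = h * z i * h⁻¹

namespace Sys

variable {H U : Subgroup G} {PP : Set G} {B : G → G → ℤˣ} {k : ℕ} {z w : Fin k → G} (s : Sys H U PP B z w)
include s

theorem zU (i : Fin k) : z i ∈ U := s.sub _ (s.zP i)

theorem wU (i : Fin k) : w i ∈ U := s.sub _ (s.wP i)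

theorem notComp {i j : Fin k} (h : j ≠ i) : z j ∉ Comp PP B (z i) := by
  intro h1
  obtain ⟨φ, h2, h3⟩ := s.hash
  exact h (s.zi (s.toForm0.eq_of_comp (s.zP i) (s.zP j) φ h2 (fun p hp hp' => h3 p hp hp' i)
    (fun p hp hp' => h3 p hp hp' j) ⟨w i, s.wP i, s.wz i⟩ ⟨w j, s.wP j, s.wz j⟩ s.ppr h1))

theorem B_LP {u : G} (hu : u ∈ U) {m : ℕ} (f : Fin m → G) (hf : ∀ i, f i ∈ U) :
    B u (LP f) = ∏ i, B u (f i) := by
  induction m with
  | zero => simpa [LP] using s.toForm0.one_right hu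
  | succ n ih =>
    rw [LP_succ, s.mul u hu _ (hf 0) _ (LP_mem fun i => hf _), ih (fun i => f i.succ) fun i => hf _,
      Fin.prod_univ_succ]

theorem eU : LP z ∈ U := LP_mem s.zU

theorem B_of_comp {i j : Fin k} {q : G} (hq : q ∈ Comp PP B (z i)) (h : j ≠ i) : B q (z j) = 1 :=
  s.toForm0.perp (s.zP i) hq (s.zP j) (s.notComp h)

theorem B_e {i : Fin k} {q : G} (hq : q ∈ Comp PP B (z i)) : B q (LP z) = B q (z i) := by
  rw [s.B_LP (s.sub _ (Form0.comp_sub (s.zP i) hq)) z s.zU]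
  exact Finset.prod_eq_single i (fun j _ h => s.B_of_comp hq h) fun h => absurd (Finset.mem_univ i) h

theorem w_comp (i : Fin k) : w i ∈ Comp PP B (z i) :=
  Form0.comp_adj (s.zP i) (Form0.comp_self _) (s.wP i) (by rw [s.symm _ (s.zU i) _ (s.wU i)]; exact s.wz i)

theorem zz (i j : Fin k) : B (z i) (z j) = 1 := by
  by_cases h : j = i
  · rw [h]; exact s.self _ (s.zU i)
  · exact s.B_of_comp (Form0.comp_self _) h

/-- `e` is not in the radical -/
theorem w_e (i : Fin k) : B (w i) (LP z) = -1 := by rw [s.B_e (s.w_comp i)]; exact s.wz i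

theorem z_w {i j : Fin k} (h : i ≠ j) : B (z i) (w j) = 1 := by
  rw [s.symm _ (s.zU i) _ (s.wU j)]; exact s.B_of_comp (s.w_comp j) h

theorem z_w_self (i : Fin k) : B (z i) (w i) = -1 := by rw [s.symm _ (s.zU i) _ (s.wU i)]; exact s.wz i

theorem conj_comp {h p q : G} (hh : h ∈ H) (hq : q ∈ Comp PP B p) : h * q * h⁻¹ ∈ Comp PP B (h * p * h⁻¹) :=
  comp_conj s.toForm0 s.nP s.isom hh hq

/-- **all components occur** -/
theorem occ {p : G} (hp : p ∈ PP) : ∃ i, p ∈ Comp PP B (z i) := by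
  obtain ⟨h, hh, i, rfl⟩ := s.tz p hp
  obtain ⟨n, hn, c, hc, rfl, h1, h2⟩ := s.fac h hh
  have hy := s.nP c hc _ (s.zP i)
  obtain ⟨j, hj⟩ : ∃ j, c * z i * c⁻¹ ∈ Comp PP B (z j) := by
    by_contra hcon
    push Not at hcon
    have hq := s.nP c hc _ (s.wP i)
    have h3 : B (c * w i * c⁻¹) (c * z i * c⁻¹) = -1 := by rw [s.isom c hc _ (s.wU i) _ (s.zU i)]; exact s.wz i
    have h4 : B (c * w i * c⁻¹) (LP z) = -1 := by
      have h5 : c * LP z * c⁻¹ = LP z := by rw [h2, mul_inv_cancel_right]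
      rw [← h5, s.isom c hc _ (s.wU i) _ s.eU]
      exact s.w_e i
    rw [s.B_LP (s.sub _ hq) z s.zU, Finset.prod_eq_one] at h4
    · exact absurd h4 (by decide)
    · intro j _
      by_contra h5
      have h6 : z j ∈ Comp PP B (c * w i * c⁻¹) := Form0.comp_adj hq (Form0.comp_self _) (s.zP j) (ne_one h5)
      have h7 : c * z i * c⁻¹ ∈ Comp PP B (c * w i * c⁻¹) := Form0.comp_adj hq (Form0.comp_self _) hy h3
      exact hcon j (by rw [s.toForm0.comp_eq h6]; exact h7)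
  refine ⟨j, ?_⟩
  have h3 : n * c * z i * (n * c)⁻¹ = n * (c * z i * c⁻¹) * n⁻¹ := by group
  rw [h3]
  exact Form0.comp_trans hj (h1 _ hy)

/-- `h ∈ H` permutes the components -/
theorem exists_perm {h : G} (hh : h ∈ H) : ∃ σ : Equiv.Perm (Fin k), ∀ i, h * z i * h⁻¹ ∈ Comp PP B (z (σ i)) := by
  choose f hf using fun i => s.occ (s.nP h hh _ (s.zP i))
  have hinj : Function.Injective f := by
    intro i j hij
    by_contra hne
    have h1 := hf i
    have h2 := hf j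
    rw [hij] at h1
    have h3 : h * z j * h⁻¹ ∈ Comp PP B (h * z i * h⁻¹) := by rw [s.toForm0.comp_eq h1]; exact h2
    have h4 := s.conj_comp (H.inv_mem hh) h3
    have e1 : ∀ x, h⁻¹ * (h * x * h⁻¹) * h⁻¹⁻¹ = x := fun x => by group
    rw [e1, e1] at h4
    exact s.notComp (fun h5 => hne h5.symm) h4
  exact ⟨Equiv.ofBijective f (Finite.injective_iff_bijective.1 hinj), fun i => by simpa using hf i⟩

theorem B_conj_e {h : G} (hh : h ∈ H) {i : Fin k} {q : G} (hq : q ∈ Comp PP B (h * z i * h⁻¹)) :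
    B q (h * LP z * h⁻¹) = B q (h * z i * h⁻¹) := by
  have hqP := Form0.comp_sub (s.nP h hh _ (s.zP i)) hq
  have h1 := s.conj_comp (H.inv_mem hh) hq
  have e1 : ∀ x, h⁻¹ * (h * x * h⁻¹) * h⁻¹⁻¹ = x := fun x => by group
  have e2 : ∀ x, h * (h⁻¹ * x * h⁻¹⁻¹) * h⁻¹ = x := fun x => by group
  rw [e1] at h1
  have h2 := s.nU _ (H.inv_mem hh) q (s.sub q hqP)
  rw [← e2 q, s.isom h hh _ h2 _ s.eU, s.isom h hh _ h2 _ (s.zU i)]
  exact s.B_e h1

/-- `h e h⁻¹ = e` mod `Rad` gives `h z_i h⁻¹ = z_(σ i)` and `h e h⁻¹ = e` -/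
theorem perm_of {h : G} (hh : h ∈ H) (h0 : ∀ q ∈ PP, B q (h * LP z * h⁻¹) = B q (LP z)) :
    ∃ σ : Equiv.Perm (Fin k), ∀ i, h * z i * h⁻¹ = z (σ i) := by
  obtain ⟨σ, hσ⟩ := s.exists_perm hh
  refine ⟨σ, fun i => ?_⟩
  have hyP := s.nP h hh _ (s.zP i)
  have hyU := s.sub _ hyP
  refine s.ppr _ hyP _ (s.zP _) (s.toForm0.rad_of_pts (U.mul_mem hyU (s.zU _)) fun q hq => ?_)
  have hqU := s.sub q hq
  rw [s.toForm0.mul_left hyU (s.zU _) hqU, s.symm _ hyU q hqU, s.symm _ (s.zU _) q hqU]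
  by_cases h1 : q ∈ Comp PP B (z (σ i))
  · have h2 : q ∈ Comp PP B (h * z i * h⁻¹) := by rw [s.toForm0.comp_eq (hσ i)]; exact h1
    rw [← s.B_conj_e hh h2, h0 q hq, s.B_e h1, units_mul_self]
  · rw [s.symm q hqU _ hyU, s.symm q hqU _ (s.zU _), s.toForm0.perp (s.zP _) (hσ i) hq h1,
      s.toForm0.perp (s.zP _) (Form0.comp_self _) hq h1, one_mul]

theorem e_eq_of {h : G} (h0 : ∃ σ : Equiv.Perm (Fin k), ∀ i, h * z i * h⁻¹ = z (σ i)) :
    h * LP z * h⁻¹ = LP z := by
  obtain ⟨σ, hσ⟩ := h0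
  rw [LP_conj, funext hσ]
  exact LP_perm s.comm z s.zU σ

theorem e_eq {h : G} (hh : h ∈ H) (h0 : ∀ q ∈ PP, B q (h * LP z * h⁻¹) = B q (LP z)) : h * LP z * h⁻¹ = LP z :=
  s.e_eq_of (s.perm_of hh h0)

/-- `K = C_H(e)` permutes the `z_i` -/
theorem perm {h : G} (hh : h ∈ H) (hc : h * LP z = LP z * h) : ∃ σ : Equiv.Perm (Fin k), ∀ i, h * z i * h⁻¹ = z (σ i) :=
  s.perm_of hh fun q _ => by rw [hc, mul_inv_cancel_right]

/-- the points of `Y1` -/
theorem pt_Y {p : G} (hp : p ∈ PP) {i : Fin k} (hi : p ∈ Comp PP B (z i)) (h : B (z i) p = 1) (j : Fin k) :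
    B (z j) p = 1 := by
  by_cases hj : j = i
  · rw [hj]; exact h
  · rw [s.symm _ (s.zU j) _ (s.sub p hp)]
    exact s.B_of_comp hi hj

/-- **(b)**: `u ω(u) ∈ ⟨PP ∩ Y1⟩` -/
theorem mul_om {u : G} (hu : u ∈ U) :
    u * LP (fun i => if B (z i) u = -1 then w i else 1) ∈ closure {p | p ∈ PP ∧ ∀ i, B (z i) p = 1} := by
  have hmem : ∀ v : G, ∀ i, (if B (z i) v = -1 then w i else 1) ∈ U := fun v i => by
    split_ifs
    · exact s.wU i
    · exact U.one_mem
  have h0 : ∀ x ∈ closure PP, x ∈ U ∧ x * LP (fun i => if B (z i) x = -1 then w i else 1) ∈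
      closure {p | p ∈ PP ∧ ∀ i, B (z i) p = 1} := by
    intro x hx
    refine closure_induction (p := fun x _ => x ∈ U ∧ x * LP (fun i => if B (z i) x = -1 then w i else 1) ∈
      closure {p | p ∈ PP ∧ ∀ i, B (z i) p = 1}) ?_ ?_ ?_ ?_ hx
    · intro p hp
      refine ⟨s.sub p hp, ?_⟩
      obtain ⟨j, hj⟩ := s.occ hp
      have hpU := s.sub p hp
      have h1 : ∀ i, i ≠ j → (if B (z i) p = -1 then w i else 1) = 1 := by
        intro i hi
        have h2 : B (z i) p = 1 := by rw [s.symm _ (s.zU i) _ hpU]; exact s.B_of_comp hj hi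
        rw [if_neg (by rw [h2]; decide)]
      rw [LP_single _ j h1]
      by_cases h2 : B (z j) p = -1
      · rw [if_pos h2]
        have F := s.toForm0.comp (s.zP j)
        have hm : p * w j ∈ closure (Comp PP B (z j)) := mul_mem (subset_closure hj) (subset_closure (s.w_comp j))
        have h3 : B (z j) (p * w j) = 1 := by
          rw [s.mul _ (s.zU j) _ hpU _ (s.wU j), h2, s.z_w_self j]; decide
        refine closure_mono ?_ (F.mem_closure (Form0.comp_self _) hm h3)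
        rintro q ⟨hq, hq1⟩
        have hqP := Form0.comp_sub (s.zP j) hq
        exact ⟨hqP, s.pt_Y hqP hq hq1⟩
      · rw [if_neg h2, mul_one]
        exact subset_closure ⟨hp, s.pt_Y hp hj (ne_neg h2)⟩
    · refine ⟨U.one_mem, ?_⟩
      have h1 : (fun i : Fin k => if B (z i) 1 = -1 then w i else 1) = fun _ => 1 := by
        funext i
        rw [s.toForm0.one_right (s.zU i), if_neg (by decide)]
      rw [h1, LP_one, mul_one]
      exact one_mem _
    · rintro x y _ _ ⟨hx, h1⟩ ⟨hy, h2⟩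
      refine ⟨U.mul_mem hx hy, ?_⟩
      have h3 : (fun i : Fin k => if B (z i) (x * y) = -1 then w i else 1) =
          fun i => (if B (z i) x = -1 then w i else 1) * (if B (z i) y = -1 then w i else 1) := by
        funext i
        rw [s.mul _ (s.zU i) x hx y hy]
        rcases Int.units_eq_one_or (B (z i) x) with h4 | h4 <;> rcases Int.units_eq_one_or (B (z i) y) with h5 | h5 <;>
          rw [h4, h5] <;> simp [s.sq _ (s.wU i)]
      rw [h3, LP_mul s.comm _ _ (hmem x) (hmem y)]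
      have h4 := s.comm y hy _ (LP_mem (hmem x))
      have h5 : x * y * (LP (fun i => if B (z i) x = -1 then w i else 1) *
          LP (fun i => if B (z i) y = -1 then w i else 1)) =
          (x * LP (fun i => if B (z i) x = -1 then w i else 1)) *
          (y * LP (fun i => if B (z i) y = -1 then w i else 1)) := by
        calc x * y * (LP (fun i => if B (z i) x = -1 then w i else 1) *
            LP (fun i => if B (z i) y = -1 then w i else 1))
            = x * (y * LP (fun i => if B (z i) x = -1 then w i else 1)) *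
              LP (fun i => if B (z i) y = -1 then w i else 1) := by group
          _ = x * (LP (fun i => if B (z i) x = -1 then w i else 1) * y) *
              LP (fun i => if B (z i) y = -1 then w i else 1) := by rw [h4]
          _ = _ := by group
      rw [h5]
      exact mul_mem h1 h2
    · rintro x _ ⟨hx, h⟩
      rw [s.toForm0.inv hx]
      exact ⟨hx, h⟩
  exact (h0 u (s.gen hu)).2

/-- (b) -/
theorem Y_le {u : G} (hu : u ∈ U) (h : ∀ i, B (z i) u = 1) : u ∈ closure {p | p ∈ PP ∧ ∀ i, B (z i) p = 1} := by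
  have h1 := s.mul_om hu
  have h2 : (fun i : Fin k => if B (z i) u = -1 then w i else 1) = fun _ => 1 := by
    funext i
    rw [h i, if_neg (by decide)]
  rwa [h2, LP_one, mul_one] at h1

/-- `U = Y1 ⟨w_i⟩` : induction over `U` -/
theorem ind {P : G → Prop} (h0 : ∀ u ∈ U, (∀ i, B (z i) u = 1) → P u) (h1 : ∀ u ∈ U, ∀ j, P (u * w j) → P u) {u : G}
    (hu : u ∈ U) : P u := by
  classical
  have key : ∀ n : ℕ, ∀ u ∈ U, (Finset.univ.filter fun i => B (z i) u = -1).card = n → P u := by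
    intro n
    induction n with
    | zero =>
      intro u hu h2
      rw [Finset.card_eq_zero, Finset.filter_eq_empty_iff] at h2
      exact h0 u hu fun i => ne_neg (h2 (Finset.mem_univ i))
    | succ n ih =>
      intro u hu h2
      obtain ⟨j, hj⟩ : (Finset.univ.filter fun i => B (z i) u = -1).Nonempty := by
        rw [← Finset.card_pos, h2]; omega
      have hj' := (Finset.mem_filter.1 hj).2
      refine h1 u hu j (ih _ (U.mul_mem hu (s.wU j)) ?_)
      have h3 : (Finset.univ.filter fun i => B (z i) (u * w j) = -1) =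
          (Finset.univ.filter fun i => B (z i) u = -1).erase j := by
        ext i
        rw [Finset.mem_erase, Finset.mem_filter, Finset.mem_filter, s.mul _ (s.zU i) u hu _ (s.wU j)]
        by_cases hij : i = j
        · subst hij
          rw [hj', s.z_w_self i]
          simp
        · rw [s.z_w hij, mul_one]
          simp [hij]
      rw [h3, Finset.card_erase_of_mem hj, h2]
      rfl
  exact key _ u hu rfl

/-- **(6)** : if `W1 ≤ Y1` contains a conjugate of `e`, different from `e`, then some point of `Y1` is not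
perpendicular to `W1`. -/
theorem six {W1 : Subgroup G} (WU : W1 ≤ U) {h : G} (hh : h ∈ H)
    (hW : h * LP z * h⁻¹ ∈ W1) (hne : h * LP z * h⁻¹ ≠ LP z) :
    ∃ p ∈ PP, (∀ i, B (z i) p = 1) ∧ ∃ x ∈ W1, B p x = -1 := by
  by_contra hcon
  push Not at hcon
  have hyU := WU hW
  have h1 : ∀ p ∈ PP, (∀ i, B (z i) p = 1) → B p (h * LP z * h⁻¹) = 1 := fun p hp hp' =>
    ne_neg (hcon p hp hp' _ hW)
  obtain ⟨σ, hσ⟩ := s.exists_perm hh
  refine hne (s.e_eq_of ⟨σ, fun i => ?_⟩)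
  have F := s.toForm0.comp (s.zP (σ i))
  have hxP := s.nP h hh _ (s.zP i)
  have hxU := s.sub _ hxP
  have key : ∀ y ∈ closure (Comp PP B (z (σ i))), B (h * z i * h⁻¹ * z (σ i)) y = 1 := by
    rcases F.rad_or' (Form0.comp_self _) (x := h * z i * h⁻¹) (subset_closure (hσ i)) (fun p hp hp1 => by
      have hpP := Form0.comp_sub (s.zP _) hp
      have h2 := h1 p hpP (s.pt_Y hpP hp hp1)
      have h3 : p ∈ Comp PP B (h * z i * h⁻¹) := by rw [s.toForm0.comp_eq (hσ i)]; exact hp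
      rw [s.B_conj_e hh h3] at h2
      rw [s.symm _ hxU _ (s.sub p hpP)]
      exact h2) with h2 | h2
    · exfalso
      have h3 : h * w i * h⁻¹ ∈ Comp PP B (z (σ i)) :=
        Form0.comp_trans (hσ i) (s.conj_comp hh (s.w_comp i))
      have h4 := h2 _ (subset_closure h3)
      rw [s.isom h hh _ (s.zU i) _ (s.wU i), s.z_w_self] at h4
      exact neg_ne h4
    · exact h2
  refine s.ppr _ hxP _ (s.zP _) (s.toForm0.rad_of_pts (U.mul_mem hxU (s.zU _)) fun q hq => ?_)
  by_cases h2 : q ∈ Comp PP B (z (σ i))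
  · exact key q (subset_closure h2)
  · rw [s.toForm0.mul_left hxU (s.zU _) (s.sub q hq), s.toForm0.perp (s.zP _) (hσ i) hq h2,
      s.toForm0.perp (s.zP _) (Form0.comp_self _) hq h2, one_mul]

/-- **(7)** in one component -/
theorem seven {W1 : Subgroup G} (WU : W1 ≤ U) (WY : ∀ x ∈ W1, ∀ i, B (z i) x = 1)
    (habs : ∀ p ∈ PP, (∀ i, B (z i) p = 1) → (∃ x ∈ W1, B p x = -1) → p ∈ W1) {i : Fin k} {x0 : G}
    (hx0 : x0 ∈ Comp PP B (z i)) (hx1 : B (z i) x0 = 1) (hx2 : ∃ x ∈ W1, B x0 x = -1) {p : G}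
    (hp : p ∈ Comp PP B (z i)) (hp1 : B (z i) p = 1) (hne : p ≠ z i) : p ∈ W1 ∧ ∃ x ∈ W1, B p x = -1 := by
  have F := s.toForm0.comp (s.zP i)
  have hsub : ∀ q ∈ Comp PP B (z i), q ∈ PP := fun q hq => Form0.comp_sub (s.zP i) hq
  -- points of the component in `Y1`, not perpendicular to `W1`
  have habs' : ∀ q ∈ Comp PP B (z i), B (z i) q = 1 → (∃ x ∈ W1, B q x = -1) → q ∈ W1 := fun q hq hq1 =>
    habs q (hsub q hq) (s.pt_Y (hsub q hq) hq hq1)
  set P1 : Set G := {q | q ∈ Comp PP B (z i) ∧ B (z i) q = 1 ∧ ∃ x ∈ W1, B q x = -1} with hP1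
  set B0 : Subgroup G := closure (P1 ∪ {z i}) with hB0
  have hB0' : ∀ b ∈ B0, b ∈ closure (Comp PP B (z i)) ∧ B (z i) b = 1 := by
    intro b hb
    refine F.eq_one_of_closure (A := P1 ∪ {z i}) ?_ (subset_closure (Form0.comp_self _)) ?_ hb
    · rintro a (ha | rfl)
      · exact subset_closure ha.1
      · exact subset_closure (Form0.comp_self _)
    · rintro a (ha | rfl)
      · exact ha.2.1
      · exact s.self _ (s.zU i)
  have hnr : ¬ ∀ y ∈ closure (Comp PP B (z i)), B (z i) y = 1 := by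
    intro h
    have := h (w i) (subset_closure (s.w_comp i))
    rw [s.z_w_self] at this
    exact neg_ne this
  -- `p z_i ⊥` component gives `p = z_i`
  have hc : ∀ q ∈ Comp PP B (z i), (∀ y ∈ closure (Comp PP B (z i)), B (q * z i) y = 1) → q = z i := by
    intro q hq h
    have hqU := s.sub q (hsub q hq)
    refine s.ppr q (hsub q hq) _ (s.zP i) (s.toForm0.rad_of_pts (U.mul_mem hqU (s.zU i)) fun r hr => ?_)
    by_cases h2 : r ∈ Comp PP B (z i)
    · exact h r (subset_closure h2)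
    · rw [s.toForm0.mul_left hqU (s.zU _) (s.sub r hr), s.toForm0.perp (s.zP _) hq hr h2,
        s.toForm0.perp (s.zP _) (Form0.comp_self _) hr h2, one_mul]
  have habsB : ∀ q ∈ Comp PP B (z i), B (z i) q = 1 → (∃ a ∈ B0, B q a = -1) → q ∈ P1 := by
    rintro q hq hq1 ⟨a, ha, hqa⟩
    by_contra h
    have hqU := s.sub q (hsub q hq)
    have h1 : ∀ b ∈ P1 ∪ {z i}, B q b = 1 := by
      rintro b (hb | rfl)
      · by_contra h2
        exact h ⟨hq, hq1, b, habs' b hb.1 hb.2.1 hb.2.2, ne_one h2⟩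
      · rw [s.symm q hqU _ (s.zU i)]; exact hq1
    have h2 := (s.toForm0.eq_one_of_closure (A := P1 ∪ {z i}) (by
      rintro b (hb | rfl)
      · exact s.sub b (hsub b hb.1)
      · exact s.zU i) hqU h1 ha).2
    rw [h2] at hqa
    exact neg_ne hqa.symm
  have hnot : ∃ x ∈ B0, ∃ y ∈ B0, B x y = -1 := by
    have hx0P : x0 ∈ P1 := ⟨hx0, hx1, hx2⟩
    have hx0U := s.sub x0 (hsub x0 hx0)
    obtain ⟨x, hxW, hxx⟩ := hx2
    by_contra hcon
    push Not at hcon
    have h1 := (s.toForm0.eq_one_of_closure (A := {p | p ∈ PP ∧ ∀ i, B (z i) p = 1}) (fun a ha => s.sub a ha.1) hx0U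
      (fun q hq => by
        by_contra h2
        have h2 := ne_one h2
        have hqC : q ∈ Comp PP B (z i) := Form0.comp_adj (s.zP i) hx0 hq.1 h2
        have h3 : B q x0 = -1 := by rw [s.symm q (s.sub q hq.1) x0 hx0U]; exact h2
        have h4 : q ∈ P1 := ⟨hqC, hq.2 i, x0, habs' x0 hx0 hx1 hx0P.2.2, h3⟩
        exact hcon x0 (subset_closure (Or.inl hx0P)) q (subset_closure (Or.inl h4)) h2)
      (s.Y_le (WU hxW) (WY x hxW))).2
    rw [h1] at hxx
    exact neg_ne hxx.symm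
  have hfull : ∀ u ∈ closure (Comp PP B (z i)), B (z i) u = 1 → u ∈ B0 := fun u hu h =>
    F.full (Form0.comp_self _) hc (B0 := B0) (subset_closure (Or.inr rfl)) hB0' (by
      rw [hB0]
      refine closure_mono ?_
      rintro q (hq | rfl)
      · exact ⟨hq.1, subset_closure (Or.inl hq)⟩
      · exact ⟨Form0.comp_self _, subset_closure (Or.inr rfl)⟩)
      (fun q hq hq1 h2 => subset_closure (Or.inl (habsB q hq hq1 h2))) hnot hu h
  -- the point `p`
  have hpP1 : p ∈ P1 := by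
    by_contra hcon
    refine hne ?_
    have h1 : ∀ q ∈ Comp PP B (z i), B (z i) q = 1 → B p q = 1 := by
      intro q hq hq1
      by_contra h2
      exact hcon (habsB p hp hp1 ⟨q, hfull q (subset_closure hq) hq1, ne_one h2⟩)
    rcases F.rad_or' (Form0.comp_self _) (subset_closure hp) h1 with h2 | h2
    · exfalso
      -- `p` in the radical of its component
      obtain ⟨h, hh, j, rfl⟩ := s.tz p (hsub p hp)
      have h5 : h * w j * h⁻¹ ∈ Comp PP B (z i) := by
        have h6 := s.conj_comp hh (s.w_comp j)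
        exact Form0.comp_trans hp h6
      have h7 := h2 _ (subset_closure h5)
      rw [s.isom h hh _ (s.zU j) _ (s.wU j), s.z_w_self] at h7
      exact neg_ne h7
    · exact hc p hp h2
  exact ⟨habs' p hp hp1 hpP1.2.2, hpP1.2.2⟩

end Sys

end Cfsg.Agent.Omega.NOThreeL.RTools.Many

end
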